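import Groth.Agent.TateGlob.K775.ShaFin
import Groth.Agent.TateGlob.K828.FppfDisj
import Mathlib.RingTheory.Unramified.Field
import Mathlib.LinearAlgebra.FreeModule.Finite.Matrix

/-!
# Finiteness of the kernel of `H¹(K, G) → H¹(L, G)`

`G` a finite commutative group scheme over a field `K`, `L/K` finite separable.
-/

set_option autoImplicit false
set_option backward.isDefEq.respectTransparency.types false

universe u

open CategoryTheory CategoryTheory.Limits AlgebraicGeometry Opposite TensorProduct
open FunFld AdFn K828 K828.Cech K828.BigCoh K827.H1 K827.Tor K827.Abs K775.ShaFin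

namespace K775.FinKer

section Alg

variable {K B R : Type u} [Field K] [CommRing B] [Algebra K B] [Module.Finite K B] [CommRing R] [Algebra K R]

theorem finite_algHom_field {F : Type u} [Field F] [Algebra K F] : Finite (B →ₐ[K] F) := Finite.algHom K B F

theorem finite_algHom [Module.Finite K R] [IsReduced R] : Finite (B →ₐ[K] R) := by
  have hart : IsArtinianRing R := IsArtinianRing.of_finite K R
  have hfin : Finite (MaximalSpectrum R) := inferInstance
  have h1 : ∀ m : MaximalSpectrum R, Finite (B →ₐ[K] (R ⧸ m.asIdeal)) := fun m => by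
    let _ : Field (R ⧸ m.asIdeal) := Ideal.Quotient.field _
    exact Finite.algHom K B (R ⧸ m.asIdeal)
  refine Finite.of_injective (β := ∀ m : MaximalSpectrum R, (B →ₐ[K] (R ⧸ m.asIdeal)))
    (fun f m => (Ideal.Quotient.mkₐ K m.asIdeal).comp f) fun f g hfg => ?_
  ext b
  rw [← sub_eq_zero]
  have h2 : f b - g b ∈ nilradical R := by
    rw [nilradical_eq_sInf, Ideal.mem_sInf]
    intro J hJ
    have hJ' : J.IsPrime := hJ
    have hm : J.IsMaximal := IsArtinianRing.isMaximal_of_isPrime J
    have h3 := AlgHom.congr_fun (congrFun hfg ⟨J, hm⟩) b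
    exact (Ideal.Quotient.mk_eq_mk_iff_sub_mem _ _).1 h3
  rw [nilradical_eq_zero] at h2
  exact h2

end Alg

section Coh

variable {P : Precoverage Scheme.{u}} {S : Scheme.{u}}

theorem finite_ker (𝓗 : CohT P S) {F : BigSite.Ab P S} {T T' T'' : Over S} (p : T' ⟶ T)
    (hp : Sieve.generate (Presieve.singleton p) ∈ QuotSh.J P S T) (a b : T'' ⟶ T') (hab : a ≫ p = b ≫ p)
    (huniv : ∀ {W : Over S} (c d : W ⟶ T'), c ≫ p = d ≫ p → ∃ l : W ⟶ T'', l ≫ a = c ∧ l ≫ b = d)
    [Finite (F.obj.obj (op T''))] : Finite {x : 𝓗.H F 1 T // 𝓗.res p x = 0} := by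
  have hc : ∀ x : {x : 𝓗.H F 1 T // 𝓗.res p x = 0}, ∃ c : Pr F T', IsCls 𝓗 p c x.1 := fun x => exists_coc p x.1 x.2
  choose c hc using hc
  refine Finite.of_injective (fun x => c x T'' a b) fun x y hxy => ?_
  apply Subtype.ext
  refine IsCls.unique hp ((hc x).congr (c' := c y) ?_) (hc y)
  intro W d e hde
  obtain ⟨l, rfl, rfl⟩ := huniv d e hde
  rw [(hc x).isCoc.nat l a b hab, (hc y).isCoc.nat l a b hab]
  congr 1
  exact hxy.symm

end Coh

section Geo

variable {K L : Type u} [Field K] [Field L] [Algebra K L]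

/-- Pairs of points of `Spec L`. -/
theorem exists_pair {W : Over (Spec (CommRingCat.of K))} (c d : W ⟶ specOf (algebraMap K L)) :
    ∃ l : W ⟶ specOf (algebraMap K (L ⊗[K] L)),
      l ≫ specOfHom (algebraMap K L) (algebraMap K (L ⊗[K] L)) Algebra.TensorProduct.includeLeftRingHom
        (by ext x; exact (Algebra.TensorProduct.includeLeft : L →ₐ[K] L ⊗[K] L).commutes x) = c ∧
      l ≫ specOfHom (algebraMap K L) (algebraMap K (L ⊗[K] L))
        ((Algebra.TensorProduct.includeRight : L →ₐ[K] L ⊗[K] L) : L →+* L ⊗[K] L)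
        (by ext x; exact (Algebra.TensorProduct.includeRight : L →ₐ[K] L ⊗[K] L).commutes x) = d := by
  have hw : c.left ≫ Spec.map (CommRingCat.ofHom (algebraMap K L)) =
      d.left ≫ Spec.map (CommRingCat.ofHom (algebraMap K L)) := (Over.w c).trans (Over.w d).symm
  let l₀ : W.left ⟶ Spec (CommRingCat.of (L ⊗[K] L)) := pullback.lift c.left d.left hw ≫ (pullbackSpecIso K L L).hom
  have h1 : l₀ ≫ Spec.map (CommRingCat.ofHom Algebra.TensorProduct.includeLeftRingHom) = c.left := by
    dsimp only [l₀]
    rw [Category.assoc, pullbackSpecIso_hom_fst, pullback.lift_fst]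
  have h2 : l₀ ≫ Spec.map (CommRingCat.ofHom
      ((Algebra.TensorProduct.includeRight : L →ₐ[K] L ⊗[K] L) : L →+* L ⊗[K] L)) = d.left := by
    dsimp only [l₀]
    have h3 := pullbackSpecIso_hom_snd K L L
    rw [Category.assoc]
    refine Eq.trans (congrArg (fun z => pullback.lift c.left d.left hw ≫ z) h3) ?_
    rw [pullback.lift_snd]
  clear_value l₀
  refine ⟨Over.homMk l₀ ?_, ?_, ?_⟩
  · rw [← Over.w c]
    change l₀ ≫ Spec.map (CommRingCat.ofHom (algebraMap K (L ⊗[K] L))) =
      c.left ≫ Spec.map (CommRingCat.ofHom (algebraMap K L))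
    rw [← h1, Category.assoc, ← Spec.map_comp, ← CommRingCat.ofHom_comp]
  · ext1
    exact h1
  · ext1
    exact h2

theorem finite_pts {R : Type u} [CommRing R] [Algebra K R] [Module.Finite K R] [IsReduced R]
    (G : Over (Spec (CommRingCat.of K))) [IsFinite G.hom] : Finite (specOf (algebraMap K R) ⟶ G) := by
  obtain ⟨B, _, _, hBf, ⟨i⟩⟩ := exists_alg G
  have h := fun f : specOf (algebraMap K R) ⟶ G => exists_ring (f ≫ i.inv)
  choose χ hχ hf using h
  have := finite_algHom (K := K) (B := B) (R := R)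
  refine Finite.of_injective (fun f => ({ χ f with commutes' := fun x => RingHom.congr_fun (hχ f) x } : B →ₐ[K] R))
    fun f g hfg => ?_
  have h1 : χ f = χ g := by
    ext b
    exact AlgHom.congr_fun hfg b
  have h2 : f ≫ i.inv = g ≫ i.inv := by
    rw [hf f, hf g]
    congr 1
  exact (cancel_mono i.inv).1 h2

theorem isReduced_tensor [FiniteDimensional K L] [Algebra.IsSeparable K L] : IsReduced (L ⊗[K] L) := by
  have h1 : Algebra.FormallyUnramified K L := Algebra.FormallyUnramified.of_isSeparable K L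
  have h2 : Algebra.FormallyUnramified L (L ⊗[K] L) := inferInstance
  exact Algebra.FormallyUnramified.isReduced_of_field L (L ⊗[K] L)

/-- The morphism `Spec L ⟶ Spec K` as a morphism of `K`-schemes. -/
noncomputable abbrev pL (K L : Type u) [Field K] [Field L] [Algebra K L] :
    specOf (algebraMap K L) ⟶ Over.mk (𝟙 (Spec (CommRingCat.of K))) := Over.homMk (specOf (algebraMap K L)).hom

theorem generate_mem (K L : Type u) [Field K] [Field L] [Algebra K L] [FiniteDimensional K L] :
    Sieve.generate (Presieve.singleton (pL K L)) ∈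
      QuotSh.J Scheme.fppfPrecoverage (Spec (CommRingCat.of K)) (Over.mk (𝟙 (Spec (CommRingCat.of K)))) := by
  refine K828.FppfDisj.generate_mem (pL K L) ?_ ?_ ?_
  · change Flat (Spec.map (CommRingCat.ofHom (algebraMap K L)))
    rw [HasRingHomProperty.Spec_iff (P := @Flat)]
    exact RingHom.flat_algebraMap_iff.mpr inferInstance
  · change LocallyOfFinitePresentation (Spec.map (CommRingCat.ofHom (algebraMap K L)))
    rw [HasRingHomProperty.Spec_iff (P := @LocallyOfFinitePresentation)]
    have : Algebra.FinitePresentation K L := (Algebra.FinitePresentation.of_finiteType).mp inferInstance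
    exact RingHom.finitePresentation_algebraMap.mpr this
  · refine ⟨fun y => ⟨IsLocalRing.closedPoint L, ?_⟩⟩
    have : Subsingleton ((Over.mk (𝟙 (Spec (CommRingCat.of K)))).left : Scheme.{u}) :=
      inferInstanceAs (Subsingleton (PrimeSpectrum K))
    exact Subsingleton.elim _ _

theorem finite_ker_pL (K L : Type u) [Field K] [Field L] [Algebra K L] [FiniteDimensional K L]
    (𝓗 : CohT Scheme.fppfPrecoverage (Spec (CommRingCat.of K)))
    (F : BigSite.Ab Scheme.fppfPrecoverage (Spec (CommRingCat.of K)))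
    [Finite (F.obj.obj (op (specOf (algebraMap K (L ⊗[K] L)))))] :
    Finite {x : 𝓗.H F 1 (Over.mk (𝟙 (Spec (CommRingCat.of K)))) // 𝓗.res (pL K L) x = 0} := by
  refine finite_ker 𝓗 (pL K L) (generate_mem K L)
    (specOfHom (algebraMap K L) (algebraMap K (L ⊗[K] L)) Algebra.TensorProduct.includeLeftRingHom
        (by ext x; exact (Algebra.TensorProduct.includeLeft : L →ₐ[K] L ⊗[K] L).commutes x))
    (specOfHom (algebraMap K L) (algebraMap K (L ⊗[K] L))
        ((Algebra.TensorProduct.includeRight : L →ₐ[K] L ⊗[K] L) : L →+* L ⊗[K] L)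
        (by ext x; exact (Algebra.TensorProduct.includeRight : L →ₐ[K] L ⊗[K] L).commutes x)) ?_ ?_
  · ext1
    exact (Over.w _).trans (Over.w _).symm
  · intro W c d _
    exact exists_pair c d

/-- The kernel of `H¹(K, G) → H¹(L, G)` is finite. -/
theorem finite_ker_res (K L : Type u) [Field K] [Field L] [Algebra K L] [FiniteDimensional K L]
    [Algebra.IsSeparable K L] (G : Over (Spec (CommRingCat.of K))) [GrpObj G] [IsCommMonObj G] [IsFinite G.hom]
    {F : BigSite.Ab Scheme.fppfPrecoverage (Spec (CommRingCat.of K))} (e : CGrpSh.pts Scheme.fppfPrecoverage G ≅ F) :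
    Finite {x : BigSite.H Scheme.fppfPrecoverage _ F 1 //
      HRes.res Scheme.fppfPrecoverage F 1 (specOf (algebraMap K L)) x = 0} := by
  have hred : IsReduced (L ⊗[K] L) := isReduced_tensor
  have h1 : Finite (specOf (algebraMap K (L ⊗[K] L)) ⟶ G) := finite_pts G
  have h2 : Finite (F.obj.obj (op (specOf (algebraMap K (L ⊗[K] L))))) := by
    refine Finite.of_surjective (fun g : specOf (algebraMap K (L ⊗[K] L)) ⟶ G =>
      e.hom.hom.app (op (specOf (algebraMap K (L ⊗[K] L)))) (ULift.up (Additive.ofMul g))) fun y => ?_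
    refine ⟨(e.inv.hom.app (op _) y).down.toMul, ?_⟩
    have : (e.inv ≫ e.hom).hom.app (op (specOf (algebraMap K (L ⊗[K] L)))) y = y := by rw [e.inv_hom_id]; rfl
    exact this
  have h3 := finite_ker_pL K L (bigCoh Scheme.fppfPrecoverage _) F
  refine Finite.of_injective (β := {x : (bigCoh Scheme.fppfPrecoverage _).H F 1 (Over.mk (𝟙 (Spec (CommRingCat.of K)))) //
      (bigCoh Scheme.fppfPrecoverage _).res (pL K L) x = 0})
    (fun x => ⟨absE F 1 x.1, (res_absE' F 1 (pL K L) x.1).trans x.2⟩) fun x y hxy => ?_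
  apply Subtype.ext
  exact (absE F 1).injective (congrArg Subtype.val hxy)

end Geo

end K775.FinKer
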