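import Groth.Prelude.Def_AdFn

/-!
# Membership in `ShaLoc` (proved once: the kernel is slow on these types)
-/

set_option autoImplicit false

universe u

open CategoryTheory AlgebraicGeometry FunFld AdFn

namespace K775.MemSha

theorem mem_iff {k K : Type u} [Field k] [Field K] [Algebra k K] (P : Precoverage Scheme.{u})
    (F : BigSite.Ab P (Spec (CommRingCat.of K))) (n : ℕ) (x : BigSite.H P (Spec (CommRingCat.of K)) F n) :
    x ∈ ShaLoc P k F n ↔ ∀ v : Place k K, HRes.res P F n (specOf (toKv v)) x = 0 := by
  unfold ShaLoc
  simp only [AddSubgroup.mem_iInf, AddMonoidHom.mem_ker]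

end K775.MemSha
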