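import Groth.Agent.TateGlob.K775.Below
import Groth.Agent.TateGlob.K775.MemSha
import Groth.Agent.TateGlob.K827.Abs

/-!
# Restriction of `Ш^n` to a finite extension
-/

set_option autoImplicit false
set_option backward.isDefEq.respectTransparency.types false

universe u

open CategoryTheory CategoryTheory.Limits AlgebraicGeometry Opposite
open FunFld AdFn K660.Places

namespace K775.ShaPull

section

variable {P : Precoverage Scheme.{u}} {S S' : Scheme.{u}}

theorem map_iso_injective {X : Scheme.{u}} {F G : BigSite.Ab P X} (e : F ≅ G) (n : ℕ) (x : BigSite.H P X F n)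
    (h : Sheaf.H.map e.hom n x = 0) : x = 0 := by
  have h1 : Sheaf.H.map e.inv n (Sheaf.H.map e.hom n x) = x := by
    rw [← Sheaf.H.map_comp_apply, e.hom_inv_id, Sheaf.H.map_id_apply]
  rw [← h1, h, map_zero]

/-- Vanishing of a restriction of a pullback. -/
theorem res_pull_eq_zero (h : S' ⟶ S) (F : BigSite.Ab P S) (n : ℕ) (W : Over S') (x : BigSite.H P S F n)
    (hx : HRes.res P F n (Over.mk (W.hom ≫ h)) x = 0) :
    HRes.res P ((BigSite.pullBig P h AddCommGrpCat.{u + 1}).obj F) n W (HRes.pull P h F n x) = 0 := by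
  let g : Over.mk (W.hom ≫ h) ⟶ Over.mk h := Over.homMk W.hom
  have h1 := K827.Abs.resHU_res n F g x
  rw [hx] at h1
  exact map_iso_injective (HRes.pullIso P F g) n _ h1

end

variable {k K L : Type u} [Field k] [Field K] [Field L] [Algebra k K] [Algebra K L] [Algebra k L] [IsScalarTower k K L]
variable (P : Precoverage Scheme.{u})

theorem pull_mem_shaLoc [Algebra.IsAlgebraic K L] {t : K} (ht : IsGen k K t)
    (F : BigSite.Ab P (Spec (CommRingCat.of K))) (n : ℕ) (x : BigSite.H P (Spec (CommRingCat.of K)) F n)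
    (hx : x ∈ ShaLoc P k F n) :
    HRes.pull P (Spec.map (CommRingCat.ofHom (algebraMap K L))) F n x ∈
      ShaLoc P k ((BigSite.pullBig P (Spec.map (CommRingCat.ofHom (algebraMap K L))) AddCommGrpCat.{u + 1}).obj F) n := by
  rw [MemSha.mem_iff] at hx ⊢
  intro w
  obtain ⟨v, φ, hφ⟩ := Below.exists_ringHom (k := k) ht w
  refine res_pull_eq_zero (Spec.map (CommRingCat.ofHom (algebraMap K L))) F n (specOf (toKv w)) x ?_
  let g : Over.mk ((specOf (toKv w)).hom ≫ Spec.map (CommRingCat.ofHom (algebraMap K L))) ⟶ specOf (toKv v) :=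
    Over.homMk (Spec.map (CommRingCat.ofHom φ)) (by
      change Spec.map _ ≫ Spec.map _ = Spec.map _ ≫ Spec.map _
      rw [← Spec.map_comp, ← Spec.map_comp, ← CommRingCat.ofHom_comp, ← CommRingCat.ofHom_comp]
      congr 2
      ext x
      exact hφ x)
  rw [← K827.Abs.resHU_res n F g x, hx v, map_zero]

end K775.ShaPull
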