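import Groth.Agent.TateGlob.K775.Fin
import Groth.Agent.TateGlob.K775.FinKer
import Groth.Agent.TateGlob.K775.ShaPull

/-!
# Finiteness of `Ш¹(K, G)` for a finite group scheme `G`
-/

set_option autoImplicit false
set_option backward.isDefEq.respectTransparency.types false

universe u

open CategoryTheory CategoryTheory.Limits AlgebraicGeometry Opposite
open FunFld AdFn K660.Places

namespace K775.FinSha

theorem map_mem_shaLoc {k K : Type u} [Field k] [Field K] [Algebra k K] {P : Precoverage Scheme.{u}}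
    {F F' : BigSite.Ab P (Spec (CommRingCat.of K))} (φ : F ⟶ F') (n : ℕ) {x : BigSite.H P _ F n}
    (hx : x ∈ ShaLoc P k F n) : Sheaf.H.map φ n x ∈ ShaLoc P k F' n := by
  rw [MemSha.mem_iff] at hx ⊢
  intro v
  rw [← K827.Abs.res_map φ n (specOf (toKv v)) x, hx v, map_zero]

theorem finite_shaLoc_of_iso {k K : Type u} [Field k] [Field K] [Algebra k K] {P : Precoverage Scheme.{u}}
    {F F' : BigSite.Ab P (Spec (CommRingCat.of K))} (e : F ≅ F') (n : ℕ) [Finite (ShaLoc P k F n)] :
    Finite (ShaLoc P k F' n) := by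
  refine Finite.of_injective (fun x : ShaLoc P k F' n =>
    (⟨Sheaf.H.map e.inv n x.1, map_mem_shaLoc e.inv n x.2⟩ : ShaLoc P k F n)) fun x y hxy => ?_
  apply Subtype.ext
  have h1 : Sheaf.H.map e.symm.hom n (x.1 - y.1) = 0 := by
    rw [map_sub, sub_eq_zero]
    exact congrArg Subtype.val hxy
  exact sub_eq_zero.1 (ShaPull.map_iso_injective e.symm n _ h1)

variable (Fq : Type u) [Field Fq] [Finite Fq] {K : Type u} [Field K] [Algebra Fq K]

theorem finite_shaLoc_pts {t : K} (ht : IsGen Fq K t) (G : Over (Spec (CommRingCat.of K))) [GrpObj G] [IsCommMonObj G]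
    [IsFinite G.hom] : Finite (ShaLoc Scheme.fppfPrecoverage Fq (CGrpSh.pts Scheme.fppfPrecoverage G) 1) := by
  obtain ⟨K', _, _, _, _, hfd, hsep, h⟩ := Fin.exists_ext Fq ht G
  have h0 := h K'
  have h1 := FinKer.finite_ker_res K K' G (Iso.refl (CGrpSh.pts Scheme.fppfPrecoverage G))
  have key : ∀ x : ShaLoc Scheme.fppfPrecoverage Fq (CGrpSh.pts Scheme.fppfPrecoverage G) 1,
      HRes.res Scheme.fppfPrecoverage (CGrpSh.pts Scheme.fppfPrecoverage G) 1 (specOf (algebraMap K K')) x.1 = 0 := by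
    intro x
    have h2 := ShaPull.pull_mem_shaLoc (k := Fq) (L := K') Scheme.fppfPrecoverage ht
      (CGrpSh.pts Scheme.fppfPrecoverage G) 1 x.1 x.2
    rw [h0] at h2
    exact (AddSubgroup.mem_bot).1 h2
  let f : ShaLoc Scheme.fppfPrecoverage Fq (CGrpSh.pts Scheme.fppfPrecoverage G) 1 →
      {x : BigSite.H Scheme.fppfPrecoverage _ (CGrpSh.pts Scheme.fppfPrecoverage G) 1 //
        HRes.res Scheme.fppfPrecoverage (CGrpSh.pts Scheme.fppfPrecoverage G) 1 (specOf (algebraMap K K')) x = 0} :=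
    fun x => ⟨x.1, key x⟩
  have hf : Function.Injective f := by
    intro x y hxy
    have h3 := congrArg (fun z => z.1) hxy
    exact Subtype.ext h3
  exact Finite.of_injective f hf

theorem finite_shaLoc {t : K} (ht : IsGen Fq K t) (G : Over (Spec (CommRingCat.of K))) [GrpObj G] [IsCommMonObj G]
    [IsFinite G.hom] {F : BigSite.Ab Scheme.fppfPrecoverage (Spec (CommRingCat.of K))}
    (e : CGrpSh.pts Scheme.fppfPrecoverage G ≅ F) : Finite (ShaLoc Scheme.fppfPrecoverage Fq F 1) := by
  have := finite_shaLoc_pts Fq ht G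
  exact finite_shaLoc_of_iso e 1

end K775.FinSha
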