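import Groth.Agent.TateGlob.K775.Emb
import Mathlib.RingTheory.Norm.Basic
import Mathlib.RingTheory.TensorProduct.Free
import Mathlib.Topology.Instances.Matrix
import Mathlib.LinearAlgebra.Determinant

/-!
# Approximation of a local norm by a global norm

`exists_approx`: if `a : K` is a norm from `K_v ⊗_K L`, then there is `b : L` whose norm has the same value as `a`.
-/

set_option autoImplicit false

universe u

namespace K775.HnLoc

open FunFld AdFn TensorProduct

variable {k K L : Type u} [Field k] [Field K] [Algebra k K] [Field L] [Algebra K L] [FiniteDimensional K L]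

theorem denseRange_toKv (v : Place k K) : DenseRange (algebraMap K (Kv v)) := by
  have hd : DenseRange (fun y : WithVal v.1 => (y : v.1.Completion)) := UniformSpace.Completion.denseRange_coe
  have h1 : Function.Surjective (WithVal.toVal v.1) := fun y => ⟨WithVal.ofVal y, rfl⟩
  have h2 : (algebraMap K (Kv v) : K → Kv v) = (fun y : WithVal v.1 => (y : v.1.Completion)) ∘ WithVal.toVal v.1 := rfl
  rw [h2, DenseRange, h1.range_comp]
  exact hd

theorem exists_approx (v : Place k K) (a : K) (ha : a ≠ 0) (b : Kv v ⊗[K] L)
    (hb : Algebra.norm (Kv v) b = algebraMap K (Kv v) a) :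
    ∃ b' : L, b' ≠ 0 ∧ v.ord (Algebra.norm K b') = v.ord a := by
  classical
  let ι := Module.Free.ChooseBasisIndex K L
  let e : Module.Basis ι K L := Module.Free.chooseBasis K L
  let e' : Module.Basis ι (Kv v) (Kv v ⊗[K] L) := e.baseChange (Kv v)
  let S : (ι → Kv v) → Kv v ⊗[K] L := fun x => ∑ i, x i • e' i
  let N : (ι → Kv v) → Kv v := fun x => Algebra.norm (Kv v) (S x)
  have hN : Continuous N := by
    have h1 : N = fun x => (∑ i, x i • Algebra.leftMulMatrix e' (e' i)).det := by
      funext x
      change Algebra.norm (Kv v) (S x) = _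
      rw [Algebra.norm_eq_matrix_det e']
      simp only [S, map_sum, map_smul]
    rw [h1]
    refine Continuous.matrix_det ?_
    refine continuous_finsetSum _ fun i _ => ?_
    exact (continuous_apply i).smul continuous_const
  have hav : (Valued.v (algebraMap K (Kv v) a) : WithZero (Multiplicative ℤ)) ≠ 0 := by
    have h1 : algebraMap K (Kv v) a ≠ 0 := by simpa using ha
    simpa using h1
  have hx : N (fun i => e'.repr b i) = algebraMap K (Kv v) a := by
    rw [← hb]
    change Algebra.norm (Kv v) (∑ i, e'.repr b i • e' i) = _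
    rw [e'.sum_repr]
  have hU : {y : ι → Kv v | Valued.v (N y) = (Valued.v (algebraMap K (Kv v) a) : WithZero (Multiplicative ℤ))} ∈
      nhds (fun i => e'.repr b i) := by
    have h1 : {y : Kv v | Valued.v y = (Valued.v (algebraMap K (Kv v) a) : WithZero (Multiplicative ℤ))} ∈
        nhds (N (fun i => e'.repr b i)) := by
      rw [hx]
      exact Valued.locally_const hav
    exact hN.continuousAt h1
  have hd : DenseRange (Pi.map fun _ : ι => (algebraMap K (Kv v) : K → Kv v)) :=
    DenseRange.piMap fun _ => denseRange_toKv v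
  obtain ⟨z, hz⟩ := hd.exists_mem_open isOpen_interior ⟨_, mem_interior_iff_mem_nhds.2 hU⟩
  have hz' := interior_subset hz
  let b' : L := ∑ i, z i • e i
  have h1 : S (Pi.map (fun _ : ι => (algebraMap K (Kv v) : K → Kv v)) z) = 1 ⊗ₜ b' := by
    change (∑ i, algebraMap K (Kv v) (z i) • e' i) = 1 ⊗ₜ (∑ i, z i • e i)
    rw [TensorProduct.tmul_sum]
    refine Finset.sum_congr rfl fun i _ => ?_
    rw [TensorProduct.tmul_smul]
    change _ • (e.baseChange (Kv v)) i = _
    rw [Module.Basis.baseChange_apply, algebraMap_smul]
  have h2 : N (Pi.map (fun _ : ι => (algebraMap K (Kv v) : K → Kv v)) z) = algebraMap K (Kv v) (Algebra.norm K b') := by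
    change Algebra.norm (Kv v) (S _) = _
    rw [h1, Algebra.norm_apply, Algebra.norm_apply, ← LinearMap.det_baseChange]
    congr 1
    ext w
    simp
  have h3 : v.1 (Algebra.norm K b') = v.1 a := by
    rw [← valued_toKv, ← valued_toKv]
    change Valued.v (N _) = _ at hz'
    rw [h2] at hz'
    exact hz'
  refine ⟨b', ?_, ?_⟩
  · intro h0
    rw [h0, Algebra.norm_zero, map_zero] at h3
    exact ha ((Valuation.zero_iff _).1 h3.symm)
  · unfold Place.ord
    rw [h3]

end K775.HnLoc
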