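import Groth.Agent.S11037
import Groth.Agent.S11035

/-!
# Counting effective divisors: there are no two disjoint degree preserving families of places

`false_of_two`: for function fields `K`, `L` over a finite full constant field `k` there are no two injective degree
preserving maps from the places of `K` to the places of `L` with disjoint images.
-/

set_option autoImplicit false

namespace K775.Count

open FunFld

universe u v w

section

variable {k : Type u} {K : Type v} {L : Type w} [Field k] [Field K] [Field L] [Algebra k K] [Algebra k L]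

variable (k K) in
/-- Effective divisors of degree `n`. -/
abbrev Eff (n : ℕ) : Type v := {D : Divisor k K // 0 ≤ D ∧ D.deg = n}

theorem two_le_card [Finite k] : (2 : ℤ) ≤ (Nat.card k : ℤ) := by
  have : 1 < Nat.card k := Finite.one_lt_card
  omega

theorem classNum_pos [Finite k] (hK : IsFunctionField k K) : 0 < classNum k K := by
  have := (Groth.Agent.S11037.result k K hK).1
  exact Nat.card_pos

theorem formula [Finite k] (hK : IsFunctionField k K) {n : ℕ} (hn : 2 * genus k K ≤ n + 1) :
    ((Nat.card k : ℤ) - 1) * (effDivCount k K n : ℤ) =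
      (classNum k K : ℤ) * ((Nat.card k : ℤ) ^ (n + 1 - genus k K) - 1) :=
  ((Groth.Agent.S11037.result k K hK).2 n hn).1 (Groth.Agent.S11035.result k K hK n)

theorem lower [Finite k] (hK : IsFunctionField k K) {n : ℕ} (hn : 2 * genus k K ≤ n) :
    (Nat.card k : ℤ) ^ (n - genus k K) ≤ (effDivCount k K n : ℤ) := by
  have h1 := formula hK (n := n) (by omega)
  have h2 : (1 : ℤ) ≤ (classNum k K : ℤ) := by
    have := classNum_pos hK
    omega
  have hq := two_le_card (k := k)
  have h3 : n + 1 - genus k K = (n - genus k K) + 1 := by omega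
  have h4 : (1 : ℤ) ≤ (Nat.card k : ℤ) ^ (n - genus k K) := one_le_pow₀ (by omega)
  have h5 : ((Nat.card k : ℤ) - 1) * (Nat.card k : ℤ) ^ (n - genus k K) ≤
      ((Nat.card k : ℤ) - 1) * (effDivCount k K n : ℤ) := by
    rw [h1, h3, pow_succ]
    generalize (Nat.card k : ℤ) ^ (n - genus k K) = A at h4
    have e1 : (0 : ℤ) ≤ A * (Nat.card k : ℤ) - 1 := by nlinarith
    have e2 : A * (Nat.card k : ℤ) - 1 ≤ (classNum k K : ℤ) * (A * (Nat.card k : ℤ) - 1) := by
      nlinarith
    nlinarith
  exact le_of_mul_le_mul_left h5 (by omega)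

theorem upper [Finite k] (hK : IsFunctionField k K) {n : ℕ} (hn : 2 * genus k K ≤ n) :
    (effDivCount k K n : ℤ) ≤ (classNum k K : ℤ) * (Nat.card k : ℤ) ^ (n + 1) := by
  have h1 := formula hK (n := n) (by omega)
  have h2 : (0 : ℤ) ≤ (classNum k K : ℤ) := by positivity
  have hq := two_le_card (k := k)
  have h4 : (Nat.card k : ℤ) ^ (n + 1 - genus k K) ≤ (Nat.card k : ℤ) ^ (n + 1) :=
    pow_le_pow_right₀ (by omega) (by omega)
  have h5 : (effDivCount k K n : ℤ) ≤ ((Nat.card k : ℤ) - 1) * (effDivCount k K n : ℤ) := by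
    have : (0 : ℤ) ≤ (effDivCount k K n : ℤ) := by positivity
    nlinarith
  refine h5.trans ?_
  rw [h1]
  exact mul_le_mul_of_nonneg_left (by omega) h2

theorem finite_eff [Finite k] (hK : IsFunctionField k K) {n : ℕ} (hn : 2 * genus k K ≤ n) :
    Finite (Eff k K n) := by
  have h1 := lower hK hn
  have hq := two_le_card (k := k)
  have h4 : (1 : ℤ) ≤ (Nat.card k : ℤ) ^ (n - genus k K) := one_le_pow₀ (by omega)
  refine Nat.finite_of_card_ne_zero ?_
  change effDivCount k K n ≠ 0
  omega

theorem deg_mapDomain (Q : Place k K → Place k L) (hQ : ∀ P, (Q P).deg = P.deg) (D : Divisor k K) :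
    Divisor.deg (D.mapDomain Q) = D.deg := by
  unfold Divisor.deg
  rw [Finsupp.sum_mapDomain_index]
  · exact Finsupp.sum_congr fun P _ => by rw [hQ]
  · intro P
    simp
  · intro P a b
    ring

theorem deg_add (D E : Divisor k K) : Divisor.deg (D + E) = D.deg + E.deg := by
  classical
  unfold Divisor.deg
  rw [Finsupp.sum_add_index']
  · intro P
    simp
  · intro P a b
    ring

theorem mapDomain_nonneg (Q : Place k K → Place k L) {D : Divisor k K} (hD : 0 ≤ D) : 0 ≤ D.mapDomain Q := by
  classical
  intro P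
  rw [Finsupp.mapDomain, Finsupp.sum_apply]
  refine Finset.sum_nonneg fun P' _ => ?_
  change 0 ≤ (Finsupp.single (Q P') (D P')) P
  rw [Finsupp.single_apply]
  split_ifs
  · exact hD P'
  · exact le_rfl

/-- The sum of two divisors spread along two families of places. -/
noncomputable def spread {Q₁ Q₂ : Place k K → Place k L} (d₁ : ∀ P, (Q₁ P).deg = P.deg)
    (d₂ : ∀ P, (Q₂ P).deg = P.deg) {m N n : ℕ} (hm : m = 2 * N + n)
    (x : Σ t : Fin (n + 1), Eff k K (N + t) × Eff k K (N + (n - t))) : Eff k L m :=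
  ⟨x.2.1.1.mapDomain Q₁ + x.2.2.1.mapDomain Q₂,
    add_nonneg (mapDomain_nonneg _ x.2.1.2.1) (mapDomain_nonneg _ x.2.2.2.1), by
      rw [deg_add, deg_mapDomain _ d₁, deg_mapDomain _ d₂, x.2.1.2.2, x.2.2.2.2]
      have := x.1.2
      push_cast
      omega⟩

theorem spread_injective {Q₁ Q₂ : Place k K → Place k L} (i₁ : Function.Injective Q₁) (i₂ : Function.Injective Q₂)
    (h₁₂ : ∀ P P', Q₁ P ≠ Q₂ P') (d₁ : ∀ P, (Q₁ P).deg = P.deg)
    (d₂ : ∀ P, (Q₂ P).deg = P.deg) {m N n : ℕ} (hm : m = 2 * N + n) :
    Function.Injective (spread (K := K) d₁ d₂ hm) := by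
  rintro ⟨t, ⟨D₁, D₂⟩⟩ ⟨t', ⟨D₁', D₂'⟩⟩ h
  have h' := congrArg Subtype.val h
  simp only [spread] at h'
  have e₁ : D₁.1 = D₁'.1 := by
    ext P
    have := DFunLike.congr_fun h' (Q₁ P)
    simp only [Finsupp.add_apply] at this
    rw [Finsupp.mapDomain_apply i₁, Finsupp.mapDomain_apply i₁, Finsupp.mapDomain_of_notMem_range,
      Finsupp.mapDomain_of_notMem_range, add_zero, add_zero] at this
    · exact this
    · rintro ⟨P', hP'⟩
      exact h₁₂ P P' hP'.symm
    · rintro ⟨P', hP'⟩
      exact h₁₂ P P' hP'.symm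
  have e₂ : D₂.1 = D₂'.1 := by
    ext P
    have := DFunLike.congr_fun h' (Q₂ P)
    simp only [Finsupp.add_apply] at this
    rw [Finsupp.mapDomain_apply i₂, Finsupp.mapDomain_apply i₂, Finsupp.mapDomain_of_notMem_range,
      Finsupp.mapDomain_of_notMem_range, zero_add, zero_add] at this
    · exact this
    · rintro ⟨P', hP'⟩
      exact h₁₂ P' P hP'
    · rintro ⟨P', hP'⟩
      exact h₁₂ P' P hP'
  have e : t = t' := by
    have a := D₁.2.2
    have b := D₁'.2.2
    rw [e₁, b] at a
    apply Fin.ext
    have : N + (t' : ℕ) = N + t := by exact_mod_cast a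
    omega
  subst e
  have e₁' : D₁ = D₁' := Subtype.ext e₁
  have e₂' : D₂ = D₂' := Subtype.ext e₂
  rw [e₁', e₂']

/-- There are no two disjoint injective degree preserving families of places. -/
theorem false_of_two [Finite k] (hK : IsFunctionField k K) (hL : IsFunctionField k L)
    (Q₁ Q₂ : Place k K → Place k L) (i₁ : Function.Injective Q₁) (i₂ : Function.Injective Q₂)
    (h₁₂ : ∀ P P', Q₁ P ≠ Q₂ P') (d₁ : ∀ P, (Q₁ P).deg = P.deg) (d₂ : ∀ P, (Q₂ P).deg = P.deg) : False := by
  set g := genus k K
  set q : ℕ := Nat.card k with hq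
  have hq2 : 2 ≤ q := by
    have := two_le_card (k := k)
    omega
  set n : ℕ := 2 * genus k L + classNum k L * q ^ (2 * g + 1) with hn
  set m : ℕ := 2 * (2 * g) + n with hm
  have hfin : Finite (Eff k L m) := finite_eff hL (by omega)
  have h1 : Nat.card (Σ t : Fin (n + 1), Eff k K (2 * g + t) × Eff k K (2 * g + (n - t))) ≤ effDivCount k L m :=
    Nat.card_le_card_of_injective _ (spread_injective i₁ i₂ h₁₂ d₁ d₂ hm)
  have h2 : (n + 1) * q ^ (2 * g + n) ≤
      Nat.card (Σ t : Fin (n + 1), Eff k K (2 * g + t) × Eff k K (2 * g + (n - t))) := by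
    have hf : ∀ t : Fin (n + 1), Finite (Eff k K (2 * g + t) × Eff k K (2 * g + (n - t))) := fun t => by
      have a := finite_eff hK (n := 2 * g + t) (by omega)
      have b := finite_eff hK (n := 2 * g + (n - t)) (by omega)
      infer_instance
    rw [Nat.card_sigma]
    calc (n + 1) * q ^ (2 * g + n) = ∑ _t : Fin (n + 1), q ^ (2 * g + n) := by simp
      _ ≤ _ := by
        refine Finset.sum_le_sum fun t _ => ?_
        rw [Nat.card_prod]
        have a := lower hK (n := 2 * g + t) (by omega)
        have b := lower hK (n := 2 * g + (n - t)) (by omega)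
        have a' : q ^ (2 * g + t - g) ≤ effDivCount k K (2 * g + t) := by exact_mod_cast a
        have b' : q ^ (2 * g + (n - t) - g) ≤ effDivCount k K (2 * g + (n - t)) := by exact_mod_cast b
        have ht := t.2
        calc q ^ (2 * g + n) = q ^ (2 * g + t - g) * q ^ (2 * g + (n - t) - g) := by
              rw [← pow_add]
              congr 1
              omega
          _ ≤ _ := Nat.mul_le_mul a' b'
  have h3 : effDivCount k L m ≤ classNum k L * q ^ (m + 1) := by
    have := upper hL (n := m) (by omega)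
    exact_mod_cast this
  have h4 : (n + 1) * q ^ (2 * g + n) ≤ (classNum k L * q ^ (2 * g + 1)) * q ^ (2 * g + n) := by
    refine (h2.trans (h1.trans h3)).trans (le_of_eq ?_)
    rw [mul_assoc, ← pow_add]
    congr 2
    omega
  have h5 : n + 1 ≤ classNum k L * q ^ (2 * g + 1) := Nat.le_of_mul_le_mul_right h4 (by positivity)
  omega

end

end K775.Count
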