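import Groth.Agent.TateGlob.K775.Emb
import Groth.Agent.TateGlob.K775.Count
import Groth.Agent.FunFld.K660.CrvFin

/-!
# A finite Galois extension of a global function field that embeds in every completion is trivial

`surjective_of_forall_embed`: `K` of finite degree over `Fq(t)`, `L/K` finite Galois, and for every place `v` a
field embedding `L → K_v` over `K`: then `K = L`. (Effective divisor counts, no zeta function.)
-/

set_option autoImplicit false

universe u

namespace K775.Split

open FunFld AdFn K660.Places

section Const

variable {k₀ K : Type u} [Field k₀] [Field K] [Algebra k₀ K]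

theorem isAlgebraic_of_const {A : Type u} [Field A] [Algebra k₀ A] [Algebra K A] [IsScalarTower k₀ K A]
    {x : A} (h : IsAlgebraic (algebraicClosure k₀ K) x) : IsAlgebraic k₀ x := by
  exact IsAlgebraic.restrictScalars k₀ h

theorem isFunctionField_const {t : K} (ht : IsGen k₀ K t) :
    IsFunctionField (algebraicClosure k₀ K) K := by
  refine ⟨⟨t, fun h => ht.tr (isAlgebraic_of_const h), ?_⟩, fun y hy => ?_⟩
  · have := ht.fin
    have hle : IntermediateField.adjoin k₀ {t} ≤
        (IntermediateField.adjoin (algebraicClosure k₀ K) {t}).restrictScalars k₀ := by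
      rw [IntermediateField.adjoin_simple_le_iff]
      exact IntermediateField.mem_adjoin_simple_self _ t
    let _ : Algebra (IntermediateField.adjoin k₀ {t}) (IntermediateField.adjoin (algebraicClosure k₀ K) {t}) :=
      (IntermediateField.inclusion hle).toRingHom.toAlgebra
    have : IsScalarTower (IntermediateField.adjoin k₀ {t}) (IntermediateField.adjoin (algebraicClosure k₀ K) {t}) K :=
      IsScalarTower.of_algebraMap_eq fun x => rfl
    exact Module.Finite.of_restrictScalars_finite (IntermediateField.adjoin k₀ {t}) _ K
  · exact ⟨⟨y, mem_algebraicClosure_iff.2 (isAlgebraic_of_const hy)⟩, rfl⟩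

theorem finite_const [Finite k₀] {t : K} (ht : IsGen k₀ K t) : Finite (algebraicClosure k₀ K) := by
  have := K660.CrvFin.finite_algebraicClosure ht
  exact Module.finite_of_finite k₀

/-- A place over the constants, as a place over the base field. -/
def down (v : Place (algebraicClosure k₀ K) K) : Place k₀ K :=
  ⟨v.1, fun c => v.2.1 (algebraMap k₀ (algebraicClosure k₀ K) c), v.2.2⟩

end Const

section Deg

variable {k K L : Type u} [Field k] [Field K] [Field L] [Algebra k K] [Algebra K L] [Algebra k L] [IsScalarTower k K L]

/-- The degree of a constant extension divides the degree of every place. -/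
theorem dvd_deg (P : Place k L) {y : L} (hy : IsAlgebraic k y) :
    Module.finrank k (IntermediateField.adjoin k {y}) ∣ P.deg := by
  have hfd : FiniteDimensional k (IntermediateField.adjoin k {y}) :=
    IntermediateField.adjoin.finiteDimensional hy.isIntegral
  have hle : ∀ z : IntermediateField.adjoin k {y}, P.1 (z : L) ≤ 1 := fun z =>
    val_le_one_of_isIntegral (R := k) P (fun c => P.2.1 c) ((Algebra.IsIntegral.isIntegral (R := k) z).map
      (IntermediateField.adjoin k {y}).val)
  let f : IntermediateField.adjoin k {y} →+* P.O :=
    (IntermediateField.adjoin k {y}).val.toRingHom.codRestrict P.O.toSubring fun z => hle z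
  let _ : Algebra (IntermediateField.adjoin k {y}) (IsLocalRing.ResidueField P.O) :=
    ((IsLocalRing.residue P.O).comp f).toAlgebra
  have : @IsScalarTower k (IntermediateField.adjoin k {y}) (IsLocalRing.ResidueField P.O) Algebra.toSMul
      Algebra.toSMul (Place.algRes P).toSMul :=
    IsScalarTower.of_algebraMap_eq fun x => rfl
  have h : Module.finrank k (IntermediateField.adjoin k {y}) *
      Module.finrank (IntermediateField.adjoin k {y}) (IsLocalRing.ResidueField P.O) = P.deg := by
    unfold Place.deg
    exact @Module.finrank_mul_finrank k (IntermediateField.adjoin k {y}) (IsLocalRing.ResidueField P.O) _ _ _ _ _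
      (Place.algRes P).toModule this _ _ _ _
  exact ⟨_, h.symm⟩

theorem mem_range_of_isAlgebraic [Finite k] (hK : IsFunctionField k K)
    (hε : ∀ v : Place k K, ∃ ε : L →+* Kv v, ∀ x : K, ε (algebraMap K L x) = toKv v x) {y : L}
    (hy : IsAlgebraic k y) : y ∈ Set.range (algebraMap k L) := by
  have hd : ∀ v : Place k K, Module.finrank k (IntermediateField.adjoin k {y}) ∣ v.deg := by
    intro v
    obtain ⟨ε, h⟩ := hε v
    have := dvd_deg (Emb.pb ε h) hy
    rwa [Emb.deg_pb] at this
  obtain ⟨D, hD⟩ := Groth.Agent.S11035.result k K hK 1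
  have h1 : (Module.finrank k (IntermediateField.adjoin k {y}) : ℤ) ∣ 1 := by
    rw [← hD]
    unfold Divisor.deg
    refine Finset.dvd_sum fun v _ => ?_
    exact Dvd.dvd.mul_left (Int.natCast_dvd_natCast.2 (hd v)) _
  have h2 : Module.finrank k (IntermediateField.adjoin k {y}) = 1 := by
    have := Int.natCast_dvd_natCast.1 (by simpa using h1 : ((Module.finrank k (IntermediateField.adjoin k {y}) : ℕ) : ℤ) ∣ ((1 : ℕ) : ℤ))
    exact Nat.dvd_one.1 this
  have h3 := IntermediateField.finrank_eq_one_iff.1 h2
  have h4 : y ∈ IntermediateField.adjoin k {y} := IntermediateField.mem_adjoin_simple_self _ y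
  rw [h3] at h4
  exact IntermediateField.mem_bot.1 h4

theorem isFunctionField_of_embed [Finite k] (hK : IsFunctionField k K) [FiniteDimensional K L]
    (hε : ∀ v : Place k K, ∃ ε : L →+* Kv v, ∀ x : K, ε (algebraMap K L x) = toKv v x) : IsFunctionField k L := by
  refine ⟨?_, fun y hy => mem_range_of_isAlgebraic hK hε hy⟩
  obtain ⟨⟨t, ht, hf⟩, -⟩ := hK
  refine ⟨algebraMap K L t, ?_, ?_⟩
  · intro h
    exact ht ((isAlgebraic_algebraMap_iff (algebraMap K L).injective).1 h)
  · let g : IntermediateField.adjoin k {t} →+* IntermediateField.adjoin k {algebraMap K L t} :=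
      RingHom.codRestrict ((algebraMap K L).comp (IntermediateField.adjoin k {t}).val.toRingHom)
        (IntermediateField.adjoin k {algebraMap K L t}) fun x => by
        have h1 := IntermediateField.adjoin_map k {t} (IsScalarTower.toAlgHom k K L)
        rw [Set.image_singleton] at h1
        change IsScalarTower.toAlgHom k K L x ∈ _
        change _ = IntermediateField.adjoin k {algebraMap K L t} at h1
        rw [← h1]
        exact ⟨x, x.2, rfl⟩
    let _ : Algebra (IntermediateField.adjoin k {t}) (IntermediateField.adjoin k {algebraMap K L t}) := g.toAlgebra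
    have : IsScalarTower (IntermediateField.adjoin k {t}) (IntermediateField.adjoin k {algebraMap K L t}) L :=
      IsScalarTower.of_algebraMap_eq fun x => rfl
    have : Module.Finite (IntermediateField.adjoin k {t}) L := Module.Finite.trans K L
    exact Module.Finite.of_restrictScalars_finite (IntermediateField.adjoin k {t}) _ L

theorem eq_one_of_embed [Finite k] (hK : IsFunctionField k K) [FiniteDimensional K L]
    (hε : ∀ v : Place k K, ∃ ε : L →+* Kv v, ∀ x : K, ε (algebraMap K L x) = toKv v x) (σ : L ≃ₐ[K] L) : σ = 1 := by
  by_contra hne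
  have hL := isFunctionField_of_embed hK hε
  choose ε h using hε
  have h' : ∀ v : Place k K, ∀ x : K, ((ε v).comp (σ : L →+* L)) (algebraMap K L x) = toKv v x := by
    intro v x
    rw [← h v x]
    change ε v (σ (algebraMap K L x)) = _
    rw [σ.commutes]
  have key : ∀ (v v' : Place k K) (e : L →+* Kv v) (he : ∀ x : K, e (algebraMap K L x) = toKv v x)
      (e' : L →+* Kv v') (he' : ∀ x : K, e' (algebraMap K L x) = toKv v' x),
      Emb.pb e he = Emb.pb e' he' → v = v' := by
    intro v v' e he e' he' hh
    apply Subtype.ext
    ext x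
    rw [← Emb.pb_algebraMap e he, ← Emb.pb_algebraMap e' he', hh]
  refine Count.false_of_two hK hL (fun v => Emb.pb (ε v) (h v)) (fun v => Emb.pb _ (h' v)) ?_ ?_ ?_ ?_ ?_
  · intro v v' hh
    exact key _ _ _ _ _ _ hh
  · intro v v' hh
    exact key _ _ _ _ _ _ hh
  · intro v v' hh
    have hv := key _ _ _ _ _ _ hh
    subst hv
    have e := Emb.eq_of_pb_eq _ _ _ _ hh
    apply hne
    ext x
    have := RingHom.congr_fun e x
    change ε v x = ε v (σ x) at this
    exact ((ε v).injective this).symm
  · intro v
    exact Emb.deg_pb _ _
  · intro v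
    exact Emb.deg_pb _ _

end Deg

variable {k₀ K L : Type u} [Field k₀] [Finite k₀] [Field K] [Field L] [Algebra k₀ K] [Algebra K L]

/-- A finite Galois extension of a global function field embedded in every completion is trivial. -/
theorem surjective_of_forall_embed {t : K} (ht : IsGen k₀ K t) [FiniteDimensional K L] [IsGalois K L]
    (hε : ∀ v : Place k₀ K, ∃ ε : L →+* Kv v, ∀ x : K, ε (algebraMap K L x) = toKv v x) :
    Function.Surjective (algebraMap K L) := by
  have := finite_const ht
  have hK := isFunctionField_const ht
  have h1 : ∀ σ : L ≃ₐ[K] L, σ = 1 := eq_one_of_embed (k := algebraicClosure k₀ K) hK fun v => hε (down v)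
  have h2 : Subsingleton (L ≃ₐ[K] L) := ⟨fun a b => by rw [h1 a, h1 b]⟩
  intro x
  have h3 : x ∈ (⊥ : IntermediateField K L) := by
    rw [IsGalois.mem_bot_iff_fixed]
    intro f
    rw [h1 f]
    rfl
  exact IntermediateField.mem_bot.1 h3

end K775.Split
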