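import Groth.Agent.TateGlob.K775.HnNorm
import Groth.Agent.TateGlob.K775.HnLoc
import Groth.Agent.TateGlob.K775.Split
import Groth.Agent.TateGlob.K829.FunBase

/-!
# The Hasse norm theorem for constant extensions, over any finite base field

`exists_norm`: `K` finite over `k₀(t)`, `k₀` finite, `L/K` finite Galois generated by elements algebraic over `k₀`;
an element of `K` which is a norm from `K_v ⊗_K L` for every place `v` is a norm from `L`.
-/

set_option autoImplicit false
set_option linter.unusedSectionVars false
universe u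

namespace K775.HnMain

open FunFld AdFn K660.Places TensorProduct

section

variable {k K L : Type u} [Field k] [Finite k] [Field K] [Field L] [Algebra k K] [Algebra K L]
  [Algebra k L] [IsScalarTower k K L] [FiniteDimensional K L] [IsGalois K L]

theorem exists_norm_aux (hK : IsFunctionField k K) (hgen : Algebra.adjoin K {x : L | IsAlgebraic k x} = ⊤)
    (a : K) (ha : a ≠ 0) (hloc : ∀ P : Place k K, ∃ b : L, b ≠ 0 ∧ P.ord (Algebra.norm K b) = P.ord a) :
    ∃ b : L, Algebra.norm K b = a := by
  obtain ⟨t, ht⟩ := exists_isGen hK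
  have hL : IsGen k L (algebraMap K L t) := K661.OverFF.isGen_algebraMap ht
  have hfd : FiniteDimensional k (algebraicClosure k L) := K660.CrvFin.finite_algebraicClosure hL
  have hg := Groth.Agent.S11000.result k K hK
  have h : Function.Bijective (Algebra.TensorProduct.productMap
      (IsScalarTower.toAlgHom k (algebraicClosure k L) L) (IsScalarTower.toAlgHom k K L)) := by
    constructor
    · have hf : IsField ((algebraicClosure k L) ⊗[k] K) := hg (algebraicClosure k L) hfd
      let _ := IsField.toField (R := (algebraicClosure k L) ⊗[k] K) hf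
      exact (Algebra.TensorProduct.productMap
        (IsScalarTower.toAlgHom k (algebraicClosure k L) L) (IsScalarTower.toAlgHom k K L)).toRingHom.injective
    · intro y
      have hy : y ∈ Algebra.adjoin K {x : L | IsAlgebraic k x} := by
        rw [hgen]
        exact Algebra.mem_top
      induction hy using Algebra.adjoin_induction with
      | mem x hx =>
        refine ⟨(⟨x, mem_algebraicClosure_iff.2 hx⟩ : algebraicClosure k L) ⊗ₜ 1, ?_⟩
        rw [Algebra.TensorProduct.productMap_apply_tmul, map_one, mul_one]
        rfl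
      | algebraMap r =>
        refine ⟨1 ⊗ₜ r, ?_⟩
        rw [Algebra.TensorProduct.productMap_apply_tmul, map_one, one_mul]
        rfl
      | add x y _ _ hx hy =>
        obtain ⟨x', rfl⟩ := hx
        obtain ⟨y', rfl⟩ := hy
        exact ⟨x' + y', map_add _ _ _⟩
      | mul x y _ _ hx hy =>
        obtain ⟨x', rfl⟩ := hx
        obtain ⟨y', rfl⟩ := hy
        exact ⟨x' * y', map_mul _ _ _⟩
  exact HnNorm.exists_norm_eq h hK a ha hloc

end

variable {k₀ K L : Type u} [Field k₀] [Finite k₀] [Field K] [Field L] [Algebra k₀ K] [Algebra K L]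
  [Algebra k₀ L] [IsScalarTower k₀ K L] [FiniteDimensional K L] [IsGalois K L]

/-- Version with orders of norms at all places. -/
theorem exists_norm_of_ord {t : K} (ht : IsGen k₀ K t) (hgen : Algebra.adjoin K {x : L | IsAlgebraic k₀ x} = ⊤)
    (a : K) (ha : a ≠ 0) (hloc : ∀ v : Place k₀ K, ∃ b : L, b ≠ 0 ∧ v.ord (Algebra.norm K b) = v.ord a) :
    ∃ b : L, Algebra.norm K b = a := by
  have := Split.finite_const ht
  have hK := Split.isFunctionField_const ht
  have : IsScalarTower (algebraicClosure k₀ K) K L := inferInstance
  refine exists_norm_aux (k := algebraicClosure k₀ K) hK ?_ a ha fun P => hloc (Split.down P)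
  rw [eq_top_iff, ← hgen]
  refine Algebra.adjoin_mono fun x hx => ?_
  have h1 : IsScalarTower k₀ (algebraicClosure k₀ K) L := IsScalarTower.of_algebraMap_eq fun c =>
    IsScalarTower.algebraMap_apply k₀ K L c
  exact IsAlgebraic.tower_top (algebraicClosure k₀ K) hx

/-- **Hasse norm theorem for constant extensions.** -/
theorem exists_norm_of_isGen {t : K} (ht : IsGen k₀ K t) (hgen : Algebra.adjoin K {x : L | IsAlgebraic k₀ x} = ⊤)
    (a : K) (h : ∀ v : Place k₀ K, ∃ b : Kv v ⊗[K] L, Algebra.norm (Kv v) b = algebraMap K (Kv v) a) :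
    ∃ b : L, Algebra.norm K b = a := by
  by_cases ha : a = 0
  · exact ⟨0, by rw [ha, Algebra.norm_zero]⟩
  · refine exists_norm_of_ord ht hgen a ha fun v => ?_
    obtain ⟨b, hb⟩ := h v
    exact HnLoc.exists_approx v a ha b hb

/-- **Hasse norm theorem for constant extensions**, with the hypotheses of the statements. -/
theorem exists_norm (Fq : Type u) [Field Fq] [Finite Fq] (K : Type u) [Field K] [Algebra (RatFunc Fq) K]
    [FunctionField Fq K] [Algebra Fq K] [IsScalarTower Fq (RatFunc Fq) K] (L : Type u) [Field L] [Algebra K L]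
    [FiniteDimensional K L] [IsGalois K L] [Algebra Fq L] [IsScalarTower Fq K L]
    (hgen : Algebra.adjoin K {x : L | IsAlgebraic Fq x} = ⊤) (a : K)
    (h : ∀ v : Place Fq K, ∃ b : Kv v ⊗[K] L, Algebra.norm (Kv v) b = algebraMap K (Kv v) a) :
    ∃ b : L, Algebra.norm K b = a := by
  exact exists_norm_of_isGen (K829.FunBase.isGen Fq K) hgen a h

end K775.HnMain
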