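import Groth.Agent.TateGlob.K775.HvLim
import Groth.Agent.TateGlob.K775.FinSha

/-!
# `Ш¹(K', G) = 0` for some finite extension `K'/K`, `G` affine commutative of finite type
-/

set_option autoImplicit false
universe u
open CategoryTheory CategoryTheory.Limits MonoidalCategory CartesianMonoidalCategory MonObj GrpObj
  AlgebraicGeometry Opposite
open FunFld AdFn K660.Places

noncomputable section

namespace K775.ShaHv

theorem shaLoc_eq_bot_of_iso {k K : Type u} [Field k] [Field K] [Algebra k K] {P : Precoverage Scheme.{u}}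
    {F F' : BigSite.Ab P (Spec (CommRingCat.of K))} (e : F ≅ F') (n : ℕ) (h : ShaLoc P k F n = ⊥) :
    ShaLoc P k F' n = ⊥ := by
  rw [eq_bot_iff]
  intro x hx
  have h1 := FinSha.map_mem_shaLoc (k := k) e.inv n hx
  rw [h, AddSubgroup.mem_bot] at h1
  exact ShaPull.map_iso_injective e.symm n x h1

theorem shaLoc_eq_bot_of_abs {k K : Type u} [Field k] [Field K] [Algebra k K] {P : Precoverage Scheme.{u}}
    {A : ShortComplex (BigSite.Ab P (Spec (CommRingCat.of K)))} (hA : A.ShortExact) (n : ℕ)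
    (h₁ : Subsingleton (BigSite.H P (Spec (CommRingCat.of K)) A.X₁ n)) (h₃ : ShaLoc P k A.X₃ n = ⊥) :
    ShaLoc P k A.X₂ n = ⊥ := by
  rw [eq_bot_iff]
  intro x hx
  have h1 := FinSha.map_mem_shaLoc (k := k) A.g n hx
  rw [h₃, AddSubgroup.mem_bot] at h1
  obtain ⟨y, hy⟩ := K828.Kit.exact₂ hA n x h1
  have hy0 : y = 0 := h₁.elim y 0
  rw [AddSubgroup.mem_bot, ← hy, hy0]
  exact map_zero _

theorem shaLoc_eq_bot_of_seq {k E K' : Type u} [Field k] [Field E] [Field K'] [Algebra E K'] [Algebra k K']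
    {N X F : Over (Spec (CommRingCat.of E))} [GrpObj N] [IsCommMonObj N] [GrpObj X] [IsCommMonObj X] [GrpObj F]
    [IsCommMonObj F] (f : N ⟶ X) (g : X ⟶ F) [IsMonHom f] [IsMonHom g] (w : f ≫ g = 1)
    (hS : (CGrpSh.seq Scheme.fppfPrecoverage f g w).ShortExact) (hN : Hv.HV N)
    (hF : ShaLoc Scheme.fppfPrecoverage k ((BigSite.pullBig Scheme.fppfPrecoverage
      (Spec.map (CommRingCat.ofHom (algebraMap E K'))) AddCommGrpCat.{u + 1}).obj
        (CGrpSh.pts Scheme.fppfPrecoverage F)) 1 = ⊥) :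
    ShaLoc Scheme.fppfPrecoverage k ((BigSite.pullBig Scheme.fppfPrecoverage
      (Spec.map (CommRingCat.ofHom (algebraMap E K'))) AddCommGrpCat.{u + 1}).obj
        (CGrpSh.pts Scheme.fppfPrecoverage X)) 1 = ⊥ := by
  have hs := hN K' (Spec.map (CommRingCat.ofHom (algebraMap E K')))
  have hs' : Subsingleton (BigSite.H Scheme.fppfPrecoverage (Spec (CommRingCat.of K'))
      ((BigSite.pullBig Scheme.fppfPrecoverage (Spec.map (CommRingCat.ofHom (algebraMap E K')))
        AddCommGrpCat.{u + 1}).obj (CGrpSh.pts Scheme.fppfPrecoverage N)) 1) :=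
    (K809.Les.mpEquiv _ (K809.PtsPull.ptsPull Scheme.fppfPrecoverage
      (Spec.map (CommRingCat.ofHom (algebraMap E K'))) N) 1).toEquiv.subsingleton
  exact shaLoc_eq_bot_of_abs (K828.Kit.pull_shortExact (Spec.map (CommRingCat.ofHom (algebraMap E K'))) hS) 1 hs' hF

/-- The restriction to `K'` of the sheaf of points, for a tower. -/
def towerIso {K E K' : Type u} [Field K] [Field E] [Field K'] [Algebra K E] [Algebra E K'] [Algebra K K']
    [IsScalarTower K E K'] (G : Over (Spec (CommRingCat.of K))) [GrpObj G] [IsCommMonObj G]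
    {X : Over (Spec (CommRingCat.of E))} [GrpObj X] [IsCommMonObj X]
    (e : X ≅ Red.bc (Spec.map (CommRingCat.ofHom (algebraMap K E))) G) (he : IsMonHom e.hom) :
    (BigSite.pullBig Scheme.fppfPrecoverage (Spec.map (CommRingCat.ofHom (algebraMap E K')))
        AddCommGrpCat.{u + 1}).obj (CGrpSh.pts Scheme.fppfPrecoverage X) ≅
      (BigSite.pullBig Scheme.fppfPrecoverage (Spec.map (CommRingCat.ofHom (algebraMap K K')))
        AddCommGrpCat.{u + 1}).obj (CGrpSh.pts Scheme.fppfPrecoverage G) :=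
  have h : Spec.map (CommRingCat.ofHom (algebraMap E K')) ≫ Spec.map (CommRingCat.ofHom (algebraMap K E)) =
      Spec.map (CommRingCat.ofHom (algebraMap K K')) := by
    rw [← Spec.map_comp, ← CommRingCat.ofHom_comp, ← IsScalarTower.algebraMap_eq]
  have h2 : IsMonHom ((Over.pullback (Spec.map (CommRingCat.ofHom (algebraMap E K')))).mapIso e ≪≫
      ActBC.bcCompIso (Spec.map (CommRingCat.ofHom (algebraMap E K')))
        (Spec.map (CommRingCat.ofHom (algebraMap K E))) G h).hom := by
    rw [Iso.trans_hom, Functor.mapIso_hom]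
    infer_instance
  K809.PtsPull.ptsPull Scheme.fppfPrecoverage (Spec.map (CommRingCat.ofHom (algebraMap E K'))) X ≪≫
    K620.GMod.ptsIso Scheme.fppfPrecoverage
      (G := Red.bc (Spec.map (CommRingCat.ofHom (algebraMap E K'))) X)
      (H := Red.bc (Spec.map (CommRingCat.ofHom (algebraMap K K'))) G)
      ((Over.pullback (Spec.map (CommRingCat.ofHom (algebraMap E K')))).mapIso e ≪≫
      ActBC.bcCompIso (Spec.map (CommRingCat.ofHom (algebraMap E K')))
        (Spec.map (CommRingCat.ofHom (algebraMap K E))) G h) ≪≫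
    (K809.PtsPull.ptsPull Scheme.fppfPrecoverage (Spec.map (CommRingCat.ofHom (algebraMap K K'))) G).symm

theorem exists_ext (Fq : Type u) [Field Fq] [Finite Fq] {K : Type u} [Field K] [Algebra Fq K] {t : K}
    (ht : IsGen Fq K t) (G : Over (Spec (CommRingCat.of K))) [GrpObj G] [IsCommMonObj G] [IsAffine G.left]
    [LocallyOfFiniteType G.hom] :
    ∃ (K' : Type u) (_ : Field K') (_ : Algebra K K') (_ : Algebra Fq K') (_ : IsScalarTower Fq K K'),
      FiniteDimensional K K' ∧
      ShaLoc Scheme.fppfPrecoverage Fq ((BigSite.pullBig Scheme.fppfPrecoverage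
        (Spec.map (CommRingCat.ofHom (algebraMap K K'))) AddCommGrpCat.{u + 1}).obj
        (CGrpSh.pts Scheme.fppfPrecoverage G)) 1 = ⊥ := by
  obtain ⟨E, hE, N, X, F, _, _, _, _, _, _, f, g, _, _, w, e, he, hS, hN, hF⟩ :=
    HvLim.exists_stage (Ω := AlgebraicClosure K) G
  have htE : IsGen Fq E (algebraMap K E t) := GoodExt.isGen_ext (L := E) ht
  obtain ⟨K', _, _, _, _, hfd, -, h⟩ := Fin.exists_ext Fq htE F
  have h0 := h K'
  let _ : Algebra K K' := ((algebraMap E K').comp (algebraMap K E)).toAlgebra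
  have hT : IsScalarTower K E K' := IsScalarTower.of_algebraMap_eq fun _ => rfl
  have hT' : IsScalarTower Fq K K' := IsScalarTower.of_algebraMap_eq fun x => by
    rw [IsScalarTower.algebraMap_apply Fq E K', IsScalarTower.algebraMap_apply Fq K E]
    rfl
  have hfd' : FiniteDimensional K K' := FiniteDimensional.trans K E K'
  refine ⟨K', inferInstance, inferInstance, inferInstance, hT', hfd', ?_⟩
  exact shaLoc_eq_bot_of_iso (towerIso G e he) 1 (shaLoc_eq_bot_of_seq f g w hS hN h0)

end K775.ShaHv
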