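import Groth.Agent.FunFld.K660.Places
import Mathlib.FieldTheory.SplittingField.Construction
import Mathlib.FieldTheory.PurelyInseparable.Basic
import Mathlib.FieldTheory.SeparableClosure

/-!
# A finite separable extension over which the geometric points of a finite algebra are Galois invariant
-/

set_option autoImplicit false

universe u

namespace K775.GoodExt

open K660.Places

theorem isGen_ext {k K L : Type u} [Field k] [Field K] [Field L] [Algebra k K] [Algebra K L] [Algebra k L]
    [IsScalarTower k K L] [FiniteDimensional K L] {t : K} (ht : IsGen k K t) : IsGen k L (algebraMap K L t) where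
  tr := fun h => ht.tr ((isAlgebraic_algebraMap_iff (algebraMap K L).injective).1 h)
  fin := by
    have := ht.fin
    let g : IntermediateField.adjoin k {t} →+* IntermediateField.adjoin k {algebraMap K L t} :=
      RingHom.codRestrict ((algebraMap K L).comp (IntermediateField.adjoin k {t}).val.toRingHom)
        (IntermediateField.adjoin k {algebraMap K L t}) fun x => by
        have h1 := IntermediateField.adjoin_map k {t} (IsScalarTower.toAlgHom k K L)
        rw [Set.image_singleton] at h1
        change IsScalarTower.toAlgHom k K L x ∈ _
        change _ = IntermediateField.adjoin k {algebraMap K L t} at h1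
        rw [← h1]
        exact ⟨x, x.2, rfl⟩
    let _ : Algebra (IntermediateField.adjoin k {t}) (IntermediateField.adjoin k {algebraMap K L t}) := g.toAlgebra
    have : IsScalarTower (IntermediateField.adjoin k {t}) (IntermediateField.adjoin k {algebraMap K L t}) L :=
      IsScalarTower.of_algebraMap_eq fun x => rfl
    have : Module.Finite (IntermediateField.adjoin k {t}) L := Module.Finite.trans K L
    exact Module.Finite.of_restrictScalars_finite (IntermediateField.adjoin k {t}) _ L

section

variable {K B : Type u} [Field K] [CommRing B] [Algebra K B]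

/-- The product of the minimal polynomials of a finite set. -/
noncomputable def pol (S : Finset B) : Polynomial K := ∏ b ∈ S, minpoly K b

variable (K) in
/-- The separable part of a splitting field of `pol S`. -/
noncomputable abbrev Good (S : Finset B) : Type u :=
  separableClosure K (pol (K := K) S).SplittingField

theorem finite_good (S : Finset B) : FiniteDimensional K (Good K S) := inferInstance

theorem isSeparable_good (S : Finset B) : Algebra.IsSeparable K (Good K S) := inferInstance

variable [Module.Finite K B]

/-- Values at the elements of `S` of points of `B` in an extension `Ω` of `Good K S` are fixed by the automorphisms over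
`Good K S`. -/
theorem fixed (S : Finset B) (q : ℕ) [ExpChar K q] {Ω : Type u} [Field Ω] [Algebra K Ω] [Algebra (Good K S) Ω]
    [IsScalarTower K (Good K S) Ω] [IsAlgClosed Ω] (χ : B →+* Ω) (hχ : χ.comp (algebraMap K B) = algebraMap K Ω)
    (σ : Ω →+* Ω) (hσ : ∀ c : Good K S, σ (algebraMap (Good K S) Ω c) = algebraMap (Good K S) Ω c) {b : B}
    (hb : b ∈ S) : σ (χ b) = χ b := by
  let f := pol (K := K) S
  let N := f.SplittingField
  have halg : Algebra.IsAlgebraic (Good K S) N := Algebra.IsAlgebraic.tower_top (K := K) (Good K S)
  let j : N →ₐ[Good K S] Ω := IsAlgClosed.lift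
  have hroot : (f.map (algebraMap K Ω)).IsRoot (χ b) := by
    have h1 : Polynomial.eval₂ (algebraMap K Ω) (χ b) (minpoly K b) = 0 := by
      rw [← hχ, ← Polynomial.hom_eval₂]
      have h2 : Polynomial.eval₂ (algebraMap K B) b (minpoly K b) = 0 := minpoly.aeval K b
      rw [h2, map_zero]
    rw [Polynomial.IsRoot.def, Polynomial.eval_map]
    dsimp only [f, pol]
    rw [Polynomial.eval₂_finsetProd]
    exact Finset.prod_eq_zero hb h1
  have hf0 : f ≠ 0 := by
    dsimp only [f, pol]
    rw [Finset.prod_ne_zero_iff]
    intro c _
    exact minpoly.ne_zero (Algebra.IsIntegral.isIntegral c)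
  have hsplit : (f.map (algebraMap K N)).Splits := Polynomial.SplittingField.splits f
  have hmap : f.map (algebraMap K Ω) = (f.map (algebraMap K N)).map (j : N →+* Ω) := by
    rw [Polynomial.map_map]
    congr 1
    ext x
    change algebraMap K Ω x = j (algebraMap K N x)
    rw [IsScalarTower.algebraMap_apply K (Good K S) N, j.commutes, ← IsScalarTower.algebraMap_apply]
  have hmem : χ b ∈ (f.map (algebraMap K Ω)).roots :=
    (Polynomial.mem_roots (Polynomial.map_ne_zero hf0)).2 hroot
  rw [hmap, hsplit.roots_map (j : N →+* Ω), Multiset.mem_map] at hmem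
  obtain ⟨y, -, hy⟩ := hmem
  have hq : ExpChar (separableClosure K N) q :=
    expChar_of_injective_algebraMap (algebraMap K (separableClosure K N)).injective q
  obtain ⟨n, c, hc⟩ := IsPurelyInseparable.pow_mem (separableClosure K N) q y
  have h3 : (χ b) ^ q ^ n = algebraMap (Good K S) Ω c := by
    rw [← hy, ← j.commutes c]
    change (j y) ^ q ^ n = j _
    rw [← map_pow, ← hc]
  have h4 : (σ (χ b)) ^ q ^ n = (χ b) ^ q ^ n := by
    rw [← map_pow, h3, hσ]
  have hqΩ : ExpChar Ω q := expChar_of_injective_algebraMap (algebraMap K Ω).injective q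
  exact iterateFrobenius_inj Ω q n h4

theorem fixed_of_span {S : Finset B} (hS : Submodule.span K (S : Set B) = ⊤) (q : ℕ) [ExpChar K q] {Ω : Type u}
    [Field Ω] [Algebra K Ω] [Algebra (Good K S) Ω]
    [IsScalarTower K (Good K S) Ω] [IsAlgClosed Ω] (χ : B →+* Ω) (hχ : χ.comp (algebraMap K B) = algebraMap K Ω)
    (σ : Ω →+* Ω) (hσ : ∀ c : Good K S, σ (algebraMap (Good K S) Ω c) = algebraMap (Good K S) Ω c) :
    σ.comp χ = χ := by
  have hσK : ∀ c : K, σ (algebraMap K Ω c) = algebraMap K Ω c := fun c => by
    rw [IsScalarTower.algebraMap_apply K (Good K S) Ω, hσ]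
  ext b
  change σ (χ b) = χ b
  have hb : b ∈ Submodule.span K (S : Set B) := by rw [hS]; trivial
  induction hb using Submodule.span_induction with
  | mem x hx => exact fixed S q χ hχ σ hσ hx
  | zero => rw [map_zero, map_zero]
  | add x y _ _ hx hy => rw [map_add, map_add, hx, hy]
  | smul a x _ hx =>
    have h1 : χ (algebraMap K B a) = algebraMap K Ω a := RingHom.congr_fun hχ a
    rw [Algebra.smul_def, map_mul, map_mul, hx, h1, hσK]

end

end K775.GoodExt
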