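import Groth.Agent.TateGlob.K775.ShaFin
import Groth.Agent.TateGlob.K775.GoodExt
import Groth.Agent.TateLoc.K809.PtsPull

/-!
# `Ш¹` of a finite group scheme vanishes over a finite separable extension and all further extensions
-/

set_option autoImplicit false
set_option backward.isDefEq.respectTransparency.types false

universe u

open CategoryTheory CategoryTheory.Limits AlgebraicGeometry Opposite
open FunFld AdFn K660.Places K775.ShaFin

namespace K775.Fin

theorem trivGal_bc {K K'' Ω : Type u} [Field K] [Field K''] [Field Ω] [Algebra K K''] [Algebra K'' Ω]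
    (G : Over (Spec (CommRingCat.of K)))
    (hfix : ∀ (σ : Ω ≃ₐ[K''] Ω) (y : Spec (CommRingCat.of Ω) ⟶ G.left),
      y ≫ G.hom = Spec.map (CommRingCat.ofHom ((algebraMap K'' Ω).comp (algebraMap K K''))) →
      Spec.map (CommRingCat.ofHom (σ : Ω →+* Ω)) ≫ y = y) :
    TrivGal Ω (Red.bc (Spec.map (CommRingCat.ofHom (algebraMap K K''))) G) := by
  intro σ x
  ext1
  apply pullback.hom_ext
  · refine Eq.trans (Category.assoc _ _ _) ?_
    refine hfix σ (x.left ≫ pullback.fst _ _) ?_
    rw [Category.assoc, pullback.condition, CommRingCat.ofHom_comp, Spec.map_comp, ← Category.assoc]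
    congr 1
    exact Over.w x
  · refine (Over.w (gal σ ≫ x)).trans ?_
    exact (Over.w x).symm

variable (Fq : Type u) [Field Fq] [Finite Fq] {K : Type u} [Field K] [Algebra Fq K]

theorem exists_ext {t : K} (ht : IsGen Fq K t) (G : Over (Spec (CommRingCat.of K))) [GrpObj G] [IsCommMonObj G]
    [IsFinite G.hom] :
    ∃ (K' : Type u) (_ : Field K') (_ : Algebra K K') (_ : Algebra Fq K') (_ : IsScalarTower Fq K K'),
      FiniteDimensional K K' ∧ Algebra.IsSeparable K K' ∧
      ∀ (K'' : Type u) [Field K''] [Algebra K K''] [Algebra K' K''] [IsScalarTower K K' K''] [Algebra Fq K'']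
        [IsScalarTower Fq K K''] [FiniteDimensional K' K''],
        ShaLoc Scheme.fppfPrecoverage Fq ((BigSite.pullBig Scheme.fppfPrecoverage
          (Spec.map (CommRingCat.ofHom (algebraMap K K''))) AddCommGrpCat.{u + 1}).obj
          (CGrpSh.pts Scheme.fppfPrecoverage G)) 1 = ⊥ := by
  obtain ⟨B, _, _, hBf, ⟨i⟩⟩ := exists_alg G
  obtain ⟨S, hS⟩ := hBf.fg_top
  obtain ⟨q, hq⟩ := CharP.exists K
  have hk₀ : CharP Fq q := (algebraMap Fq K).charP (algebraMap Fq K).injective q
  have hq0 : q ≠ 0 := by
    rintro rfl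
    have := CharP.charP_to_charZero Fq
    exact not_finite Fq
  have hprime : Fact q.Prime := ⟨(CharP.char_is_prime_or_zero K q).resolve_right hq0⟩
  have hexp : ExpChar K q := ExpChar.prime hprime.out
  refine ⟨GoodExt.Good K S, inferInstance, inferInstance, inferInstance, inferInstance,
    GoodExt.finite_good S, GoodExt.isSeparable_good S, ?_⟩
  intro K'' _ _ _ _ _ _ _
  have hfd : FiniteDimensional K K'' := by
    have := GoodExt.finite_good (K := K) S
    exact Module.Finite.trans (GoodExt.Good K S) K''
  have htriv : TrivGal (AlgebraicClosure K'') (Red.bc (Spec.map (CommRingCat.ofHom (algebraMap K K''))) G) := by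
    refine trivGal_bc G ?_
    intro σ y hy
    have hst : IsScalarTower K (GoodExt.Good K S) (AlgebraicClosure K'') := inferInstance
    let f : specOf ((algebraMap K'' (AlgebraicClosure K'')).comp (algebraMap K K'')) ⟶ G := Over.homMk y hy
    obtain ⟨χ, hχ, hf⟩ := exists_ring (f ≫ i.inv)
    have hχ' : χ.comp (algebraMap K B) = algebraMap K (AlgebraicClosure K'') := by
      rw [hχ]
      exact (IsScalarTower.algebraMap_eq K K'' (AlgebraicClosure K'')).symm
    have h1 := GoodExt.fixed_of_span hS q χ hχ' (σ : AlgebraicClosure K'' →+* AlgebraicClosure K'') (fun c => by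
      rw [IsScalarTower.algebraMap_apply (GoodExt.Good K S) K'' (AlgebraicClosure K'')]
      exact σ.commutes _)
    have h2 : y ≫ i.inv.left = Spec.map (CommRingCat.ofHom χ) := congrArg CommaMorphism.left hf
    have h3 : (Spec.map (CommRingCat.ofHom (σ : AlgebraicClosure K'' →+* AlgebraicClosure K'')) ≫ y) ≫ i.inv.left =
        y ≫ i.inv.left := by
      rw [Category.assoc, h2, ← Spec.map_comp, ← CommRingCat.ofHom_comp, h1]
    have h4 : ∀ z : Spec (CommRingCat.of (AlgebraicClosure K'')) ⟶ G.left, (z ≫ i.inv.left) ≫ i.hom.left = z := by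
      intro z
      have h5 : i.inv.left ≫ i.hom.left = 𝟙 _ := congrArg CommaMorphism.left i.inv_hom_id
      rw [Category.assoc, h5]
      exact Category.comp_id z
    rw [← h4 (Spec.map _ ≫ y), h3, h4]
  have hfin : IsFinite (Red.bc (Spec.map (CommRingCat.ofHom (algebraMap K K''))) G).hom := by
    change IsFinite (pullback.snd G.hom (Spec.map (CommRingCat.ofHom (algebraMap K K''))))
    infer_instance
  exact shaLoc_eq_bot (GoodExt.isGen_ext (L := K'') ht) (Red.bc (Spec.map (CommRingCat.ofHom (algebraMap K K''))) G)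
    (K809.PtsPull.ptsPull Scheme.fppfPrecoverage (Spec.map (CommRingCat.ofHom (algebraMap K K''))) G).symm htriv

end K775.Fin
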