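import Mathlib.RingTheory.Jacobson.Artinian
import Mathlib.FieldTheory.IsAlgClosed.Basic
import Mathlib.RingTheory.Coalgebra.GroupLike
import Mathlib.RingTheory.KrullDimension.Zero

/-!
# Finite type algebras with finitely many geometric points are finite
-/

set_option autoImplicit false

universe u

namespace K775.FinPts

variable {K C Ω : Type u} [Field K] [CommRing C] [Algebra K C] [Algebra.FiniteType K C] [Field Ω] [Algebra K Ω]
  [IsAlgClosed Ω]

theorem exists_point (m : Ideal C) [hm : m.IsMaximal] : ∃ p : C →ₐ[K] Ω, ∀ c, p c = 0 ↔ c ∈ m := by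
  let _ : Field (C ⧸ m) := Ideal.Quotient.field m
  have hft : Algebra.FiniteType K (C ⧸ m) := inferInstance
  have hfin : Module.Finite K (C ⧸ m) := finite_of_finite_type_of_isJacobsonRing K (C ⧸ m)
  have halg : Algebra.IsAlgebraic K (C ⧸ m) := Algebra.IsAlgebraic.of_finite K _
  let f : (C ⧸ m) →ₐ[K] Ω := IsAlgClosed.lift
  refine ⟨f.comp (Ideal.Quotient.mkₐ K m), fun c => ?_⟩
  change f (Ideal.Quotient.mk m c) = 0 ↔ _
  rw [map_eq_zero_iff f f.injective, Ideal.Quotient.eq_zero_iff_mem]

theorem finite_of_finite_points (h : Finite (C →ₐ[K] Ω)) : Module.Finite K C := by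
  have hmax : Finite (MaximalSpectrum C) := by
    have := fun m : MaximalSpectrum C => exists_point (K := K) (Ω := Ω) m.asIdeal (hm := m.isMaximal)
    choose p hp using this
    refine Finite.of_injective p fun m m' hmm => ?_
    ext c
    rw [← hp, ← hp, hmm]
  rw [Module.finite_iff_krullDimLE_zero]
  refine Ring.KrullDimLE.mk₀ fun P hP => ?_
  have hJ : IsJacobsonRing C := isJacobsonRing_of_finiteType (A := K)
  have hj : P.jacobson = P := hJ.out hP.isRadical
  have := Fintype.ofFinite (MaximalSpectrum C)
  classical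
  let s : Finset (MaximalSpectrum C) := Finset.univ.filter fun m => P ≤ m.asIdeal
  have h1 : s.inf (fun m => m.asIdeal) ≤ P := by
    conv_rhs => rw [← hj]
    refine le_sInf fun J hJ => ?_
    exact Finset.inf_le (f := fun m : MaximalSpectrum C => m.asIdeal) (b := ⟨J, hJ.2⟩)
      (Finset.mem_filter.2 ⟨Finset.mem_univ _, hJ.1⟩)
  obtain ⟨m, hm, hmP⟩ := hP.inf_le'.1 h1
  have h2 : P = m.asIdeal := le_antisymm (Finset.mem_filter.1 hm).2 hmP
  rw [h2]
  exact m.isMaximal

/-- Finitely many group-like elements. -/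
theorem finite_groupLike (R A : Type*) [CommRing R] [IsDomain R] [AddCommGroup A] [Module R A] [Coalgebra R A]
    [Module.Finite R A] [Module.IsTorsionFree R A] : Finite {a : A | IsGroupLikeElem R a} := by
  have h := linearIndepOn_isGroupLikeElem (R := R) (A := A)
  exact h.setFinite

end K775.FinPts
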