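import Groth.Agent.GmDual.K311.FamGL
import Groth.Agent.GmDual.K311.FamRep
import Groth.Agent.SGA3x.K20.HomGrp
import Groth.Agent.TateGlob.K775.FinPts
import Groth.Prelude.Def_CGrpSh2

/-!
# The dual sheaf of a finite commutative group scheme over a field is a finite group scheme
-/

set_option autoImplicit false
set_option backward.isDefEq.respectTransparency.types false

universe u

open CategoryTheory CategoryTheory.Limits AlgebraicGeometry Opposite MonoidalCategory CartesianMonoidalCategory
open TensorProduct CGrpSh MonObj Groth.Agent.Books.AffBridge K778.CharDict K311.FamGL K311.Fam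

namespace K775.DualFin

variable {K : Type u} [Field K]

theorem isAffineHom_gm (S : Scheme.{u}) : IsAffineHom (Red.Gm S).hom := by
  have h1 : IsAffineHom (Red.diag (ULift.{u} ℤ) ℤ).hom :=
    inferInstanceAs (IsAffineHom (Spec.map (CommRingCat.ofHom
      (algebraMap (ULift.{u} ℤ) (MonoidAlgebra (ULift.{u} ℤ) (Multiplicative ℤ))))))
  exact MorphismProperty.pullback_snd _ _ h1

theorem locallyOfFiniteType_gm (S : Scheme.{u}) : LocallyOfFiniteType (Red.Gm S).hom := by
  have h1 : LocallyOfFiniteType (Red.diag (ULift.{u} ℤ) ℤ).hom := by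
    change LocallyOfFiniteType (Spec.map (CommRingCat.ofHom
      (algebraMap (ULift.{u} ℤ) (MonoidAlgebra (ULift.{u} ℤ) (Multiplicative ℤ)))))
    rw [HasRingHomProperty.Spec_iff (P := @LocallyOfFiniteType)]
    have h2 : Algebra.FiniteType (ULift.{u} ℤ) (MonoidAlgebra (ULift.{u} ℤ) (Multiplicative ℤ)) :=
      inferInstance
    exact RingHom.finiteType_algebraMap.2 h2
  exact MorphismProperty.pullback_snd _ _ h1

/-- Affine schemes of finite type over a field as spectra. -/
theorem exists_alg (P : Over (Spec (CommRingCat.of K))) [hP : IsAffine P.left] [LocallyOfFiniteType P.hom] :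
    ∃ (C : Type u) (_ : CommRing C) (_ : Algebra K C), Algebra.FiniteType K C ∧ Nonempty (SpecOver K C ≅ P) := by
  let B := Γ(P.left, ⊤)
  let φ : CommRingCat.of K ⟶ B := Spec.preimage (P.left.isoSpec.inv ≫ P.hom)
  have hφ : Spec.map φ = P.left.isoSpec.inv ≫ P.hom := Spec.map_preimage _
  let _ : Algebra K B := φ.hom.toAlgebra
  have hfin : φ.hom.FiniteType := by
    rw [← HasRingHomProperty.Spec_iff (P := @LocallyOfFiniteType), hφ]
    infer_instance
  refine ⟨B, inferInstance, inferInstance, hfin, ⟨Over.isoMk P.left.isoSpec.symm ?_⟩⟩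
  exact hφ.symm

theorem specMap_injective {A B : Type u} [CommRing A] [Algebra K A] [CommRing B] [Algebra K B] {f g : A →ₐ[K] B}
    (h : specMap K f = specMap K g) : f = g := by
  have h1 : Spec.map (CommRingCat.ofHom f.toRingHom) = Spec.map (CommRingCat.ofHom g.toRingHom) :=
    congrArg CommaMorphism.left h
  have h2 : f.toRingHom = g.toRingHom := congrArg CommRingCat.Hom.hom (Spec.map_injective h1)
  ext x
  exact RingHom.congr_fun h2 x

/-- The functor of characters of a finite group scheme has finitely many points over a field. -/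
theorem finite_points (G : Over (Spec (CommRingCat.of K))) [GrpObj G] [IsFinite G.hom]
    (A : Over (Spec (CommRingCat.of K))) (υ : G ⊗ A ⟶ Red.Gm (Spec (CommRingCat.of K)))
    (hA : AutFam.RepresentsHom G (Red.Gm (Spec (CommRingCat.of K))) A υ) (Ω : Type u) [Field Ω] [Algebra K Ω] :
    Finite (SpecOver K Ω ⟶ A) := by
  have haff : IsAffine G.left := isAffine_of_isAffineHom G.hom
  obtain ⟨B, _, _, e, he⟩ := exists_hopf K G
  have hBf : Module.Finite K B := by
    have h1 : IsFinite (SpecOver K B).hom := by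
      rw [← Over.w e.inv]
      infer_instance
    have h2 : IsFinite (Spec.map (CommRingCat.ofHom (algebraMap K B))) := h1
    rw [IsFinite.SpecMap_iff] at h2
    exact RingHom.finite_algebraMap.1 h2
  have hi : IsMonHom e.inv := inferInstance
  let T := SpecOver K Ω
  let f : (T ⟶ A) → {a : Ω ⊗[K] B | IsGroupLikeElem Ω a} := fun a =>
    ⟨ug (e.inv ▷ T ≫ (G ◁ a ≫ υ)), isGroupLike_ug (isHomFamily_whiskerRight e.inv (isHomFamily_comp a hA.1))⟩
  have hf : Function.Injective f := by
    intro a b hab
    have h1 : ug (e.inv ▷ T ≫ (G ◁ a ≫ υ)) = ug (e.inv ▷ T ≫ (G ◁ b ≫ υ)) := congrArg Subtype.val hab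
    have h2 := ug_injective h1
    rw [cancel_epi] at h2
    exact (hA.2 T (G ◁ b ≫ υ) (isHomFamily_comp b hA.1)).unique h2 rfl
  have := FinPts.finite_groupLike Ω (Ω ⊗[K] B)
  exact Finite.of_injective f hf

theorem exists_dual (G : Over (Spec (CommRingCat.of K))) [GrpObj G] [IsCommMonObj G] [IsFinite G.hom] :
    ∃ (A : Over (Spec (CommRingCat.of K))) (_ : GrpObj A) (_ : IsCommMonObj A), IsFinite A.hom ∧
      Nonempty (CGrpSh.pts Scheme.fppfPrecoverage A ≅
        CGrpSh2.dualSh Scheme.fppfPrecoverage (CGrpSh.pts Scheme.fppfPrecoverage G)) := by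
  have hGma : IsAffineHom (Red.Gm (Spec (CommRingCat.of K))).hom := isAffineHom_gm _
  have hGmf : LocallyOfFiniteType (Red.Gm (Spec (CommRingCat.of K))).hom := locallyOfFiniteType_gm _
  have hflat : Flat G.hom := inferInstance
  have hlfp : LocallyOfFinitePresentation G.hom := inferInstance
  obtain ⟨A, υ, hA, hAa, hAf, -⟩ := K20.HomGrp.exists_representsHom G (Red.Gm (Spec (CommRingCat.of K)))
  have hAft := hAf hGmf
  obtain ⟨gA, cA, θ, -⟩ := K311.FamRep.exists_grp Scheme.fppfPrecoverage υ hA
  refine ⟨A, gA, cA, ?_, ⟨θ⟩⟩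
  have hAaff : IsAffine A.left := isAffine_of_isAffineHom A.hom
  obtain ⟨C, _, _, hC, ⟨i⟩⟩ := exists_alg A
  have h1 := finite_points G A υ hA (AlgebraicClosure K)
  have h2 : Finite (C →ₐ[K] AlgebraicClosure K) :=
    Finite.of_injective (fun p => specMap K p ≫ i.hom) fun p q hpq => specMap_injective ((cancel_mono i.hom).1 hpq)
  have h3 : Module.Finite K C := FinPts.finite_of_finite_points h2
  have h4 : IsFinite (SpecOver K C).hom := by
    change IsFinite (Spec.map (CommRingCat.ofHom (algebraMap K C)))
    rw [IsFinite.SpecMap_iff]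
    exact RingHom.finite_algebraMap.2 h3
  rw [← Over.w i.inv]
  infer_instance

end K775.DualFin
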