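import Groth.Agent.TateGlob.K775.Heart
import Groth.Agent.TateGlob.K827.Tor
import Groth.Agent.TateGlob.K827.Abs
import Groth.Agent.Desc.MorDescent

/-!
# Vanishing of `Ш¹` for a finite group scheme with constant geometric points

`shaLoc_eq_bot`: `K` of finite degree over `Fq(t)`, `G` a finite commutative group scheme over `K` on whose geometric
points the Galois group acts trivially: `Ш¹(K, G) = 0` (torsors + `Heart.exists_algHom`).
-/

set_option autoImplicit false
set_option backward.isDefEq.respectTransparency.types false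

universe u

open CategoryTheory CategoryTheory.Limits AlgebraicGeometry Opposite
open FunFld AdFn K660.Places K828 K828.Cech K828.BigCoh K827.H1 K827.Tor K827.Abs

namespace K775.ShaFin

section Geo

variable {K : Type u} [Field K]

theorem exists_alg (P : Over (Spec (CommRingCat.of K))) [hP : IsFinite P.hom] :
    ∃ (B : Type u) (_ : CommRing B) (_ : Algebra K B), Module.Finite K B ∧ Nonempty (specOf (algebraMap K B) ≅ P) := by
  have haff : IsAffine P.left := isAffine_of_isAffineHom P.hom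
  let B := Γ(P.left, ⊤)
  let φ : CommRingCat.of K ⟶ B := Spec.preimage (P.left.isoSpec.inv ≫ P.hom)
  have hφ : Spec.map φ = P.left.isoSpec.inv ≫ P.hom := Spec.map_preimage _
  let _ : Algebra K B := φ.hom.toAlgebra
  have hfin : φ.hom.Finite := by
    rw [← IsFinite.SpecMap_iff, hφ]
    infer_instance
  refine ⟨B, inferInstance, inferInstance, hfin, ⟨Over.isoMk P.left.isoSpec.symm ?_⟩⟩
  exact hφ.symm

/-- Points of `Spec A` are algebra maps. -/
theorem exists_ring {R A B : Type u} [CommRing R] [CommRing A] [CommRing B] {φ : R →+* A} {ψ : R →+* B}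
    (f : specOf ψ ⟶ specOf φ) : ∃ (χ : A →+* B) (h : χ.comp φ = ψ), f = specOfHom φ ψ χ h := by
  let χ : CommRingCat.of A ⟶ CommRingCat.of B := Spec.preimage f.left
  have hχ : Spec.map χ = f.left := Spec.map_preimage _
  have h : (χ.hom).comp φ = ψ := by
    have h1 := Over.w f
    change f.left ≫ Spec.map (CommRingCat.ofHom φ) = Spec.map (CommRingCat.ofHom ψ) at h1
    rw [← hχ, ← Spec.map_comp] at h1
    exact congrArg CommRingCat.Hom.hom (Spec.map_injective h1)
  refine ⟨χ.hom, h, ?_⟩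
  ext1
  exact hχ.symm

theorem specOfHom_injective {R A B : Type u} [CommRing R] [CommRing A] [CommRing B] {φ : R →+* A} {ψ : R →+* B}
    {χ χ' : A →+* B} {h : χ.comp φ = ψ} {h' : χ'.comp φ = ψ} (e : specOfHom φ ψ χ h = specOfHom φ ψ χ' h') :
    χ = χ' := by
  have h1 : Spec.map (CommRingCat.ofHom χ) = Spec.map (CommRingCat.ofHom χ') := congrArg CommaMorphism.left e
  exact congrArg CommRingCat.Hom.hom (Spec.map_injective h1)

theorem specOfHom_comp {R A B C : Type u} [CommRing R] [CommRing A] [CommRing B] [CommRing C] {φ : R →+* A}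
    {ψ : R →+* B} {ω : R →+* C} (χ : A →+* B) (h : χ.comp φ = ψ) (χ' : B →+* C) (h' : χ'.comp ψ = ω) :
    specOfHom ψ ω χ' h' ≫ specOfHom φ ψ χ h = specOfHom φ ω (χ'.comp χ) (by rw [RingHom.comp_assoc, h, h']) := by
  ext1
  change Spec.map _ ≫ Spec.map _ = Spec.map _
  rw [← Spec.map_comp]
  rfl

/-- The automorphism of `Spec Ω` given by an automorphism of `Ω / K`. -/
noncomputable abbrev gal {Ω : Type u} [Field Ω] [Algebra K Ω] (σ : Ω ≃ₐ[K] Ω) :
    specOf (algebraMap K Ω) ⟶ specOf (algebraMap K Ω) :=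
  specOfHom (algebraMap K Ω) (algebraMap K Ω) (σ : Ω →+* Ω) (by ext x; exact σ.commutes x)

/-- The Galois group acts trivially on the geometric points of `G`. -/
def TrivGal (Ω : Type u) [Field Ω] [Algebra K Ω] (G : Over (Spec (CommRingCat.of K))) : Prop :=
  ∀ (σ : Ω ≃ₐ[K] Ω) (x : specOf (algebraMap K Ω) ⟶ G), gal σ ≫ x = x

theorem rs_eq_of_trivGal {Ω : Type u} [Field Ω] [Algebra K Ω] {G : Over (Spec (CommRingCat.of K))} [GrpObj G]
    [IsCommMonObj G] {F : BigSite.Ab Scheme.fppfPrecoverage (Spec (CommRingCat.of K))}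
    (e : CGrpSh.pts Scheme.fppfPrecoverage G ≅ F) (h : TrivGal Ω G) (σ : Ω ≃ₐ[K] Ω)
    (g : F.obj.obj (op (specOf (algebraMap K Ω)))) : rs F (gal σ) g = g := by
  obtain ⟨x, rfl⟩ : ∃ x, e.hom.hom.app (op (specOf (algebraMap K Ω))) x = g := by
    refine ⟨e.inv.hom.app (op _) g, ?_⟩
    have : (e.inv ≫ e.hom).hom.app (op (specOf (algebraMap K Ω))) g = g := by rw [e.inv_hom_id]; rfl
    exact this
  rw [← rs_nat]
  congr 1
  change ULift.up (Additive.ofMul (gal σ ≫ x.down.toMul)) = x
  rw [h σ]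
  rfl

end Geo

section Main

variable {k₀ K : Type u} [Field k₀] [Field K] [Algebra k₀ K]

theorem shaLoc_eq_bot [Finite k₀] {t : K} (ht : IsGen k₀ K t) {Ω : Type u} [Field Ω] [Algebra K Ω]
    [Algebra.IsAlgebraic K Ω] [IsAlgClosed Ω]
    (G : Over (Spec (CommRingCat.of K))) [GrpObj G] [IsCommMonObj G] [IsFinite G.hom]
    {F : BigSite.Ab Scheme.fppfPrecoverage (Spec (CommRingCat.of K))}
    (e : CGrpSh.pts Scheme.fppfPrecoverage G ≅ F) (hG : TrivGal Ω G) :
    ShaLoc Scheme.fppfPrecoverage k₀ F 1 = ⊥ := by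
  rw [eq_bot_iff]
  intro x hx
  have hx' : ∀ v : Place k₀ K, HRes.res Scheme.fppfPrecoverage F 1 (specOf (toKv v)) x = 0 := fun v =>
    (AddSubgroup.mem_iInf.1 hx) v
  have := Groth.Agent.Desc.MorDescent.descendsAlong_isFinite.{u}
  have : IsAffine (Over.mk (𝟙 (Spec (CommRingCat.of K)))).left := inferInstanceAs (IsAffine (Spec (CommRingCat.of K)))
  have : IsAffineHom G.hom := inferInstance
  obtain ⟨P, π, c, hP, hprop, -⟩ := exists_isTors (bigCoh Scheme.fppfPrecoverage _) e
    (T := Over.mk (𝟙 (Spec (CommRingCat.of K)))) (absE F 1 x)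
  have hfin : IsFinite P.hom := by
    have h1 : IsFinite π.left := hprop @IsFinite inferInstance
    rw [← Over.w π]
    change IsFinite (π.left ≫ 𝟙 _)
    rw [Category.comp_id]
    exact h1
  obtain ⟨B, _, _, hBf, ⟨i⟩⟩ := exists_alg P
  -- points of `P`
  let tt : ∀ W : Over (Spec (CommRingCat.of K)), W ⟶ Over.mk (𝟙 (Spec (CommRingCat.of K))) := fun W => Over.homMk W.hom
  have htt : ∀ {W : Over (Spec (CommRingCat.of K))} (f g : W ⟶ Over.mk (𝟙 (Spec (CommRingCat.of K)))), f = g := by
    intro W f g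
    ext1
    have h1 := Over.w f
    have h2 := Over.w g
    change f.left ≫ 𝟙 _ = _ at h1
    change g.left ≫ 𝟙 _ = _ at h2
    rw [Category.comp_id] at h1 h2
    rw [h1, h2]
  have hB : ∀ v : Place k₀ K, ∃ g : B →+* Kv v, ∀ x, g (algebraMap K B x) = toKv v x := by
    intro v
    have h1 : (bigCoh Scheme.fppfPrecoverage _).res (tt (specOf (toKv v))) (absE F 1 x) = 0 :=
      (res_absE' F 1 (tt (specOf (toKv v))) x).trans (hx' v)
    obtain ⟨a, -⟩ := (hP.res_eq_zero_iff _).1 h1
    obtain ⟨χ, hχ, -⟩ := exists_ring (a ≫ i.inv)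
    exact ⟨χ, fun x => RingHom.congr_fun hχ x⟩
  have hpt : Nonempty (B →ₐ[K] K) := by
    refine Heart.exists_algHom (Ω := Ω) ht hB ?_
    intro p p' σ hσ
    let a : specOf (algebraMap K Ω) ⟶ P := specOfHom (algebraMap K B) (algebraMap K Ω) (p : B →+* Ω)
      (by ext x; exact p.commutes x) ≫ i.hom
    let a' : specOf (algebraMap K Ω) ⟶ P := specOfHom (algebraMap K B) (algebraMap K Ω) (p' : B →+* Ω)
      (by ext x; exact p'.commutes x) ≫ i.hom
    have ha : gal σ ≫ a = a := by
      dsimp only [a]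
      rw [← Category.assoc, specOfHom_comp]
      congr 1
      congr 1
      ext b
      exact hσ b
    have hcoc := hP.cls.isCoc
    have e1 : c _ a (gal σ ≫ a') = c _ a a' := by
      conv_lhs => rw [← ha]
      rw [hcoc.nat (gal σ) a a' (htt _ _)]
      exact rs_eq_of_trivGal e hG σ _
    have e2 : c _ a a' + c _ a' (gal σ ≫ a') = c _ a (gal σ ≫ a') := hcoc.add _ _ _ (htt _ _) (htt _ _)
    have e3 : c _ a' (gal σ ≫ a') = 0 := by
      rw [e1] at e2
      exact add_eq_left.1 e2
    have e4 : a' = gal σ ≫ a' := hP.inj _ _ (htt _ _) e3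
    dsimp only [a'] at e4
    rw [← Category.assoc, specOfHom_comp, cancel_mono] at e4
    have e5 := specOfHom_injective e4
    intro b
    exact (RingHom.congr_fun e5 b).symm
  obtain ⟨ρ⟩ := hpt
  let s₀ : Over.mk (𝟙 (Spec (CommRingCat.of K))) ⟶ specOf (algebraMap K B) :=
    Over.homMk (Spec.map (CommRingCat.ofHom (ρ : B →+* K))) (by
      change Spec.map _ ≫ Spec.map _ = 𝟙 _
      rw [← Spec.map_comp, ← CommRingCat.ofHom_comp]
      have : (ρ : B →+* K).comp (algebraMap K B) = RingHom.id K := by ext x; exact ρ.commutes x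
      rw [this]
      exact Spec.map_id _)
  have h2 : (bigCoh Scheme.fppfPrecoverage _).res (𝟙 (Over.mk (𝟙 (Spec (CommRingCat.of K))))) (absE F 1 x) = 0 := by
    rw [hP.res_eq_zero_iff]
    exact ⟨s₀ ≫ i.hom, htt _ _⟩
  rw [CohT.res_id] at h2
  have h3 : x = 0 := (absE F 1).injective (h2.trans (map_zero _).symm)
  rw [h3]
  exact AddSubgroup.zero_mem _

end Main

end K775.ShaFin
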