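import Groth.Agent.S3278
import Groth.Agent.S3016
import Groth.Agent.Fdesc.GrpDimHom
import Groth.Agent.Flat2D.FibreDimSch
import Groth.Agent.Sga3.H783.Dichotomy
import Groth.Agent.Sga3.H830.CommAux
import Groth.Agent.Sga3C.QuotProps
import Groth.Agent.Sga7.H760.L2
import Groth.Agent.Sga7.H783.GmSub
import Groth.Agent.Grpsch.KerMul

/-!
# Structure of commutative affine groups over an algebraically closed field

`exists_seq`: an affine commutative group `G` of finite type over an algebraically closed field is an extension of a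
finite group by an iterated extension of groups `𝔾_a` and `𝔾_m`.
-/

set_option autoImplicit false
universe u
open CategoryTheory CategoryTheory.Limits MonoidalCategory CartesianMonoidalCategory MonObj GrpObj
  AlgebraicGeometry

namespace K775.AcDev

variable {K : Type u} [Field K]

/-- A scheme of dimension zero which is irreducible has one point. -/
theorem subsingleton_of_dim_zero {X : Scheme.{u}} [IrreducibleSpace X] (h : topologicalKrullDim X ≤ 0) :
    Subsingleton X := by
  have h1 := Order.krullDim_nonpos_iff_forall_isMax.mp h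
  have key : ∀ x : X, x = genericPoint X := by
    intro x
    let A : TopologicalSpace.IrreducibleCloseds X := ⟨closure {x}, isIrreducible_singleton.closure, isClosed_closure⟩
    let B : TopologicalSpace.IrreducibleCloseds X := ⟨Set.univ, IrreducibleSpace.isIrreducible_univ X, isClosed_univ⟩
    have hAB : A ≤ B := fun _ _ => trivial
    have hBA : B ≤ A := h1 A hAB
    have h2 : closure {x} = Set.univ := Set.eq_univ_of_univ_subset hBA
    have h3 : closure {genericPoint X} = Set.univ := genericPoint_closure X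
    have h4 : Inseparable x (genericPoint X) := by
      rw [inseparable_iff_closure_eq, h2, h3]
    exact h4.eq
  exact ⟨fun x y => (key x).trans (key y).symm⟩

/-- A non-trivial integral algebraic group over a field has positive dimension. -/
theorem one_le_dim_of_not_isIso (H : Over (Spec (CommRingCat.of K))) [GrpObj H]
    [LocallyOfFiniteType H.hom] [IsIntegral H.left] (h : ¬ IsIso H.hom) : 1 ≤ topologicalKrullDim H.left := by
  have hsep : IsSeparated H.hom := Groth.Agent.Books.AntiAffine.isSeparated_hom H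
  by_contra hlt
  rw [not_le] at hlt
  apply h
  have h0 : topologicalKrullDim H.left ≤ 0 := by
    obtain ⟨d, hd, -⟩ := Groth.Agent.Fdesc.GrpDimHom.rtd_eq H
    rw [hd] at hlt ⊢
    have h1 : d < 1 := by exact_mod_cast hlt
    have h2 : d = 0 := by omega
    subst h2
    exact le_of_eq rfl
  have hsub : Subsingleton H.left := subsingleton_of_dim_zero h0
  have hw : (η[H] : 𝟙_ (Over (Spec (CommRingCat.of K))) ⟶ H).left ≫ H.hom = 𝟙 _ :=
    Over.w (η[H] : 𝟙_ (Over (Spec (CommRingCat.of K))) ⟶ H)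
  have hcl : IsClosedImmersion (η[H] : 𝟙_ (Over (Spec (CommRingCat.of K))) ⟶ H).left := by
    have : IsClosedImmersion ((η[H] : 𝟙_ (Over (Spec (CommRingCat.of K))) ⟶ H).left ≫ H.hom) := by
      rw [hw]; infer_instance
    exact IsClosedImmersion.of_comp _ H.hom
  have hs : Surjective (η[H] : 𝟙_ (Over (Spec (CommRingCat.of K))) ⟶ H).left := by
    refine ⟨fun x => ⟨(IsLocalRing.closedPoint K : Spec (CommRingCat.of K)), Subsingleton.elim _ _⟩⟩
  have hiso : IsIso (η[H] : 𝟙_ (Over (Spec (CommRingCat.of K))) ⟶ H).left :=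
    isIso_of_isClosedImmersion_of_surjective _
  have : IsIso ((η[H] : 𝟙_ (Over (Spec (CommRingCat.of K))) ⟶ H).left ≫ H.hom) := by rw [hw]; infer_instance
  exact IsIso.of_isIso_comp_left (η[H] : 𝟙_ (Over (Spec (CommRingCat.of K))) ⟶ H).left H.hom

/-- Dividing by a closed subgroup of positive dimension lowers the dimension. -/
theorem dim_lt {H G Q : Over (Spec (CommRingCat.of K))} [GrpObj H] [GrpObj G] [GrpObj Q]
    [LocallyOfFiniteType G.hom] [LocallyOfFiniteType Q.hom] [LocallyOfFiniteType H.hom] (h : H ⟶ G) (p : G ⟶ Q)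
    [IsMonHom p] [QuasiCompact p.left] [Surjective p.left] (hk : AlgGrp.IsKernel h p)
    (hH : 1 ≤ topologicalKrullDim H.left) : topologicalKrullDim Q.left < topologicalKrullDim G.left := by
  have h1 := (Groth.Agent.S3016.result K G Q p).2
  have h2 : Set.range p.left.base = Set.univ := Set.range_eq_univ.mpr p.left.surjective
  have h3 : topologicalKrullDim (Set.range p.left.base) = topologicalKrullDim Q.left := by
    rw [h2]
    exact IsHomeomorph.topologicalKrullDim_eq _ (Homeomorph.Set.univ _).isHomeomorph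
  have h4 : topologicalKrullDim ↥(Limits.pullback p.left (η[Q] : 𝟙_ (Over (Spec (CommRingCat.of K))) ⟶ Q).left) =
      topologicalKrullDim H.left :=
    Groth.Agent.Flat2D.FibreDimSch.topologicalKrullDim_eq_of_iso ((hk.map (Over.forget _)).isoPullback).symm
  rw [h3, h4] at h1
  obtain ⟨a, ha, -⟩ := Groth.Agent.Fdesc.GrpDimHom.rtd_eq Q
  obtain ⟨b, hb, -⟩ := Groth.Agent.Fdesc.GrpDimHom.rtd_eq H
  rw [h1, ha, hb]
  rw [hb] at hH
  have hb1 : 1 ≤ b := by exact_mod_cast hH
  have : a < a + b := by omega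
  exact_mod_cast this

lemma eq_one_of_isIso_hom {C G : Over (Spec (CommRingCat.of K))} [GrpObj C] [GrpObj G] (j : C ⟶ G) [IsMonHom j]
    (h : IsIso C.hom) : j = 1 := by
  have h1 : (𝟙 C : C ⟶ C) = 1 := by
    rw [Hom.one_def]
    ext1
    rw [← cancel_mono C.hom, Over.w, Over.w]
  rw [← Category.id_comp j, h1, MonObj.one_comp]

/-- the closed subgroups of a group which is not proper -/
theorem exists_ga_or_gm [IsAlgClosed K] (Y : Over (Spec (CommRingCat.of K))) [GrpObj Y] [LocallyOfFiniteType Y.hom]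
    [QuasiCompact Y.hom] (h : ¬ IsProper Y.hom) :
    (¬ IsIso (Red.Ga (Spec (CommRingCat.of K))).hom ∧
      ∃ i : Red.Ga (Spec (CommRingCat.of K)) ⟶ Y, IsMonHom i ∧ IsClosedImmersion i.left) ∨
    (¬ IsIso (Red.Gm (Spec (CommRingCat.of K))).hom ∧
      ∃ i : Red.Gm (Spec (CommRingCat.of K)) ⟶ Y, IsMonHom i ∧ IsClosedImmersion i.left) := by
  rcases Groth.Agent.Sga3.H783.Dichotomy.exists_hom_ga_or_gm K Y h with ⟨j, hj, hne⟩ | ⟨j, hj, hne⟩
  · exact Or.inl ⟨fun h1 => hne (eq_one_of_isIso_hom j h1), Groth.Agent.Sga7.H760.GaQuot.exists_isClosedImmersion j hne⟩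
  · exact Or.inr ⟨fun h1 => hne (eq_one_of_isIso_hom j h1),
      Groth.Agent.Sga7.H783.GmSub.exists_closed_gm j hne⟩

section cat

variable {S : Scheme.{u}}

theorem isMonHom_of_comp {X Y Z : Over S} [GrpObj X] [GrpObj Y] [GrpObj Z] (f : X ⟶ Y) (m : Y ⟶ Z) [Mono m]
    [IsMonHom m] (h : IsMonHom (f ≫ m)) : IsMonHom f where
  one_hom := by
    rw [← cancel_mono m, Category.assoc, h.one_hom, IsMonHom.one_hom m]
  mul_hom := by
    rw [← cancel_mono m, Category.assoc, h.mul_hom, Category.assoc, IsMonHom.mul_hom m, ← Category.assoc,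
      tensorHom_comp_tensorHom]

theorem mono_of_isKernel {N G Q : Over S} [GrpObj Q] {i : N ⟶ G} {q : G ⟶ Q} (h : AlgGrp.IsKernel i q) : Mono i where
  right_cancellation _ _ hab := h.hom_ext hab (toUnit_unique _ _)

/-- Preimage of a subgroup of the quotient. -/
theorem comp_seq {R G Q₁ N₁ F : Over S} [GrpObj R] [GrpObj G] [GrpObj Q₁] [GrpObj N₁] [GrpObj F]
    (r : R ⟶ G) (q : G ⟶ Q₁) (i₁ : N₁ ⟶ Q₁) (q₁ : Q₁ ⟶ F) [IsMonHom r] [IsMonHom q] [IsMonHom i₁] [IsMonHom q₁]
    (h : AlgGrp.IsKernel r q) (h₁ : AlgGrp.IsKernel i₁ q₁) :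
    ∃ (N : Over S) (_ : GrpObj N) (i : N ⟶ G) (f : R ⟶ N) (g : N ⟶ N₁), IsMonHom i ∧ IsMonHom f ∧ IsMonHom g ∧
      AlgGrp.IsKernel i (q ≫ q₁) ∧ AlgGrp.IsKernel f g ∧ IsPullback g i i₁ q := by
  obtain ⟨N, _, i, hi, hk⟩ := Groth.Agent.Grpsch.KerMul.exists_kernel (q ≫ q₁)
  have hmi : Mono i := mono_of_isKernel (q := q ≫ q₁) hk
  have hmi₁ : Mono i₁ := mono_of_isKernel h₁
  have e1 : (i ≫ q) ≫ q₁ = toUnit N ≫ η[F] := by rw [Category.assoc]; exact hk.w
  let g : N ⟶ N₁ := h₁.lift (i ≫ q) (toUnit N) e1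
  have hg : g ≫ i₁ = i ≫ q := h₁.lift_fst _ _ _
  have hP : IsPullback g i i₁ q := by
    refine IsPullback.of_right (h₁₂ := toUnit N₁) (v₁₃ := η[F]) (h₂₂ := q₁) ?_ hg h₁.flip
    rw [show g ≫ toUnit N₁ = toUnit N from toUnit_unique _ _]
    exact hk.flip
  have hgm : IsMonHom g := isMonHom_of_comp g i₁ (by rw [hg]; infer_instance)
  have e2 : r ≫ (q ≫ q₁) = toUnit R ≫ η[F] := by
    rw [← Category.assoc, h.w, Category.assoc, IsMonHom.one_hom q₁]
  let f : R ⟶ N := hk.lift r (toUnit R) e2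
  have hf : f ≫ i = r := hk.lift_fst _ _ _
  have hfm : IsMonHom f := isMonHom_of_comp f i (by rw [hf]; infer_instance)
  have e3 : f ≫ g = toUnit R ≫ η[N₁] := by
    rw [← cancel_mono i₁, Category.assoc, hg, ← Category.assoc, hf, h.w, Category.assoc, IsMonHom.one_hom i₁]
  refine ⟨N, inferInstance, i, f, g, hi, hfm, hgm, hk, ?_, hP⟩
  refine IsPullback.of_right (h₁₂ := i) (v₁₃ := q) (h₂₂ := i₁) ?_ e3 hP.flip
  rw [hf, IsMonHom.one_hom i₁]
  exact h

end cat

/-- Classes of groups used in the devissage. -/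
structure Cls (P : ∀ (N : Over (Spec (CommRingCat.of K))) [GrpObj N] [IsCommMonObj N], Prop) : Prop where
  triv : P (𝟙_ (Over (Spec (CommRingCat.of K))))
  ga : P (Red.Ga (Spec (CommRingCat.of K)))
  gm : P (Red.Gm (Spec (CommRingCat.of K)))
  ext : ∀ (N₁ N₂ N₃ : Over (Spec (CommRingCat.of K))) [GrpObj N₁] [IsCommMonObj N₁] [GrpObj N₂] [IsCommMonObj N₂]
    [GrpObj N₃] [IsCommMonObj N₃] [IsAffine N₁.left] [IsAffine N₂.left] [IsAffine N₃.left]
    [LocallyOfFiniteType N₁.hom] [LocallyOfFiniteType N₂.hom] [LocallyOfFiniteType N₃.hom]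
    (f : N₁ ⟶ N₂) (g : N₂ ⟶ N₃) [IsMonHom f] [IsMonHom g], AlgGrp.IsKernel f g → Flat g.left →
    Surjective g.left → P N₁ → P N₃ → P N₂

/-- The output of the devissage. -/
def Out (P : ∀ (N : Over (Spec (CommRingCat.of K))) [GrpObj N] [IsCommMonObj N], Prop)
    (G : Over (Spec (CommRingCat.of K))) [GrpObj G] : Prop :=
  ∃ (N F : Over (Spec (CommRingCat.of K))) (_ : GrpObj N) (_ : IsCommMonObj N) (_ : GrpObj F) (_ : IsCommMonObj F)
    (i : N ⟶ G) (q : G ⟶ F), IsMonHom i ∧ IsMonHom q ∧ IsAffine N.left ∧ LocallyOfFiniteType N.hom ∧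
      IsFinite F.hom ∧ AlgGrp.IsKernel i q ∧ Flat q.left ∧ Surjective q.left ∧ P N

variable {P : ∀ (N : Over (Spec (CommRingCat.of K))) [GrpObj N] [IsCommMonObj N], Prop}

/-- The quotient by a closed subgroup. -/
theorem exists_quot (C G : Over (Spec (CommRingCat.of K))) [GrpObj C] [GrpObj G] [IsCommMonObj G]
    [IsAffine G.left] [LocallyOfFiniteType G.hom] (i : C ⟶ G) [IsMonHom i] [IsClosedImmersion i.left] :
    ∃ (Q : Over (Spec (CommRingCat.of K))) (_ : GrpObj Q) (_ : IsCommMonObj Q) (q : G ⟶ Q),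
      IsMonHom q ∧ IsAffine Q.left ∧ LocallyOfFiniteType Q.hom ∧ Flat q.left ∧ Surjective q.left ∧
      AlgGrp.IsKernel i q := by
  have hnorm : AlgGrp.IsNormalHom i := by
    intro T g x
    refine ⟨x, ?_⟩
    rw [mul_comm g, mul_inv_cancel_right]
  obtain ⟨Q, gQ, q, hq1, hq2, hq3, hq4, hq5, hq6⟩ := Groth.Agent.S3278.result K G C i hnorm
  have hqqc : QuasiCompact q.left := inferInstance
  have hfl : Flat (q ⊗ₘ q).left := Groth.Agent.Sga3C.QuotProps.tensorHom_left_of (@Flat) q q ‹_› ‹_›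
  have hsu : Surjective (q ⊗ₘ q).left := Groth.Agent.Sga3C.QuotProps.tensorHom_left_of (@Surjective) q q ‹_› ‹_›
  have hepi : Epi (q ⊗ₘ q) := Groth.Agent.Sga3C.QuotProps.epi_of_flat_surjective _
  have hcomm : IsCommMonObj Q := Groth.Agent.Sga3.H830.CommAux.isCommMonObj_of_epi q
  exact ⟨Q, gQ, hcomm, q, hq1, hq2, hq3, hq4, hq5, hq6⟩

/-- The induction step. -/
theorem out_of_sub (hP : Cls P) (C G : Over (Spec (CommRingCat.of K))) [GrpObj C] [IsCommMonObj C] [GrpObj G]
    [IsCommMonObj G] [IsAffine G.left] [LocallyOfFiniteType G.hom] [IsIntegral C.left] (hC : ¬ IsIso C.hom)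
    (hPC : P C) (r : C ⟶ G) [IsMonHom r] [IsClosedImmersion r.left]
    (ih : ∀ (Q : Over (Spec (CommRingCat.of K))) [GrpObj Q] [IsCommMonObj Q] [IsAffine Q.left]
      [LocallyOfFiniteType Q.hom], topologicalKrullDim Q.left < topologicalKrullDim G.left → Out P Q) : Out P G := by
  have hCa : IsAffine C.left := isAffine_of_isAffineHom r.left
  have hCft : LocallyOfFiniteType C.hom := by rw [← Over.w r]; infer_instance
  obtain ⟨Q, _, _, q, hq1, hq2, hq3, hq4, hq5, hq6⟩ := exists_quot C G r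
  have hqc : QuasiCompact q.left := inferInstance
  obtain ⟨N₁, F, _, _, _, _, i₁, q₁, hi₁, hq₁, a1, a2, a3, a4, a5, a6, a7⟩ :=
    ih Q (dim_lt r q hq6 (one_le_dim_of_not_isIso C hC))
  obtain ⟨N, _, i, f, g, hi, hf, hg, hk, hk', hp⟩ := comp_seq r q i₁ q₁ hq6 a4
  have hmi : Mono i := mono_of_isKernel (q := q ≫ q₁) hk
  have hNc : IsCommMonObj N := Groth.Agent.Sga3.H830.CommAux.isCommMonObj_of_mono i
  have hFs : IsSeparated F.hom := inferInstance
  have hη : IsClosedImmersion (η[F] : 𝟙_ (Over (Spec (CommRingCat.of K))) ⟶ F).left := by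
    have hw : (η[F] : 𝟙_ (Over (Spec (CommRingCat.of K))) ⟶ F).left ≫ F.hom = 𝟙 _ :=
      Over.w (η[F] : 𝟙_ (Over (Spec (CommRingCat.of K))) ⟶ F)
    have : IsClosedImmersion ((η[F] : 𝟙_ (Over (Spec (CommRingCat.of K))) ⟶ F).left ≫ F.hom) := by
      rw [hw]; infer_instance
    exact IsClosedImmersion.of_comp _ F.hom
  have hic : IsClosedImmersion i.left :=
    MorphismProperty.of_isPullback (P := @IsClosedImmersion) (hk.map (Over.forget _)).flip hη
  have hNa : IsAffine N.left := isAffine_of_isAffineHom i.left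
  have hNft : LocallyOfFiniteType N.hom := by rw [← Over.w i]; infer_instance
  have hgf : Flat g.left := MorphismProperty.of_isPullback (P := @Flat) (hp.map (Over.forget _)).flip hq4
  have hgs : Surjective g.left := MorphismProperty.of_isPullback (P := @Surjective) (hp.map (Over.forget _)).flip hq5
  refine ⟨N, F, inferInstance, hNc, inferInstance, inferInstance, i, q ≫ q₁, hi, inferInstance, hNa, hNft, a3, hk,
    ?_, ?_, hP.ext C N N₁ f g hk' hgf hgs hPC a7⟩
  · rw [Over.comp_left]; infer_instance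
  · rw [Over.comp_left]; infer_instance

/-- **Structure theorem.** -/
theorem exists_seq [IsAlgClosed K] (hP : Cls P) (G : Over (Spec (CommRingCat.of K))) [GrpObj G] [IsCommMonObj G]
    [IsAffine G.left] [LocallyOfFiniteType G.hom] : Out P G := by
  suffices H : ∀ (d : WithBot ℕ∞) (G : Over (Spec (CommRingCat.of K))) [GrpObj G] [IsCommMonObj G]
      [IsAffine G.left] [LocallyOfFiniteType G.hom], topologicalKrullDim G.left = d → Out P G from H _ G rfl
  intro d
  induction d using WellFoundedLT.induction with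
  | _ d ih =>
  intro G _ _ _ _ hd
  by_cases hprop : IsProper G.hom
  · have hfin : IsFinite G.hom := IsFinite.iff_isProper_and_isAffineHom.mpr ⟨hprop, inferInstance⟩
    refine ⟨𝟙_ _, G, inferInstance, inferInstance, inferInstance, inferInstance, η[G], 𝟙 G, inferInstance,
      inferInstance, ?_, ?_, hfin, ?_, ?_, ?_, hP.triv⟩
    · exact inferInstanceAs (IsAffine (Spec (CommRingCat.of K)))
    · exact inferInstanceAs (LocallyOfFiniteType (𝟙 (Spec (CommRingCat.of K))))
    · change IsPullback η[G] (toUnit (𝟙_ _)) (𝟙 G) η[G]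
      rw [show toUnit (𝟙_ (Over (Spec (CommRingCat.of K)))) = 𝟙 _ from toUnit_unique _ _]
      exact IsPullback.of_id_snd
    · rw [Over.id_left]; infer_instance
    · rw [Over.id_left]; infer_instance
  · have hIH : ∀ (Q : Over (Spec (CommRingCat.of K))) [GrpObj Q] [IsCommMonObj Q] [IsAffine Q.left]
      [LocallyOfFiniteType Q.hom], topologicalKrullDim Q.left < topologicalKrullDim G.left → Out P Q := by
      intro Q _ _ _ _ hlt
      exact ih _ (hd ▸ hlt) Q rfl
    rcases exists_ga_or_gm G hprop with ⟨hC, i, hi1, hi2⟩ | ⟨hC, i, hi1, hi2⟩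
    · have hint := Groth.Agent.Sga3.H783.GaGm.isIntegral_ga K
      exact out_of_sub hP _ G hC hP.ga i hIH
    · have hint := Groth.Agent.Sga3.H783.GaGm.isIntegral_gm K
      exact out_of_sub hP _ G hC hP.gm i hIH

end K775.AcDev
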