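import Groth.Agent.Models.WeilPts
import Mathlib.Algebra.Category.Ring.FilteredColimits
import Mathlib.CategoryTheory.Limits.Types.Filtered
import Mathlib.FieldTheory.IntermediateField.Adjoin.Basic
import Mathlib.FieldTheory.IntermediateField.Algebraic

/-!
# `Spec Ω` as the limit of the spectra of the finite subextensions of `Ω/K`

* `D K Ω : (Idx K Ω)ᵒᵖ ⥤ Scheme`, `E ↦ Spec E`, with limit cone `cone K Ω` of vertex `Spec Ω`.
-/

set_option autoImplicit false
universe u
open CategoryTheory CategoryTheory.Limits AlgebraicGeometry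

namespace K775.AcSys

variable (K Ω : Type u) [Field K] [Field Ω] [Algebra K Ω]

/-- Finite subextensions. -/
abbrev Idx : Type u := {E : IntermediateField K Ω // FiniteDimensional K E}

instance (E : Idx K Ω) : FiniteDimensional K E.1 := E.2

instance : IsDirectedOrder (Idx K Ω) where
  directed a b := ⟨⟨a.1 ⊔ b.1, inferInstance⟩, le_sup_left (a := a.1), le_sup_right (a := a.1)⟩

instance : Nonempty (Idx K Ω) := ⟨⟨⊥, inferInstance⟩⟩

/-- The diagram of the finite subextensions. -/
noncomputable def ringDiagram : Idx K Ω ⥤ CommRingCat.{u} where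
  obj E := CommRingCat.of E.1
  map {E E'} h := CommRingCat.ofHom (IntermediateField.inclusion (leOfHom h)).toRingHom
  map_id E := by ext x; rfl
  map_comp f g := by ext x; rfl

/-- The cocone with vertex `Ω`. -/
noncomputable def ringCocone : Cocone (ringDiagram K Ω) where
  pt := CommRingCat.of Ω
  ι := { app := fun E => CommRingCat.ofHom (algebraMap E.1 Ω)
         naturality := fun E E' h => by ext x; rfl }

/-- `Ω` is the filtered colimit of the finite subextensions. -/
noncomputable def isColimitRingCocone [Algebra.IsAlgebraic K Ω] : IsColimit (ringCocone K Ω) := by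
  haveI : ReflectsColimit (ringDiagram K Ω) (forget CommRingCat.{u}) :=
    reflectsColimit_of_reflectsIsomorphisms (ringDiagram K Ω) (forget CommRingCat.{u})
  refine isColimitOfReflects (forget CommRingCat.{u}) ?_
  refine Types.FilteredColimit.isColimitOf _ _ ?_ ?_
  · intro x
    have x' : Ω := x
    have hx : IsIntegral K (show Ω from x) := (Algebra.IsAlgebraic.isAlgebraic (show Ω from x)).isIntegral
    have hfd : FiniteDimensional K (IntermediateField.adjoin K {(show Ω from x)}) :=
      IntermediateField.adjoin.finiteDimensional hx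
    exact ⟨⟨IntermediateField.adjoin K {(show Ω from x)}, hfd⟩,
      ⟨x, IntermediateField.mem_adjoin_simple_self K (show Ω from x)⟩, rfl⟩
  · intro i j xi xj h
    obtain ⟨k, hik, hjk⟩ := exists_ge_ge i j
    refine ⟨k, homOfLE hik, homOfLE hjk, ?_⟩
    exact Subtype.ext h

/-- The diagram of the schemes `Spec E`. -/
noncomputable abbrev D : (Idx K Ω)ᵒᵖ ⥤ Scheme.{u} := (ringDiagram K Ω).op ⋙ Scheme.Spec

/-- The cone with vertex `Spec Ω`. -/
noncomputable abbrev cone : Cone (D K Ω) where
  pt := Spec (CommRingCat.of Ω)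
  π := (Scheme.Spec.mapCone (ringCocone K Ω).op).π

/-- `Spec Ω` is the limit of the `Spec E`. -/
noncomputable def isLimit [Algebra.IsAlgebraic K Ω] : IsLimit (cone K Ω) :=
  isLimitOfPreserves Scheme.Spec (isColimitRingCocone K Ω).op

theorem cone_π (i : (Idx K Ω)ᵒᵖ) :
    (cone K Ω).π.app i = Spec.map (CommRingCat.ofHom (algebraMap i.unop.1 Ω)) := rfl

theorem D_map {i j : (Idx K Ω)ᵒᵖ} (f : j ⟶ i) :
    (D K Ω).map f = Spec.map (CommRingCat.ofHom (IntermediateField.inclusion (leOfHom f.unop)).toRingHom) := rfl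

instance (i : (Idx K Ω)ᵒᵖ) : IsAffine ((D K Ω).obj i) :=
  inferInstanceAs (IsAffine (Spec (CommRingCat.of i.unop.1)))

instance {i j : (Idx K Ω)ᵒᵖ} (f : i ⟶ j) : IsAffineHom ((D K Ω).map f) := inferInstance

instance (i : (Idx K Ω)ᵒᵖ) : IsAffineHom ((cone K Ω).π.app i) :=
  inferInstanceAs (IsAffineHom (Spec.map (CommRingCat.ofHom (algebraMap i.unop.1 Ω))))

instance (i : (Idx K Ω)ᵒᵖ) : CompactSpace ((D K Ω).obj i) := inferInstance

instance (i : (Idx K Ω)ᵒᵖ) : QuasiSeparatedSpace ((D K Ω).obj i) := inferInstance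

instance (i : (Idx K Ω)ᵒᵖ) : QuasiCompact ((cone K Ω).π.app i) := inferInstance

instance (i : (Idx K Ω)ᵒᵖ) : IsSchemeTheoreticallyDominant ((cone K Ω).π.app i) := by
  have : Fact (Function.Injective (algebraMap i.unop.1 Ω)) := ⟨(algebraMap i.unop.1 Ω).injective⟩
  exact Groth.Agent.Models.WeilPts.schDominant_of_injective (algebraMap i.unop.1 Ω)

end K775.AcSys
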