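import Groth.Agent.FunFld.K660.Places
import Groth.Prelude.Def_AdFn

/-!
# The place below a place and the extension `K_v → L_w` of completions

`exists_ringHom`: for `L/K` finite and a place `w` of `L` there are a place `v` of `K` and a ring homomorphism
`K_v → L_w` extending `K → L`.
-/

set_option autoImplicit false

universe u

namespace K775.Below

open FunFld AdFn K660.Places

section Nhds

variable {k K : Type u} [Field k] [Field K] [Algebra k K]

theorem mem_nhds_zero (v : Place k K) (s : Set (WithVal v.1)) :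
    s ∈ nhds (0 : WithVal v.1) ↔ ∃ γ : WithZero (Multiplicative ℤ), γ ≠ 0 ∧ ∀ x : K, v.1 x < γ → WithVal.toVal v.1 x ∈ s := by
  rw [Valued.mem_nhds_zero]
  constructor
  · rintro ⟨γ, hγ⟩
    refine ⟨MonoidWithZeroHom.ValueGroup₀.embedding γ.1, ?_, fun x hx => hγ ?_⟩
    · simp
    · change (Valued.v : Valuation (WithVal v.1) (WithZero (Multiplicative ℤ))).restrict _ < γ.1
      rw [Valuation.restrict_lt_iff_lt_embedding]
      exact hx
  · rintro ⟨γ, hγ0, hγ⟩
    obtain ⟨y₀, hy₀⟩ := v.2.2 γ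
    have h' : (Valued.v : Valuation (WithVal v.1) (WithZero (Multiplicative ℤ))).restrict (WithVal.toVal v.1 y₀) ≠ 0 := by
      intro h0
      apply hγ0
      rw [← hy₀]
      have : Valued.v (WithVal.toVal v.1 y₀) = 0 := by simpa using h0
      exact this
    refine ⟨Units.mk0 _ h', fun z hz => ?_⟩
    rw [Units.val_mk0] at hz
    have h1 := (Valued.v : Valuation (WithVal v.1) (WithZero (Multiplicative ℤ))).restrict_lt_iff.mp hz
    refine hγ (WithVal.ofVal z) ?_
    rw [← hy₀]
    exact h1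

end Nhds

variable {k K L : Type u} [Field k] [Field K] [Field L] [Algebra k K] [Algebra K L] [Algebra k L] [IsScalarTower k K L]

theorem exists_place [Algebra.IsAlgebraic K L] {t : K} (ht : IsGen k K t) (w : Place k L) :
    ∃ v : Place k K, ∀ x : K, v.1 x ≤ 1 ↔ w.1 (algebraMap K L x) ≤ 1 := by
  have h1 : (w.1.comap (algebraMap K L)).valuationSubring ≠ ⊤ := by
    intro h
    apply O_ne_top w
    rw [eq_top_iff]
    intro y _
    rw [mem_O]
    refine val_le_one_of_isIntegral (R := K) w (fun x => ?_) (Algebra.IsIntegral.isIntegral y)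
    have : x ∈ (w.1.comap (algebraMap K L)).valuationSubring := by rw [h]; trivial
    exact this
  have h2 : ∀ c : k, algebraMap k K c ∈ (w.1.comap (algebraMap K L)).valuationSubring := by
    intro c
    change w.1 (algebraMap K L (algebraMap k K c)) ≤ 1
    rw [← IsScalarTower.algebraMap_apply]
    exact w.2.1 c
  obtain ⟨v, hv⟩ := ht.exists_place _ h1 h2
  refine ⟨v, fun x => ?_⟩
  rw [← mem_O, hv]
  exact Iff.rfl

theorem val_le {v : Place k K} {w : Place k L} (h : ∀ x : K, v.1 x ≤ 1 ↔ w.1 (algebraMap K L x) ≤ 1) {x : K}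
    {n : ℕ} (hx : v.1 x ≤ WithZero.exp (-(n : ℤ))) : w.1 (algebraMap K L x) ≤ WithZero.exp (-(n : ℤ)) := by
  obtain ⟨t, ht⟩ := v.2.2 (WithZero.exp (-1))
  have ht0 : t ≠ 0 := by
    rintro rfl
    rw [map_zero] at ht
    exact WithZero.exp_ne_zero ht.symm
  have htn : v.1 (t ^ n) = WithZero.exp (-(n : ℤ)) := by
    rw [map_pow, ht, ← WithZero.exp_nsmul]
    simp
  have h1 : v.1 (x * (t ^ n)⁻¹) ≤ 1 := by
    rw [map_mul, map_inv₀, htn]
    calc _ ≤ WithZero.exp (-(n : ℤ)) * (WithZero.exp (-(n : ℤ)))⁻¹ := mul_le_mul_left hx _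
      _ = 1 := mul_inv_cancel₀ WithZero.exp_ne_zero
  have h2 : w.1 (algebraMap K L t) < 1 := by
    have h3 : ¬ v.1 t⁻¹ ≤ 1 := by
      rw [map_inv₀, ht, not_le, ← WithZero.exp_neg, ← WithZero.exp_zero, WithZero.exp_lt_exp]
      omega
    rw [h, map_inv₀, map_inv₀, not_le] at h3
    have h4 : w.1 (algebraMap K L t) ≠ 0 := by
      rw [Valuation.ne_zero_iff]
      exact (map_ne_zero _).2 ht0
    exact (one_lt_inv₀ (zero_lt_iff.2 h4)).1 h3
  have h3 : w.1 (algebraMap K L t) ≤ WithZero.exp (-1) := by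
    have key : ∀ g : WithZero (Multiplicative ℤ), g < 1 → g ≤ WithZero.exp (-1) := by
      intro g hg
      by_cases h0 : g = 0
      · rw [h0]
        exact zero_le
      · rw [← WithZero.exp_log h0] at hg ⊢
        rw [← WithZero.exp_zero, WithZero.exp_lt_exp] at hg
        rw [WithZero.exp_le_exp]
        omega
    exact key _ h2
  rw [h, map_mul, map_mul, map_inv₀, map_inv₀] at h1
  have h4 : w.1 (algebraMap K L (t ^ n)) ≠ 0 := by
    rw [Valuation.ne_zero_iff]
    exact (map_ne_zero _).2 (pow_ne_zero _ ht0)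
  have h5 : w.1 (algebraMap K L x) ≤ w.1 (algebraMap K L (t ^ n)) := by
    calc w.1 (algebraMap K L x) = w.1 (algebraMap K L x) * (w.1 (algebraMap K L (t ^ n)))⁻¹ *
          w.1 (algebraMap K L (t ^ n)) := by rw [mul_assoc, inv_mul_cancel₀ h4, mul_one]
      _ ≤ 1 * w.1 (algebraMap K L (t ^ n)) := mul_le_mul_left h1 _
      _ = _ := one_mul _
  refine h5.trans ?_
  rw [map_pow, map_pow]
  calc w.1 (algebraMap K L t) ^ n ≤ (WithZero.exp (-1 : ℤ)) ^ n := pow_le_pow_left₀ zero_le h3 n
    _ = _ := by rw [← WithZero.exp_nsmul]; simp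

/-- The map of completions. -/
theorem exists_ringHom [Algebra.IsAlgebraic K L] {t : K} (ht : IsGen k K t) (w : Place k L) :
    ∃ (v : Place k K) (φ : Kv v →+* Kv w), ∀ x : K, φ (toKv v x) = toKv w (algebraMap K L x) := by
  obtain ⟨v, h⟩ := exists_place ht w
  let f : WithVal v.1 →+* WithVal w.1 :=
    ((WithVal.equiv w.1).symm : L →+* WithVal w.1).comp ((algebraMap K L).comp (WithVal.equiv v.1 : WithVal v.1 →+* K))
  have hf : Continuous f := by
    refine continuous_of_continuousAt_zero f ?_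
    intro s hs
    rw [map_zero, mem_nhds_zero] at hs
    obtain ⟨γ, hγ0, hγ⟩ := hs
    rw [Filter.mem_map, mem_nhds_zero]
    obtain ⟨n, hn⟩ : ∃ n : ℕ, WithZero.exp (-(n : ℤ)) < γ := by
      refine ⟨(WithZero.log γ).natAbs + 1, ?_⟩
      rw [← WithZero.exp_log hγ0, WithZero.exp_lt_exp, WithZero.log_exp]
      omega
    refine ⟨WithZero.exp (-(n : ℤ)), WithZero.exp_ne_zero, fun x hx => ?_⟩
    exact hγ _ ((val_le h hx.le).trans_lt hn)
  refine ⟨v, UniformSpace.Completion.mapRingHom f hf, fun x => ?_⟩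
  rw [toKv_apply, toKv_apply]
  exact UniformSpace.Completion.mapRingHom_coe hf _

end K775.Below
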