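import Groth.Agent.FunFld.K660.Places
import Groth.Prelude.Def_AdFn

/-!
# Fields embedded in the completion `K_v`

For `ε : L → K_v` a field embedding over `K`: `pb ε` is the place of `L` induced by the valuation of `K_v`; it has the
same residue field as `v` (`deg_pb`) and determines `ε` (`eq_of_pb_eq`).
`mem_of_pow_mem`-type statements: see `KvSep`.
-/

set_option autoImplicit false

universe u

namespace K775.Emb

open FunFld AdFn

variable {k K : Type u} [Field k] [Field K] [Algebra k K]

/-- `K` is dense in `K_v`. -/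
theorem exists_close (v : Place k K) (x : Kv v) {γ : WithZero (Multiplicative ℤ)} (hγ : γ ≠ 0) :
    ∃ y : K, Valued.v (x - toKv v y) < γ := by
  have hd : DenseRange (fun y : WithVal v.1 => (y : v.1.Completion)) := UniformSpace.Completion.denseRange_coe
  obtain ⟨y₀, hy₀⟩ := v.2.2 γ
  have hv0 : Valued.v (toKv v y₀) = γ := by rw [valued_toKv, hy₀]
  have h1 : {z : Kv v | Valued.v (z - x) < γ} ∈ nhds x := by
    rw [Valued.mem_nhds]
    have h' : (Valued.v : Valuation (Kv v) (WithZero (Multiplicative ℤ))).restrict (toKv v y₀) ≠ 0 := by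
      intro h0
      apply hγ
      rw [← hv0]
      simpa using h0
    refine ⟨Units.mk0 _ h', fun z hz => ?_⟩
    rw [Units.val_mk0] at hz
    have := (Valued.v : Valuation (Kv v) (WithZero (Multiplicative ℤ))).restrict_lt_iff.mp hz
    change Valued.v (z - x) < γ
    rw [← hv0]
    exact this
  obtain ⟨y, hy⟩ := hd.exists_mem_open (s := interior {z : Kv v | Valued.v (z - x) < γ}) isOpen_interior
    ⟨x, mem_interior_iff_mem_nhds.2 h1⟩
  have h3 := interior_subset (s := {z : Kv v | Valued.v (z - x) < γ}) hy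
  refine ⟨WithVal.ofVal y, ?_⟩
  rw [Valuation.map_sub_swap]
  exact h3

section

variable {v : Place k K} {L : Type u} [Field L] [Algebra K L] [Algebra k L] [IsScalarTower k K L]
  (ε : L →+* Kv v) (hε : ∀ x : K, ε (algebraMap K L x) = toKv v x)

/-- The place of `L` induced by an embedding in `K_v`. -/
noncomputable def pb : Place k L :=
  ⟨(Valued.v : Valuation (Kv v) (WithZero (Multiplicative ℤ))).comap ε, by
    intro c
    rw [Valuation.comap_apply, IsScalarTower.algebraMap_apply k K L, hε, valued_toKv]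
    exact v.2.1 c, by
    intro γ
    obtain ⟨y, hy⟩ := v.2.2 γ
    refine ⟨algebraMap K L y, ?_⟩
    rw [Valuation.comap_apply, hε, valued_toKv, hy]⟩

theorem pb_apply (x : L) : (pb ε hε).1 x = Valued.v (ε x) := rfl

theorem pb_algebraMap (x : K) : (pb ε hε).1 (algebraMap K L x) = v.1 x := by
  rw [pb_apply, hε, valued_toKv]

theorem exists_approx (x : L) {γ : WithZero (Multiplicative ℤ)} (hγ : γ ≠ 0) :
    ∃ y : K, (pb ε hε).1 (x - algebraMap K L y) < γ := by
  obtain ⟨y, hy⟩ := exists_close v (ε x) hγ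
  refine ⟨y, ?_⟩
  rw [pb_apply, map_sub, hε]
  exact hy

theorem deg_pb : (pb ε hε).deg = v.deg := by
  let f : v.O →+* (pb ε hε).O :=
    ((algebraMap K L).comp v.O.subtype).codRestrict (pb ε hε).O.toSubring fun x => by
      change (pb ε hε).1 (algebraMap K L (x : K)) ≤ 1
      rw [pb_algebraMap]
      exact x.2
  have hf : ∀ x : v.O, ((f x : (pb ε hε).O) : L) = algebraMap K L (x : K) := fun _ => rfl
  have hu : ∀ x : v.O, x ∈ IsLocalRing.maximalIdeal v.O ↔ v.1 (x : K) < 1 := fun x =>
    (Valuation.mem_maximalIdeal_iff (v := v.1)).trans Iff.rfl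
  have hu' : ∀ x : (pb ε hε).O, x ∈ IsLocalRing.maximalIdeal (pb ε hε).O ↔ (pb ε hε).1 (x : L) < 1 := fun x =>
    (Valuation.mem_maximalIdeal_iff (v := (pb ε hε).1)).trans Iff.rfl
  have hloc : IsLocalHom f := by
    refine ⟨fun a ha => ?_⟩
    by_contra hna
    have h1 : v.1 (a : K) < 1 := (hu a).1 ((IsLocalRing.mem_maximalIdeal a).2 hna)
    have h2 : f a ∈ IsLocalRing.maximalIdeal (pb ε hε).O := by
      rw [hu', hf, pb_algebraMap]
      exact h1
    exact (IsLocalRing.mem_maximalIdeal _).1 h2 ha
  let g := IsLocalRing.ResidueField.map f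
  have hg : Function.Bijective g := by
    refine ⟨g.injective, fun y => ?_⟩
    obtain ⟨x, rfl⟩ := IsLocalRing.residue_surjective y
    obtain ⟨z, hz⟩ := exists_approx ε hε (x : L) (γ := 1) one_ne_zero
    have hz1 : v.1 z ≤ 1 := by
      rw [← pb_algebraMap ε hε]
      have : algebraMap K L z = (x : L) - ((x : L) - algebraMap K L z) := by ring
      rw [this]
      exact (Valuation.map_sub _ _ _).trans (max_le x.2 hz.le)
    refine ⟨IsLocalRing.residue _ ⟨z, hz1⟩, ?_⟩
    change IsLocalRing.ResidueField.map f (IsLocalRing.residue _ _) = _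
    rw [IsLocalRing.ResidueField.map_residue, ← sub_eq_zero, ← map_sub, IsLocalRing.residue_eq_zero_iff, hu']
    change (pb ε hε).1 (algebraMap K L z - (x : L)) < 1
    rw [Valuation.map_sub_swap]
    exact hz
  unfold Place.deg
  symm
  refine Algebra.finrank_eq_of_equiv_equiv (RingEquiv.refl k) (RingEquiv.ofBijective g hg) ?_
  ext c
  change IsLocalRing.residue _ (algebraMap k (pb ε hε).O c) =
    IsLocalRing.ResidueField.map f (IsLocalRing.residue _ (algebraMap k v.O c))
  rw [IsLocalRing.ResidueField.map_residue]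
  congr 1
  apply Subtype.ext
  exact IsScalarTower.algebraMap_apply k K L c

theorem eq_of_pb_eq (ε' : L →+* Kv v) (hε' : ∀ x : K, ε' (algebraMap K L x) = toKv v x)
    (h : pb ε hε = pb ε' hε') : ε = ε' := by
  ext x
  by_contra hne
  have h0 : Valued.v (ε x - ε' x) ≠ 0 := by
    rw [Valuation.ne_zero_iff, sub_ne_zero]
    exact hne
  obtain ⟨y, hy⟩ := exists_approx ε hε x h0
  have hy' : Valued.v (ε' x - toKv v y) < Valued.v (ε x - ε' x) := by
    have e : (pb ε' hε').1 (x - algebraMap K L y) = Valued.v (ε' x - toKv v y) := by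
      rw [pb_apply, map_sub, hε']
    rw [← e, ← h]
    exact hy
  have hy'' : Valued.v (ε x - toKv v y) < Valued.v (ε x - ε' x) := by
    rw [pb_apply, map_sub, hε] at hy
    exact hy
  have : ε x - ε' x = (ε x - toKv v y) - (ε' x - toKv v y) := by ring
  have h3 : Valued.v (ε x - ε' x) < Valued.v (ε x - ε' x) := by
    conv_lhs => rw [this]
    exact (Valuation.map_sub _ _ _).trans_lt (max_lt hy'' hy')
  exact lt_irrefl _ h3

end

end K775.Emb
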