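import Groth.Agent.FunFld.K660.FrobDeg
import Groth.Prelude.Def_AdFn

/-!
# `K_v / K` has no purely inseparable part

`exists_of_pow_mem`: `K` of finite degree over `k(t)`, `k` finite, `v` a place of `K`; if `a ∈ K_v` and
`a ^ (p ^ n) ∈ K` then `a ∈ K`.
-/

set_option autoImplicit false

universe u

namespace K775.KvSep

open FunFld AdFn K660.Places K660.FrobDeg IntermediateField

variable {k K : Type u} [Field k] [Field K] [Algebra k K]

/-- Nonzero terms with distinct valuations do not add up to zero. -/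
theorem eq_zero_of_sum_eq_zero {F : Type*} [Field F] (v : Valuation F (WithZero (Multiplicative ℤ))) {ι : Type*}
    (s : Finset ι) (x : ι → F) (hd : ∀ i ∈ s, ∀ j ∈ s, x i ≠ 0 → v (x i) = v (x j) → i = j)
    (h : ∑ i ∈ s, x i = 0) : ∀ i ∈ s, x i = 0 := by
  classical
  by_contra hne
  push Not at hne
  obtain ⟨i₁, hi₁, hx₁⟩ := hne
  obtain ⟨i, hi, hmax⟩ := s.exists_max_image (fun i => v (x i)) ⟨i₁, hi₁⟩
  have hxi : x i ≠ 0 := by
    intro h0
    have := hmax i₁ hi₁
    rw [h0, map_zero] at this
    exact hx₁ ((Valuation.zero_iff v).1 (le_antisymm this zero_le))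
  have hv : v (x i) ≠ 0 := (Valuation.ne_zero_iff v).2 hxi
  have h1 : v (∑ j ∈ s.erase i, x j) < v (x i) := by
    refine Valuation.map_sum_lt v hv fun j hj => ?_
    refine lt_of_le_of_ne (hmax j (Finset.mem_of_mem_erase hj)) fun he => ?_
    exact (Finset.ne_of_mem_erase hj) (hd i hi j (Finset.mem_of_mem_erase hj) hxi he.symm).symm
  have h2 : x i = -∑ j ∈ s.erase i, x j := by
    rw [← Finset.add_sum_erase s x hi] at h
    exact eq_neg_of_add_eq_zero_left h
  rw [h2, Valuation.map_neg] at h1
  exact lt_irrefl _ h1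

section CharP

variable (p : ℕ) [hp : Fact p.Prime] [CharP K p]

omit hp in
/-- Over a perfect field every element of `k K^p` is a `p`-th power. -/
theorem exists_pow_of_mem [Finite k] [hp : Fact p.Prime] {x : K} (hx : x ∈ kKp k K p) : ∃ y : K, x = y ^ p := by
  have hk : CharP k p := (algebraMap k K).charP (algebraMap k K).injective p
  have hEk : ExpChar k p := ExpChar.prime hp.out
  have hEK : ExpChar K p := ExpChar.prime hp.out
  have hperf : PerfectRing k p := PerfectRing.ofFiniteOfIsReduced p k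
  induction hx using adjoin_induction with
  | mem x hx =>
    obtain ⟨y, rfl⟩ := hx
    exact ⟨y, rfl⟩
  | algebraMap c =>
    obtain ⟨d, hd⟩ := (bijective_frobenius k p).2 c
    refine ⟨algebraMap k K d, ?_⟩
    rw [← map_pow, ← hd]
    rfl
  | add x y _ _ hx hy =>
    obtain ⟨a, rfl⟩ := hx
    obtain ⟨b, rfl⟩ := hy
    exact ⟨a + b, (add_pow_expChar a b p).symm⟩
  | inv x _ hx =>
    obtain ⟨a, rfl⟩ := hx
    exact ⟨a⁻¹, by rw [inv_pow]⟩
  | mul x y _ _ hx hy =>
    obtain ⟨a, rfl⟩ := hx
    obtain ⟨b, rfl⟩ := hy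
    exact ⟨a * b, by rw [mul_pow]⟩

theorem exists_repr [Finite k] {t₀ : K} (ht : IsGen k K t₀) (v : Place k K) {t : K} (htv : v.1 t = WithZero.exp (-1))
    (b : K) : ∃ c : ℕ → K, b = ∑ i ∈ Finset.range p, c i ^ p * t ^ i := by
  have hred : Algebra.IsGeometricallyReduced k K := Groth.Agent.Fdesc.GeomRed.isGeometricallyReduced_of_perfectField K
  obtain ⟨s, hs, hsep⟩ := K660.Sep.exists_isSeparable_of_isGen ht
  let F := kKp k K p
  have h1 : Module.finrank F K = p := finrank_kKp p hs hsep
  have htF : t ∉ F := by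
    intro h
    obtain ⟨y, rfl⟩ := exists_pow_of_mem p h
    have hy : v.1 y ≠ 0 := by
      intro h0
      rw [map_pow, h0, zero_pow hp.out.ne_zero] at htv
      exact WithZero.exp_ne_zero htv.symm
    have h2 := congrArg WithZero.log htv
    rw [map_pow, WithZero.log_pow, WithZero.log_exp] at h2
    have h3 : (p : ℤ) ∣ 1 := by
      refine ⟨-WithZero.log (v.1 y), ?_⟩
      have h4 : (p : ℤ) * WithZero.log (v.1 y) = -1 := by simpa using h2
      linarith
    have h5 : p ∣ 1 := by exact_mod_cast h3
    exact hp.out.one_lt.ne' (Nat.dvd_one.1 h5)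
  have h2 := finrank_adjoin_of_notMem p htF
  have hfd : FiniteDimensional F K := Module.finite_of_finrank_pos (by rw [h1]; exact hp.out.pos)
  have h3 : adjoin F ({t} : Set K) = ⊤ := by
    apply IntermediateField.eq_of_le_of_finrank_eq le_top
    rw [IntermediateField.finrank_top']
    exact h2.trans h1.symm
  have hb : b ∈ adjoin F ({t} : Set K) := by rw [h3]; trivial
  have hint : IsIntegral F t := Algebra.IsIntegral.isIntegral t
  obtain ⟨r, hr⟩ := (adjoin.powerBasis hint).exists_eq_aeval' ⟨b, hb⟩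
  let a : F := ⟨t ^ p, pow_mem_kKp p t⟩
  let q := r %ₘ (Polynomial.X ^ p - Polynomial.C a)
  have hm : (Polynomial.X ^ p - Polynomial.C a).Monic := Polynomial.monic_X_pow_sub_C a hp.out.ne_zero
  have hb' : Polynomial.aeval t r = b := by
    have := congrArg (algebraMap (adjoin F ({t} : Set K)) K) hr
    rw [← Polynomial.aeval_algebraMap_apply] at this
    exact this.symm
  have hq : Polynomial.aeval t q = b := by
    have h4 : Polynomial.aeval t (Polynomial.X ^ p - Polynomial.C a) = 0 := by
      simp only [map_sub, map_pow, Polynomial.aeval_X, Polynomial.aeval_C]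
      exact sub_self _
    rw [← hb']
    conv_rhs => rw [← Polynomial.modByMonic_add_div r (Polynomial.X ^ p - Polynomial.C a)]
    rw [map_add, map_mul, h4, zero_mul, add_zero]
  have hdeg : q.natDegree < p := by
    have h5 := Polynomial.natDegree_modByMonic_lt r hm (by
      intro h6
      have := congrArg Polynomial.natDegree h6
      rw [Polynomial.natDegree_X_pow_sub_C, Polynomial.natDegree_one] at this
      exact hp.out.ne_zero this)
    rwa [Polynomial.natDegree_X_pow_sub_C] at h5
  choose g hg using fun i : ℕ => exists_pow_of_mem p (q.coeff i).2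
  refine ⟨g, ?_⟩
  rw [← hq, Polynomial.aeval_eq_sum_range' hdeg]
  refine Finset.sum_congr rfl fun i _ => ?_
  rw [Algebra.smul_def, ← hg i]
  rfl

theorem exists_of_pow_mem [Finite k] {t₀ : K} (ht : IsGen k K t₀) (v : Place k K) (a : Kv v) (b : K)
    (h : a ^ p = toKv v b) : ∃ c : K, a = toKv v c := by
  have hKv : CharP (Kv v) p := charP_of_injective_algebraMap (toKv v).injective p
  have hEK : ExpChar (Kv v) p := ExpChar.prime hp.out
  obtain ⟨t, htv⟩ := v.2.2 (WithZero.exp (-1))
  obtain ⟨c, hc⟩ := exists_repr p ht v htv b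
  let x : ℕ → Kv v := fun i => if i = 0 then (toKv v (c 0) - a) ^ p else toKv v (c i ^ p * t ^ i)
  have hsum : ∑ i ∈ Finset.range p, x i = 0 := by
    obtain ⟨m, rfl⟩ : ∃ m, p = m + 1 := ⟨p - 1, by have := hp.out.pos; omega⟩
    rw [Finset.sum_range_succ']
    have e1 : ∀ i ∈ Finset.range m, x (i + 1) = toKv v (c (i + 1) ^ (m + 1) * t ^ (i + 1)) := fun i _ => by
      simp [x]
    rw [Finset.sum_congr rfl e1]
    have e0 : x 0 = toKv v (c 0) ^ (m + 1) - toKv v b := by
      simp only [x, if_pos rfl]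
      rw [sub_pow_expChar, h]
    rw [e0, hc, Finset.sum_range_succ']
    simp only [map_add, map_sum, map_mul, map_pow, pow_zero, mul_one]
    ring
  have hx0 : x 0 = 0 := by
    refine eq_zero_of_sum_eq_zero Valued.v (Finset.range p) x ?_ hsum 0 (Finset.mem_range.2 hp.out.pos)
    have hval : ∀ i, x i ≠ 0 → ∃ n : ℤ, WithZero.log (Valued.v (x i)) = p * n - i := by
      intro i hi
      by_cases h0 : i = 0
      · subst h0
        refine ⟨WithZero.log (Valued.v (toKv v (c 0) - a)), ?_⟩
        simp only [x, if_pos rfl, map_pow, WithZero.log_pow]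
        simp
      · simp only [x, if_neg h0] at hi ⊢
        have hc0 : v.1 (c i) ≠ 0 := by
          rw [Valuation.ne_zero_iff]
          intro h1
          apply hi
          rw [h1, zero_pow hp.out.ne_zero, zero_mul, map_zero]
        refine ⟨WithZero.log (v.1 (c i)), ?_⟩
        rw [valued_toKv, map_mul, map_pow, map_pow, htv, WithZero.log_mul (pow_ne_zero _ hc0)
          (pow_ne_zero _ WithZero.exp_ne_zero), WithZero.log_pow, WithZero.log_pow, WithZero.log_exp]
        simp
        ring
    intro i hi j hj hxi hv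
    have hxj : x j ≠ 0 := by
      intro h0
      rw [h0, map_zero, Valuation.zero_iff] at hv
      exact hxi hv
    obtain ⟨n, hn⟩ := hval i hxi
    obtain ⟨m, hm⟩ := hval j hxj
    rw [hv] at hn
    rw [hm] at hn
    rw [Finset.mem_range] at hi hj
    have h3 : (i : ℤ) ≡ j [ZMOD p] := by
      rw [Int.modEq_iff_dvd]
      exact ⟨m - n, by linarith⟩
    have h4 : i ≡ j [MOD p] := (Int.natCast_modEq_iff).1 h3
    rw [Nat.ModEq, Nat.mod_eq_of_lt hi, Nat.mod_eq_of_lt hj] at h4
    exact h4
  refine ⟨c 0, ?_⟩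
  have h1 : (toKv v (c 0) - a) ^ p = 0 := by simpa [x] using hx0
  exact (sub_eq_zero.1 (pow_eq_zero_iff hp.out.ne_zero |>.1 h1)).symm

theorem exists_of_pow_pow_mem [Finite k] {t₀ : K} (ht : IsGen k K t₀) (v : Place k K) (n : ℕ) (a : Kv v) (b : K)
    (h : a ^ p ^ n = toKv v b) : ∃ c : K, a = toKv v c := by
  induction n generalizing a b with
  | zero => exact ⟨b, by simpa using h⟩
  | succ n ih =>
    rw [pow_succ, pow_mul] at h
    obtain ⟨c, hc⟩ := exists_of_pow_mem p ht v _ _ h
    exact ih a c hc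

end CharP

end K775.KvSep
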