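import Mathlib.FieldTheory.Galois.Infinite
import Mathlib.FieldTheory.Normal.Closure
import Mathlib.FieldTheory.PurelyInseparable.Basic

/-!
# Geometric points of a finite algebra with the same stabilizer

`B` a finite `K`-algebra, `Ω` an algebraic closure of `K`. If all points `B → Ω` have the same stabilizer in the Galois
group then the field `Lf p` of separable elements fixed by the stabilizer is finite Galois over `K` and contained in
the image of every point.
-/

set_option autoImplicit false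

universe u

namespace K775.Stab

section Alg

variable {K B Ω : Type u} [Field K] [CommRing B] [Algebra K B] [Field Ω] [Algebra K Ω]

/-- The stabilizer of a geometric point. -/
def stab (p : B →ₐ[K] Ω) : Subgroup (Ω ≃ₐ[K] Ω) where
  carrier := {σ | ∀ b, σ (p b) = p b}
  one_mem' := fun _ => rfl
  mul_mem' {σ τ} hσ hτ := fun b => by
    change σ (τ (p b)) = p b
    rw [hτ b, hσ b]
  inv_mem' {σ} hσ := fun b => by
    change σ.symm (p b) = p b
    rw [AlgEquiv.symm_apply_eq, hσ b]

/-- Separable elements fixed by the stabilizer. -/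
noncomputable def Lf (p : B →ₐ[K] Ω) : IntermediateField K Ω :=
  separableClosure K Ω ⊓ IntermediateField.fixedField (stab p)

theorem mem_Lf (p : B →ₐ[K] Ω) (x : Ω) :
    x ∈ Lf p ↔ IsSeparable K x ∧ ∀ σ : Ω ≃ₐ[K] Ω, (∀ b, σ (p b) = p b) → σ x = x := by
  change x ∈ separableClosure K Ω ∧ x ∈ IntermediateField.fixedField (stab p) ↔ _
  rw [mem_separableClosure_iff, IntermediateField.mem_fixedField_iff]
  rfl

variable [Algebra.IsAlgebraic K Ω]

/-- The range of a point as an intermediate field. -/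
noncomputable def rg (p : B →ₐ[K] Ω) : IntermediateField K Ω :=
  p.range.toIntermediateField' (Subalgebra.isField_of_algebraic _)

theorem mem_rg (p : B →ₐ[K] Ω) (x : Ω) : x ∈ rg p ↔ ∃ b, p b = x := Iff.rfl

theorem Lf_le_rg [IsAlgClosed Ω] (p : B →ₐ[K] Ω) : Lf p ≤ rg p := by
  intro x hx
  obtain ⟨hsep, hfix⟩ := (mem_Lf p x).1 hx
  have : Algebra.IsAlgebraic (rg p) Ω := Algebra.IsAlgebraic.tower_top (K := K) (rg p)
  have hn : Normal (rg p) Ω := normal_iff.2 fun y => ⟨Algebra.IsIntegral.isIntegral y, IsAlgClosed.splits _⟩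
  have hx' : x ∈ separableClosure (rg p) Ω := by
    rw [mem_separableClosure_iff]
    exact IsSeparable.tower_top (rg p) hsep
  have h1 : (⟨x, hx'⟩ : separableClosure (rg p) Ω) ∈ (⊥ : IntermediateField (rg p) (separableClosure (rg p) Ω)) := by
    rw [InfiniteGalois.mem_bot_iff_fixed]
    intro f
    apply Subtype.ext
    have h2 := f.liftNormal_commutes Ω (⟨x, hx'⟩ : separableClosure (rg p) Ω)
    change f.liftNormal Ω x = (f ⟨x, hx'⟩ : Ω) at h2
    rw [← h2]
    refine hfix ((f.liftNormal Ω).restrictScalars K) fun b => ?_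
    exact (f.liftNormal Ω).commutes (⟨p b, (mem_rg p _).2 ⟨b, rfl⟩⟩ : rg p)
  obtain ⟨y, hy⟩ := IntermediateField.mem_bot.1 h1
  have h3 : (y : Ω) = x := congrArg Subtype.val hy
  rw [← h3]
  exact y.2

theorem finite_rg [Module.Finite K B] (p : B →ₐ[K] Ω) : FiniteDimensional K (rg p) :=
  Module.Finite.of_surjective (p.toLinearMap.codRestrict (Subalgebra.toSubmodule (rg p).toSubalgebra)
    fun b => (mem_rg p _).2 ⟨b, rfl⟩) fun x => by
      obtain ⟨b, hb⟩ := (mem_rg p _).1 x.2
      exact ⟨b, Subtype.ext hb⟩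

theorem finite_Lf [IsAlgClosed Ω] [Module.Finite K B] (p : B →ₐ[K] Ω) : FiniteDimensional K (Lf p) := by
  have := finite_rg p
  exact FiniteDimensional.of_injective (IntermediateField.inclusion (Lf_le_rg p)).toLinearMap
    (IntermediateField.inclusion (Lf_le_rg p)).injective

theorem isGalois_Lf [IsAlgClosed Ω] (p : B →ₐ[K] Ω)
    (hst : ∀ (p' : B →ₐ[K] Ω) (σ : Ω ≃ₐ[K] Ω), (∀ b, σ (p b) = p b) → ∀ b, σ (p' b) = p' b) :
    IsGalois K (Lf p) := by
  have hn : Normal K Ω := normal_iff.2 fun y => ⟨Algebra.IsIntegral.isIntegral y, IsAlgClosed.splits _⟩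
  have hsep : Algebra.IsSeparable K (Lf p) := ⟨fun x => by
    exact IsSeparable.tower_bot (F := K) (K := Lf p) (E := Ω) ((mem_Lf p x).1 x.2).1⟩
  have hnor : Normal K (Lf p) := by
    rw [IntermediateField.normal_iff_forall_map_le']
    intro σ
    rintro _ ⟨x, hx, rfl⟩
    obtain ⟨h1, h2⟩ := (mem_Lf p x).1 hx
    refine (mem_Lf p _).2 ⟨?_, ?_⟩
    · exact (isSeparable_map_iff (σ : Ω →ₐ[K] Ω) σ.injective).2 h1
    · intro τ hτ
      have h3 := h2 ((σ.trans τ).trans σ.symm) (fun b => by
        change σ.symm (τ (σ (p b))) = p b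
        rw [AlgEquiv.symm_apply_eq]
        exact hst ((σ : Ω →ₐ[K] Ω).comp p) τ hτ b)
      change σ.symm (τ (σ x)) = x at h3
      rwa [AlgEquiv.symm_apply_eq] at h3
  exact ⟨⟩

/-- Over a field of exponential characteristic `q` a power of every value of a point is in `Lf`. -/
theorem exists_pow_mem_Lf (q : ℕ) [ExpChar K q] (p : B →ₐ[K] Ω) (b : B) : ∃ n : ℕ, (p b) ^ q ^ n ∈ Lf p := by
  have hq : ExpChar (separableClosure K Ω) q :=
    expChar_of_injective_algebraMap (algebraMap K (separableClosure K Ω)).injective q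
  obtain ⟨n, y, hy⟩ := IsPurelyInseparable.pow_mem (separableClosure K Ω) q (p b)
  refine ⟨n, (mem_Lf p _).2 ⟨?_, fun σ hσ => ?_⟩⟩
  · rw [← hy]
    exact mem_separableClosure_iff.1 y.2
  · rw [map_pow, hσ b]

end Alg

end K775.Stab
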