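import Groth.Agent.TateGlob.K775.Split
import Groth.Agent.TateGlob.K775.KvSep
import Groth.Agent.TateGlob.K775.Stab

/-!
# Finite algebras over a global function field with points in all completions

`exists_algHom`: `B` finite over `K`, with a point in every `K_v`, such that all geometric points of `B` have the same
stabilizer in the Galois group. Then `B` has a `K`-point.
-/

set_option autoImplicit false

universe u

namespace K775.Heart

open FunFld AdFn K660.Places K775.Stab

variable {k₀ K : Type u} [Field k₀] [Field K] [Algebra k₀ K]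

theorem nonempty_place {t : K} (ht : IsGen k₀ K t) : Nonempty (Place k₀ K) := by
  obtain ⟨v⟩ := K660.Places.nonempty_place (Split.isFunctionField_const ht)
  exact ⟨Split.down v⟩

variable {B Ω : Type u} [CommRing B] [Algebra K B] [Module.Finite K B] [Field Ω] [Algebra K Ω]

/-- A point in a field comes from a geometric point. -/
theorem exists_point [IsAlgClosed Ω] {F : Type u} [Field F] [Algebra K F] (g : B →ₐ[K] F) :
    ∃ p : B →ₐ[K] Ω, ∀ b, p b = 0 ↔ g b = 0 := by
  have hp : (RingHom.ker g).IsPrime := RingHom.ker_isPrime g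
  have hart : IsArtinianRing B := IsArtinianRing.of_finite K B
  have hm : (RingHom.ker g).IsMaximal := IsArtinianRing.isMaximal_of_isPrime _
  let _ : Field (B ⧸ RingHom.ker g) := Ideal.Quotient.field _
  have hfin : Module.Finite K (B ⧸ RingHom.ker g) :=
    Module.Finite.of_surjective (Ideal.Quotient.mkₐ K (RingHom.ker g)).toLinearMap (Ideal.Quotient.mkₐ_surjective K _)
  have halg : Algebra.IsAlgebraic K (B ⧸ RingHom.ker g) := Algebra.IsAlgebraic.of_finite K _
  let f : (B ⧸ RingHom.ker g) →ₐ[K] Ω := IsAlgClosed.lift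
  refine ⟨f.comp (Ideal.Quotient.mkₐ K _), fun b => ?_⟩
  change f (Ideal.Quotient.mk _ b) = 0 ↔ _
  rw [map_eq_zero_iff f f.injective, Ideal.Quotient.eq_zero_iff_mem]
  exact Iff.rfl

theorem exists_embed [Algebra.IsAlgebraic K Ω] {F : Type u} [Field F] [Algebra K F] (g : B →ₐ[K] F)
    (p : B →ₐ[K] Ω) (hp : ∀ b, p b = 0 ↔ g b = 0) : ∃ j : rg p →+* F, ∀ b, j ⟨p b, (mem_rg p _).2 ⟨b, rfl⟩⟩ = g b := by
  let r : B →+* rg p := RingHom.codRestrict (p : B →+* Ω) (rg p) fun b => (mem_rg p _).2 ⟨b, rfl⟩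
  have hr : Function.Surjective r := fun x => by
    obtain ⟨b, hb⟩ := (mem_rg p _).1 x.2
    exact ⟨b, Subtype.ext hb⟩
  have hk : RingHom.ker r ≤ RingHom.ker (g : B →+* F) := fun b hb => by
    have h1 : p b = 0 := congrArg Subtype.val hb
    exact (hp b).1 h1
  refine ⟨RingHom.liftOfSurjective r hr ⟨g, hk⟩, fun b => ?_⟩
  exact RingHom.liftOfRightInverse_comp_apply r _ (Function.rightInverse_surjInv hr) ⟨(g : B →+* F), hk⟩ b

/-- A finite algebra with points in all completions, all of whose geometric points have the same stabilizer, has a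
rational point. -/
theorem exists_algHom [Finite k₀] {t : K} (ht : IsGen k₀ K t) [Algebra.IsAlgebraic K Ω] [IsAlgClosed Ω]
    (hB : ∀ v : Place k₀ K, ∃ g : B →+* Kv v, ∀ x, g (algebraMap K B x) = toKv v x)
    (hst : ∀ (p p' : B →ₐ[K] Ω) (σ : Ω ≃ₐ[K] Ω), (∀ b, σ (p b) = p b) → ∀ b, σ (p' b) = p' b) :
    Nonempty (B →ₐ[K] K) := by
  have hB' : ∀ v : Place k₀ K, ∃ (g : B →ₐ[K] Kv v) (p : B →ₐ[K] Ω), ∀ b, p b = 0 ↔ g b = 0 := by
    intro v
    obtain ⟨g, hg⟩ := hB v
    let g' : B →ₐ[K] Kv v := { g with commutes' := hg }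
    obtain ⟨p, hp⟩ := exists_point (Ω := Ω) g'
    exact ⟨g', p, hp⟩
  obtain ⟨v₀⟩ := nonempty_place ht
  obtain ⟨g₀, p₀, h₀⟩ := hB' v₀
  have hfin := finite_Lf p₀
  have hgal := isGalois_Lf p₀ (hst p₀)
  have hsurj : Function.Surjective (algebraMap K (Lf p₀)) := by
    refine Split.surjective_of_forall_embed ht fun v => ?_
    obtain ⟨g, p, hp⟩ := hB' v
    have hle : Lf p₀ ≤ rg p := by
      refine le_trans ?_ (Lf_le_rg p)
      intro x hx
      rw [mem_Lf] at hx ⊢
      exact ⟨hx.1, fun σ hσ => hx.2 σ (hst p p₀ σ hσ)⟩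
    obtain ⟨j, hj⟩ := exists_embed g p hp
    refine ⟨j.comp (IntermediateField.inclusion hle : Lf p₀ →+* rg p), fun x => ?_⟩
    have h1 : (IntermediateField.inclusion hle (algebraMap K (Lf p₀) x)) =
        (⟨p (algebraMap K B x), (mem_rg p _).2 ⟨_, rfl⟩⟩ : rg p) := by
      apply Subtype.ext
      exact (p.commutes x).symm
    change j (IntermediateField.inclusion hle (algebraMap K (Lf p₀) x)) = _
    rw [h1, hj]
    exact g.commutes x
  obtain ⟨j, hj⟩ := exists_embed g₀ p₀ h₀
  have hval : ∀ b, ∃ c : K, g₀ b = toKv v₀ c := by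
    intro b
    obtain ⟨q, hq⟩ := CharP.exists K
    have hk₀ : CharP k₀ q := (algebraMap k₀ K).charP (algebraMap k₀ K).injective q
    have hq0 : q ≠ 0 := by
      rintro rfl
      have := CharP.charP_to_charZero k₀
      exact not_finite k₀
    have hprime : Fact q.Prime := ⟨(CharP.char_is_prime_or_zero K q).resolve_right hq0⟩
    have hexp : ExpChar K q := ExpChar.prime hprime.out
    obtain ⟨n, hn⟩ := exists_pow_mem_Lf q p₀ b
    obtain ⟨c, hc⟩ := hsurj ⟨_, hn⟩
    have hc' : algebraMap K Ω c = p₀ b ^ q ^ n := congrArg Subtype.val hc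
    refine KvSep.exists_of_pow_pow_mem q ht v₀ n (g₀ b) c ?_
    have h1 : p₀ (b ^ q ^ n - algebraMap K B c) = 0 := by
      rw [map_sub, map_pow, p₀.commutes, hc', sub_self]
    have h2 := (h₀ _).1 h1
    rw [map_sub, map_pow, g₀.commutes, sub_eq_zero] at h2
    exact h2
  choose c hc using hval
  refine ⟨{ toFun := c, map_one' := ?_, map_mul' := ?_, map_zero' := ?_, map_add' := ?_, commutes' := ?_ }⟩
  · apply (toKv v₀).injective
    rw [← hc, map_one, map_one]
  · intro x y
    apply (toKv v₀).injective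
    rw [← hc, map_mul, map_mul, ← hc, ← hc]
  · apply (toKv v₀).injective
    rw [← hc, map_zero, map_zero]
  · intro x y
    apply (toKv v₀).injective
    rw [← hc, map_add, map_add, ← hc, ← hc]
  · intro x
    apply (toKv v₀).injective
    rw [← hc]
    exact g₀.commutes x

end K775.Heart
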