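import Groth.Agent.MiscA.ZetaAbs
import Groth.Agent.FunFld.K663.Roots

/-!
# Twisted counting of effective divisors

For a weight `w : X → ℂ` on the points, `Aw n = ∑ w(E)` over the effective divisors `E` of degree `n`, and
`Nw i = ∑_{deg P ∣ i} deg P · w(P) ^ (i / deg P)`.
* `mul_Aw`: `n Aw n = ∑ Nw i · Aw (n - i)`;
* `logD_Aw`: the same as a logarithmic derivative;
* `Aw_eq_zero`: `Aw n = 0` when `w` comes from a character of the class group which is not trivial in degree zero
  and all classes of degree `n` contain the same number of effective divisors.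
-/

set_option autoImplicit false

namespace K775.HnCount

open Groth.Agent.MiscA Groth.Agent.MiscA.ZetaAbsCount Groth.Agent.MiscA.ZetaAbs

variable {X : Type*} (deg : X → ℕ) (w : X → ℂ)

/-- The weight of an effective divisor. -/
noncomputable def W (E : X →₀ ℕ) : ℂ := E.prod fun P m => w P ^ m

theorem W_add (E F : X →₀ ℕ) : W w (E + F) = W w E * W w F := by
  classical
  unfold W
  exact Finsupp.prod_add_index' (fun P => pow_zero _) fun P a b => pow_add _ _ _

theorem W_single (P : X) (m : ℕ) : W w (Finsupp.single P m) = w P ^ m := by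
  unfold W
  exact Finsupp.prod_single_index (pow_zero _)

theorem W_zero : W w (0 : X →₀ ℕ) = 1 := by
  unfold W
  exact Finsupp.prod_zero_index

/-- The twisted number of effective divisors of degree `n`. -/
noncomputable def Aw (n : ℕ) : ℂ := ∑ᶠ E : Eff deg n, W w E.1

/-- The twisted number of points over the extension of degree `n`. -/
noncomputable def Nw (i : ℕ) : ℂ := ∑ᶠ P : X, if deg P ∣ i then (deg P : ℂ) * w P ^ (i / deg P) else 0

variable (hdeg : ∀ P, 0 < deg P) (hfin : ∀ d, Finite {P : X // deg P = d})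

include hdeg in
theorem sum_apply_w (P : X) (n : ℕ) [Fintype (Eff deg n)] :
    ∑ E : Eff deg n, (E.1 P : ℂ) * W w E.1 =
      ∑ m ∈ Finset.Icc 1 n, if m * deg P ≤ n then w P ^ m * Aw deg w (n - m * deg P) else 0 := by
  classical
  have h1 : ∀ E : Eff deg n, (E.1 P : ℂ) * W w E.1 =
      ∑ m ∈ Finset.Icc 1 n, if m ≤ E.1 P then W w E.1 else 0 := by
    intro E
    have hle : E.1 P ≤ n := by
      have := apply_le deg hdeg E.1 P
      rwa [E.2] at this
    rw [← Finset.sum_filter, Finset.sum_const, nsmul_eq_mul]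
    have : (Finset.Icc 1 n).filter (fun m => m ≤ E.1 P) = Finset.Icc 1 (E.1 P) := by
      ext m
      simp only [Finset.mem_filter, Finset.mem_Icc]
      omega
    rw [this, Nat.card_Icc]
    simp
  rw [Finset.sum_congr rfl fun E _ => h1 E, Finset.sum_comm]
  refine Finset.sum_congr rfl fun m _ => ?_
  rw [← Finset.sum_filter]
  split_ifs with h
  · have hF : Fintype (Eff deg (n - m * deg P)) :=
      @Fintype.ofFinite _ (Finite.of_equiv _ (subEquiv deg P m n h))
    have h2 : (∑ E ∈ Finset.univ.filter (fun E : Eff deg n => m ≤ E.1 P), W w E.1) =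
        ∑ E : {E : Eff deg n // m ≤ E.1 P}, W w E.1.1 := by
      refine Finset.sum_subtype _ (fun E => ?_) _
      simp
    unfold Aw
    rw [h2, finsum_eq_sum_of_fintype, Finset.mul_sum]
    refine Fintype.sum_equiv (subEquiv deg P m n h) _ _ fun E => ?_
    have h3 : E.1.1 = ((subEquiv deg P m n h) E).1 + Finsupp.single P m := by
      have h4 : Finsupp.single P m ≤ E.1.1 := by
        rw [Finsupp.single_le_iff]; exact E.2
      exact (tsub_add_cancel_of_le h4).symm
    rw [h3, W_add, W_single, mul_comm]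
  · refine Finset.sum_eq_zero fun E hE => ?_
    exfalso
    apply h
    refine (Nat.mul_le_mul_right _ (Finset.mem_filter.1 hE).2).trans ?_
    have := mul_deg_le_degN deg E.1 P
    rwa [E.2] at this

theorem sum_reindex_w (a : ℕ → ℕ → ℂ) (n d : ℕ) (hd : 0 < d) :
    (∑ m ∈ Finset.Icc 1 n, if m * d ≤ n then a m (n - m * d) else 0) =
      ∑ i ∈ Finset.Icc 1 n, if d ∣ i then a (i / d) (n - i) else 0 := by
  rw [← Finset.sum_filter, ← Finset.sum_filter]
  refine Finset.sum_bij (fun m _ => m * d) ?_ ?_ ?_ ?_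
  · intro m hm
    simp only [Finset.mem_filter, Finset.mem_Icc] at hm ⊢
    refine ⟨⟨?_, hm.2⟩, Dvd.intro_left m rfl⟩
    exact Nat.mul_pos hm.1.1 hd
  · intro m hm m' hm' h
    exact Nat.eq_of_mul_eq_mul_right hd h
  · intro i hi
    simp only [Finset.mem_filter, Finset.mem_Icc] at hi
    obtain ⟨m, rfl⟩ := hi.2
    refine ⟨m, ?_, mul_comm _ _⟩
    simp only [Finset.mem_filter, Finset.mem_Icc]
    refine ⟨⟨?_, ?_⟩, ?_⟩
    · exact Nat.pos_of_ne_zero fun h => by rw [h, mul_zero] at hi; omega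
    · exact (Nat.le_mul_of_pos_left _ hd).trans hi.1.2
    · rw [mul_comm]; exact hi.1.2
  · intro m hm
    rw [Nat.mul_div_cancel _ hd]

include hfin in
theorem Nw_eq (n i : ℕ) (hi : 1 ≤ i) (hin : i ≤ n) :
    Nw deg w i = ∑ P ∈ (finite_deg_le deg hfin n).toFinset,
      if deg P ∣ i then (deg P : ℂ) * w P ^ (i / deg P) else 0 := by
  unfold Nw
  refine finsum_eq_sum_of_support_subset _ fun P hP => ?_
  rw [Function.mem_support] at hP
  have h1 : deg P ∣ i := by
    by_contra h
    rw [if_neg h] at hP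
    exact hP rfl
  have h2 := Nat.le_of_dvd hi h1
  simp only [Set.Finite.coe_toFinset, Set.mem_ofPred_eq]
  omega

include hdeg hfin in
/-- The key identity. -/
theorem mul_Aw (n : ℕ) : (n : ℂ) * Aw deg w n = ∑ i ∈ Finset.Icc 1 n, Nw deg w i * Aw deg w (n - i) := by
  classical
  have := finite_eff deg hdeg hfin n
  have hF : Fintype (Eff deg n) := Fintype.ofFinite _
  set T := (finite_deg_le deg hfin n).toFinset with hT
  have h1 : (n : ℂ) * Aw deg w n = ∑ E : Eff deg n, ∑ P ∈ T, (deg P : ℂ) * ((E.1 P : ℂ) * W w E.1) := by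
    have h2 : ∀ E : Eff deg n, ∑ P ∈ T, E.1 P * deg P = n := by
      intro E
      refine Eq.trans ?_ E.2
      unfold degN
      rw [Finsupp.sum_of_support_subset _ _ _ (fun _ _ => by rw [zero_mul])]
      intro P hP
      rw [hT, Set.Finite.mem_toFinset, Set.mem_ofPred_eq]
      by_contra hcon
      push Not at hcon
      exact (Finsupp.mem_support_iff.mp hP) (apply_eq_zero deg E P hcon)
    unfold Aw
    rw [finsum_eq_sum_of_fintype, Finset.mul_sum]
    refine Finset.sum_congr rfl fun E _ => ?_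
    have h3 : (n : ℂ) = ∑ P ∈ T, (E.1 P : ℂ) * (deg P : ℂ) := by
      have h4 := congrArg (Nat.cast : ℕ → ℂ) (h2 E)
      push_cast at h4
      exact h4.symm
    rw [h3, Finset.sum_mul]
    refine Finset.sum_congr rfl fun P _ => ?_
    ring
  rw [h1, Finset.sum_comm]
  have h3 : ∀ P ∈ T, ∑ E : Eff deg n, (deg P : ℂ) * ((E.1 P : ℂ) * W w E.1) =
      ∑ i ∈ Finset.Icc 1 n, (if deg P ∣ i then (deg P : ℂ) * w P ^ (i / deg P) else 0) *
        Aw deg w (n - i) := by
    intro P _
    rw [← Finset.mul_sum, sum_apply_w deg w hdeg P n,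
      sum_reindex_w (fun m j => w P ^ m * Aw deg w j) n _ (hdeg P), Finset.mul_sum]
    refine Finset.sum_congr rfl fun i _ => ?_
    split_ifs
    · ring
    · rw [mul_zero, zero_mul]
  rw [Finset.sum_congr rfl h3, Finset.sum_comm]
  refine Finset.sum_congr rfl fun i hi => ?_
  rw [Finset.mem_Icc] at hi
  rw [← Finset.sum_mul, Nw_eq deg w hfin n i hi.1 hi.2]

include hdeg in
theorem Aw_zero : Aw deg w 0 = 1 := by
  have h0 : ∀ E : Eff deg 0, E = ⟨0, degN_zero deg⟩ := by
    intro E
    apply Subtype.ext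
    ext P
    have h1 := apply_le deg hdeg E.1 P
    rw [E.2] at h1
    simp only [Finsupp.coe_zero, Pi.zero_apply]
    omega
  unfold Aw
  rw [finsum_eq_single _ (⟨0, degN_zero deg⟩ : Eff deg 0) fun E hE => absurd (h0 E) hE]
  exact W_zero w

open PowerSeries in
include hdeg hfin in
/-- The logarithmic derivative of the twisted zeta function. -/
theorem logD_Aw : ZetaAbsCx.LogD (mk fun n => Aw deg w n)
    (mk fun n => if n = 0 then 0 else Nw deg w n) := by
  unfold ZetaAbsCx.LogD
  ext n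
  rcases n with _ | n
  · simp
  · rw [coeff_succ_X_mul, coeff_derivative, coeff_mk, coeff_mul]
    rw [Finset.Nat.sum_antidiagonal_eq_sum_range_succ_mk]
    simp only [coeff_mk]
    have h2 := mul_Aw deg w hdeg hfin (n + 1)
    rw [mul_comm] at h2
    push_cast at h2
    rw [h2]
    refine Finset.sum_bij_ne_zero (fun i _ _ => n + 1 - i) ?_ ?_ ?_ ?_
    · intro i hi _
      rw [Finset.mem_Icc] at hi
      rw [Finset.mem_range]
      omega
    · intro i hi _ j hj _ h
      rw [Finset.mem_Icc] at hi hj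
      omega
    · intro j hj hne
      rw [Finset.mem_range] at hj
      have hj0 : n + 1 - j ≠ 0 := by
        intro h
        rw [if_pos h, mul_zero] at hne
        exact hne rfl
      refine ⟨n + 1 - j, ?_, ?_, ?_⟩
      · rw [Finset.mem_Icc]; omega
      · rw [if_neg hj0] at hne
        have : n + 1 - (n + 1 - j) = j := by omega
        rw [this, mul_comm]
        exact hne
      · omega
    · intro i hi _
      rw [Finset.mem_Icc] at hi
      have : n + 1 - (n + 1 - i) = i := by omega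
      rw [this, if_neg (by omega), mul_comm]

section Char

variable (Pr : AddSubgroup (X →₀ ℤ)) (hPr : ∀ D ∈ Pr, degZ deg D = 0)
  (χ : (X →₀ ℤ) →+ Additive ℂˣ) (hχ : ∀ D ∈ Pr, χ D = 0)

/-- The weight of a character. -/
noncomputable def wt (P : X) : ℂ := ((χ (Finsupp.single P 1)).toMul : ℂˣ)

theorem W_wt (E : X →₀ ℕ) : W (wt χ) E = (((χ (toZ E)).toMul : ℂˣ) : ℂ) := by
  classical
  induction E using Finsupp.induction_linear with
  | zero =>
    have h1 : toZ (0 : X →₀ ℕ) = 0 := by
      ext P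
      rfl
    rw [W_zero, h1, map_zero]
    simp
  | add E F hE hF =>
    have h1 : toZ (E + F) = toZ E + toZ F := by
      ext P
      simp [ZetaAbs.toZ]
    rw [W_add, h1, map_add, hE, hF]
    simp
  | single P m =>
    have h1 : toZ (Finsupp.single P m) = (m : ℤ) • Finsupp.single P (1 : ℤ) := by
      ext P'
      simp only [ZetaAbs.toZ, Finsupp.mapRange_apply, Finsupp.single_apply, Finsupp.smul_apply, smul_eq_mul]
      split_ifs <;> simp
    rw [W_single, h1, map_zsmul]
    simp [wt]

include hdeg hfin hχ in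
theorem Aw_eq_zero (n : ℕ) [Finite (ClN deg Pr hPr n)] (N : ℕ)
    (hN : ∀ c : ClN deg Pr hPr n, Nat.card {E : Eff deg n // effToCl deg Pr hPr n E = c} = N)
    (D₀ : X →₀ ℤ) (hD₀ : degHom deg D₀ = 0) (hne : χ D₀ ≠ 0) : Aw deg (wt χ) n = 0 := by
  classical
  have := finite_eff deg hdeg hfin n
  have hF : Fintype (Eff deg n) := Fintype.ofFinite _
  have hF' : Fintype (ClN deg Pr hPr n) := Fintype.ofFinite _
  let χ' : (X →₀ ℤ) ⧸ Pr →+ Additive ℂˣ := QuotientAddGroup.lift Pr χ fun D hD => hχ D hD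
  have hχ' : ∀ D : X →₀ ℤ, χ' (D : (X →₀ ℤ) ⧸ Pr) = χ D := fun D => rfl
  let f : ClN deg Pr hPr n → ℂ := fun c => (((χ' c.1).toMul : ℂˣ) : ℂ)
  have h1 : Aw deg (wt χ) n = (N : ℂ) * ∑ c, f c := by
    unfold Aw
    rw [finsum_eq_sum_of_fintype, Finset.mul_sum,
      ← Fintype.sum_fiberwise (g := fun E : Eff deg n => effToCl deg Pr hPr n E)]
    refine Finset.sum_congr rfl fun c _ => ?_
    have h2 : ∀ E : {E : Eff deg n // effToCl deg Pr hPr n E = c}, W (wt χ) E.1.1 = f c := by
      rintro ⟨E, rfl⟩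
      rw [W_wt]
      rfl
    rw [Finset.sum_congr rfl fun E _ => h2 E, Finset.sum_const, nsmul_eq_mul, ← hN c,
      Nat.card_eq_fintype_card]
    rfl
  -- translation by `D₀`
  let e : ClN deg Pr hPr n ≃ ClN deg Pr hPr n :=
    { toFun := fun c => ⟨c.1 + (D₀ : (X →₀ ℤ) ⧸ Pr), by
        rw [map_add, c.2, degCl_mk, hD₀, add_zero]⟩
      invFun := fun c => ⟨c.1 - (D₀ : (X →₀ ℤ) ⧸ Pr), by
        rw [map_sub, c.2, degCl_mk, hD₀, sub_zero]⟩
      left_inv := fun c => Subtype.ext (add_sub_cancel_right _ _)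
      right_inv := fun c => Subtype.ext (sub_add_cancel _ _) }
  have h3 : ∑ c, f c = (((χ D₀).toMul : ℂˣ) : ℂ) * ∑ c, f c := by
    rw [Finset.mul_sum]
    refine (Equiv.sum_comp e f).symm.trans (Finset.sum_congr rfl fun c _ => ?_)
    change (((χ' (c.1 + (D₀ : (X →₀ ℤ) ⧸ Pr))).toMul : ℂˣ) : ℂ) = _ * (((χ' c.1).toMul : ℂˣ) : ℂ)
    rw [map_add, hχ']
    simp [mul_comm]
  have h4 : (((χ D₀).toMul : ℂˣ) : ℂ) ≠ 1 := by
    intro h
    apply hne
    have h5 : ((χ D₀).toMul : ℂˣ) = 1 := Units.ext h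
    exact h5
  have h5 : ∑ c, f c = 0 := by
    have h6 : ((((χ D₀).toMul : ℂˣ) : ℂ) - 1) * ∑ c, f c = 0 := by
      rw [sub_mul, one_mul, ← h3, sub_self]
    rcases mul_eq_zero.1 h6 with h7 | h7
    · exact absurd (sub_eq_zero.1 h7) h4
    · exact h7
  rw [h1, h5, mul_zero]

end Char

end K775.HnCount
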