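import Mathlib.GroupTheory.QuotientGroup.Basic
import Mathlib.GroupTheory.Index
import Mathlib.Algebra.Module.CharacterModule
import Mathlib.Analysis.SpecialFunctions.Complex.Log
import Mathlib.SetTheory.Cardinal.Finite

/-!
# Two lemmas on abelian groups

* `mem_range`: `N : A → B` surjective, `N T = 0`, `ker T ⊆ im C`: then `ker N ⊆ im T` (finite groups);
* `exists_of_mem`: the same for subquotients;
* `exists_char`: a nonzero element of an abelian group is not killed by some character with values in `ℂˣ`.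
-/

set_option autoImplicit false

namespace K775.HnGrp

theorem mem_range {A B : Type*} [AddCommGroup A] [AddCommGroup B] [Finite A] [Finite B]
    (T : A →+ A) (N : A →+ B) (hN : Function.Surjective N) (hNT : ∀ a, N (T a) = 0)
    (C : B → A) (hC : ∀ a, T a = 0 → ∃ b, C b = a) (a : A) (ha : N a = 0) : ∃ b, T b = a := by
  have h1 : Nat.card T.ker ≤ Nat.card B := by
    refine Nat.card_le_card_of_injective (fun x : T.ker => (hC x.1 x.2).choose) ?_
    intro x y hxy
    have h2 := (hC x.1 x.2).choose_spec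
    have h3 := (hC y.1 y.2).choose_spec
    apply Subtype.ext
    rw [← h2, ← h3]
    exact congrArg C hxy
  have h2 : Nat.card T.range * Nat.card T.ker = Nat.card A := by
    rw [mul_comm, ← AddSubgroup.card_mul_index T.ker, AddSubgroup.index_ker]
  have h3 : Nat.card B * Nat.card N.ker = Nat.card A := by
    rw [mul_comm, ← AddSubgroup.card_mul_index N.ker, AddSubgroup.index_ker,
      AddMonoidHom.range_eq_top.2 hN, AddSubgroup.card_top]
  have h4 : T.range ≤ N.ker := by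
    rintro _ ⟨x, rfl⟩
    exact hNT x
  have h5 : Nat.card N.ker ≤ Nat.card T.range := by
    have h6 : Nat.card B * Nat.card N.ker ≤ Nat.card B * Nat.card T.range := by
      rw [h3, ← h2, mul_comm]
      exact Nat.mul_le_mul_right _ h1
    exact Nat.le_of_mul_le_mul_left h6 Nat.card_pos
  have h6 : T.range = N.ker := AddSubgroup.eq_of_le_of_card_ge h4 h5
  have h7 : a ∈ T.range := by
    rw [h6]
    exact ha
  exact h7

theorem exists_of_mem {G H : Type*} [AddCommGroup G] [AddCommGroup H] (Z' B' : AddSubgroup G)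
    (Z B : AddSubgroup H) (fin' : Finite (Z' ⧸ B'.addSubgroupOf Z'))
    (fin : Finite (Z ⧸ B.addSubgroupOf Z)) (s : G →+ G) (hsZ : ∀ x ∈ Z', s x ∈ Z')
    (hsB : ∀ x ∈ B', s x ∈ B') (N : G →+ H) (hNZ : ∀ x ∈ Z', N x ∈ Z) (hNB : ∀ x ∈ B', N x ∈ B)
    (hNs : ∀ x, N (s x) = N x) (hsurj : ∀ z ∈ Z, ∃ x ∈ Z', N x - z ∈ B)
    (C : H →+ G) (hCZ : ∀ z ∈ Z, C z ∈ Z') (hCB : ∀ z ∈ B, C z ∈ B')
    (hfix : ∀ x ∈ Z', s x - x ∈ B' → ∃ z ∈ Z, x - C z ∈ B') (x : G) (hx : x ∈ Z') (hNx : N x ∈ B) :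
    ∃ y ∈ Z', x - (s y - y) ∈ B' := by
  let sZ : Z' →+ Z' := ((s - AddMonoidHom.id G).comp Z'.subtype).codRestrict Z'
    fun x => Z'.sub_mem (hsZ x x.2) x.2
  let NZ : Z' →+ Z := (N.comp Z'.subtype).codRestrict Z fun x => hNZ x x.2
  let CZ : Z →+ Z' := (C.comp Z.subtype).codRestrict Z' fun z => hCZ z z.2
  let T : Z' ⧸ B'.addSubgroupOf Z' →+ Z' ⧸ B'.addSubgroupOf Z' :=
    QuotientAddGroup.map _ _ sZ fun x hx => by
      change s x - x ∈ B'
      exact B'.sub_mem (hsB x hx) hx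
  let NQ : Z' ⧸ B'.addSubgroupOf Z' →+ Z ⧸ B.addSubgroupOf Z :=
    QuotientAddGroup.map _ _ NZ fun x hx => hNB x hx
  let CQ : Z ⧸ B.addSubgroupOf Z →+ Z' ⧸ B'.addSubgroupOf Z' :=
    QuotientAddGroup.map _ _ CZ fun x hx => hCB x hx
  have key := mem_range T NQ ?_ ?_ CQ ?_ ((⟨x, hx⟩ : Z') : Z' ⧸ B'.addSubgroupOf Z') ?_
  · obtain ⟨c, hc⟩ := key
    induction c using QuotientAddGroup.induction_on with
    | H y =>
    refine ⟨y.1, y.2, ?_⟩
    change ((sZ y : Z') : Z' ⧸ B'.addSubgroupOf Z') = _ at hc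
    rw [QuotientAddGroup.eq] at hc
    have h1 : -(s y.1 - y.1) + x ∈ B' := hc
    have h2 : x - (s y.1 - y.1) = -(s y.1 - y.1) + x := by abel
    rw [h2]
    exact h1
  · intro c
    induction c using QuotientAddGroup.induction_on with
    | H z =>
    obtain ⟨y, hy, hyz⟩ := hsurj z.1 z.2
    refine ⟨((⟨y, hy⟩ : Z') : Z' ⧸ B'.addSubgroupOf Z'), ?_⟩
    change ((NZ ⟨y, hy⟩ : Z) : Z ⧸ B.addSubgroupOf Z) = _
    rw [QuotientAddGroup.eq]
    change -(N y) + z.1 ∈ B
    have h2 : -(N y) + z.1 = -(N y - z.1) := by abel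
    rw [h2]
    exact B.neg_mem hyz
  · intro c
    induction c using QuotientAddGroup.induction_on with
    | H y =>
    change ((NZ (sZ y) : Z) : Z ⧸ B.addSubgroupOf Z) = ((0 : Z) : Z ⧸ B.addSubgroupOf Z)
    rw [QuotientAddGroup.eq]
    change -(N (s y.1 - y.1)) + 0 ∈ B
    rw [map_sub, hNs, sub_self, neg_zero, add_zero]
    exact B.zero_mem
  · intro c hc
    induction c using QuotientAddGroup.induction_on with
    | H y =>
    change ((sZ y : Z') : Z' ⧸ B'.addSubgroupOf Z') = ((0 : Z') : Z' ⧸ B'.addSubgroupOf Z') at hc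
    rw [QuotientAddGroup.eq] at hc
    have h1 : -(s y.1 - y.1) + 0 ∈ B' := hc
    rw [add_zero, neg_mem_iff] at h1
    obtain ⟨z, hz, hyz⟩ := hfix y.1 y.2 h1
    refine ⟨((⟨z, hz⟩ : Z) : Z ⧸ B.addSubgroupOf Z), ?_⟩
    change ((CZ ⟨z, hz⟩ : Z') : Z' ⧸ B'.addSubgroupOf Z') = _
    rw [QuotientAddGroup.eq]
    change -(C z) + y.1 ∈ B'
    have h2 : -(C z) + y.1 = y.1 - C z := by abel
    rw [h2]
    exact hyz
  · change ((NZ ⟨x, hx⟩ : Z) : Z ⧸ B.addSubgroupOf Z) = ((0 : Z) : Z ⧸ B.addSubgroupOf Z)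
    rw [QuotientAddGroup.eq]
    change -(N x) + 0 ∈ B
    rw [add_zero, neg_mem_iff]
    exact hNx

/-- `ℚ / ℤ → ℂˣ`. -/
noncomputable def expQ : AddCircle (1 : ℚ) →+ Additive ℂˣ :=
  QuotientAddGroup.lift (AddSubgroup.zmultiples (1 : ℚ))
    { toFun := fun q : ℚ => Additive.ofMul (Units.mk0 (Complex.exp (2 * Real.pi * Complex.I * (q : ℂ)))
        (Complex.exp_ne_zero _))
      map_zero' := by
        apply Additive.toMul.injective
        apply Units.ext
        simp
      map_add' := fun a b => by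
        apply Additive.toMul.injective
        apply Units.ext
        simp [mul_add, Complex.exp_add] } (by
    rintro _ ⟨n, rfl⟩
    apply Additive.toMul.injective
    apply Units.ext
    change Complex.exp (2 * Real.pi * Complex.I * (((n • (1 : ℚ) : ℚ)) : ℂ)) = 1
    rw [Complex.exp_eq_one_iff]
    exact ⟨n, by push_cast [zsmul_eq_mul]; ring⟩)

theorem expQ_injective : Function.Injective expQ := by
  rw [injective_iff_map_eq_zero]
  intro x hx
  induction x using QuotientAddGroup.induction_on with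
  | H q =>
  have h1 : Complex.exp (2 * Real.pi * Complex.I * (q : ℂ)) = 1 := by
    have h2 := congrArg (fun y : Additive ℂˣ => ((y.toMul : ℂˣ) : ℂ)) hx
    exact h2
  rw [Complex.exp_eq_one_iff] at h1
  obtain ⟨n, hn⟩ := h1
  have h3 : (q : ℂ) = n := by
    have h4 : (2 * Real.pi * Complex.I : ℂ) ≠ 0 := Complex.two_pi_I_ne_zero
    refine mul_left_cancel₀ h4 ?_
    rw [hn]
    ring
  have h5 : q = n := by exact_mod_cast h3
  refine (QuotientAddGroup.eq_zero_iff q).2 ⟨n, ?_⟩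
  rw [h5]
  simp

theorem exists_char {A : Type*} [AddCommGroup A] {a : A} (ha : a ≠ 0) :
    ∃ χ : A →+ Additive ℂˣ, χ a ≠ 0 := by
  obtain ⟨c, hc⟩ := CharacterModule.exists_character_apply_ne_zero_of_ne_zero ha
  refine ⟨expQ.comp c, fun h => hc ?_⟩
  apply expQ_injective
  rw [map_zero]
  exact h

end K775.HnGrp
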