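import Groth.Agent.S12589
import Groth.Agent.S11012
import Groth.Agent.S11000
import Groth.Agent.FunFld.K661.Residue
import Groth.Agent.FunFld.K661.OverFF
import Mathlib.Data.Nat.GCD.Basic
import Mathlib.FieldTheory.Finite.Basic
import Mathlib.FieldTheory.Finiteness

/-!
# Degrees of places in a constant extension of a global function field

`deg_dvd_lcm`: for `K' = k' ⊗_k K`, `k` finite, and `Q | P`: `deg_k Q ∣ lcm ([k' : k], deg P)`.
-/

set_option autoImplicit false
set_option linter.unusedSectionVars false
universe u v

namespace K775.HnRes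

open FunFld K661.Place

/-- A finite field with `q ^ a` elements in which `x ^ (q ^ b) = x` for all `x`: then `a ∣ b`. -/
theorem dvd_of_forall_pow (F : Type*) [Field F] [Finite F] (q a b : ℕ) (hq : 2 ≤ q) (hF : Nat.card F = q ^ a)
    (h : ∀ x : F, x ^ q ^ b = x) : a ∣ b := by
  obtain ⟨g, hg⟩ := IsCyclic.exists_generator (α := Fˣ)
  have h1 : orderOf g = q ^ a - 1 := by
    rw [orderOf_eq_card_of_forall_mem_zpowers hg, ← hF]
    let _ := Fintype.ofFinite F
    classical
    rw [Nat.card_eq_fintype_card, Nat.card_eq_fintype_card, Fintype.card_units]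
  have h2 : g ^ (q ^ b - 1) = 1 := by
    have h3 : (g : F) ^ (q ^ b - 1) * g = 1 * g := by
      have h5 : 1 ≤ q ^ b := Nat.one_le_pow _ _ (by omega)
      rw [one_mul, ← pow_succ, Nat.sub_add_cancel h5, h]
    have h4 := mul_right_cancel₀ g.ne_zero h3
    exact Units.ext (by rw [Units.val_pow_eq_pow_val, h4, Units.val_one])
  have h3 : (q ^ a - 1) ∣ (q ^ b - 1) := by
    rw [← h1]
    exact orderOf_dvd_of_pow_eq_one h2
  have h4 := Nat.pow_sub_one_mod_pow_sub_one q a b
  rw [Nat.mod_eq_zero_of_dvd h3] at h4
  refine Nat.dvd_of_mod_eq_zero ?_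
  by_contra h5
  have h6 : q ≤ q ^ (b % a) := Nat.le_self_pow h5 q
  omega

section

variable {k K : Type*} [Field k] [Field K] [Algebra k K] [Finite k]

theorem finite_residue (P : Place k K) (hP : 0 < P.deg) :
    Finite (IsLocalRing.ResidueField P.O) := by
  have h1 : Module.Finite k (IsLocalRing.ResidueField P.O) := Module.finite_of_finrank_pos hP
  exact Module.finite_of_finite k

theorem card_residue (P : Place k K) (hP : 0 < P.deg) :
    Nat.card (IsLocalRing.ResidueField P.O) = Nat.card k ^ P.deg := by
  have h1 : Module.Finite k (IsLocalRing.ResidueField P.O) := Module.finite_of_finrank_pos hP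
  exact Module.natCard_eq_pow_finrank

theorem pow_eq_self (P : Place k K) (hP : 0 < P.deg) (L : ℕ) (hL : P.deg ∣ L)
    (x : IsLocalRing.ResidueField P.O) : x ^ Nat.card k ^ L = x := by
  have := finite_residue P hP
  let _ := Fintype.ofFinite (IsLocalRing.ResidueField P.O)
  obtain ⟨m, rfl⟩ := hL
  have h := FiniteField.pow_card_pow m x
  rw [← Nat.card_eq_fintype_card, card_residue P hP, ← pow_mul] at h
  exact h

end

section

variable {k k' : Type u} {K K' : Type v} [Field k] [Field k'] [Field K] [Field K']
    [Algebra k k'] [FiniteDimensional k k'] [Algebra k K] [Algebra K K'] [Algebra k' K'] [Algebra k K']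
    [IsScalarTower k k' K'] [IsScalarTower k K K'] [Finite k]
    (h : Function.Bijective (Algebra.TensorProduct.productMap
      (IsScalarTower.toAlgHom k k' K') (IsScalarTower.toAlgHom k K K')))
    (hK : FunFld.IsFunctionField k K)

include h in
theorem finiteDimensional : FiniteDimensional K K' := by
  obtain ⟨s, hs⟩ := Module.finite_def.1 ‹FiniteDimensional k k'›
  refine Module.finite_def.2 ⟨s.map ⟨algebraMap k' K', (algebraMap k' K').injective⟩, ?_⟩
  have key : ∀ a : k', algebraMap k' K' a ∈ Submodule.span K
      ((s.map ⟨algebraMap k' K', (algebraMap k' K').injective⟩ : Finset K') : Set K') := by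
    intro a
    have ha : a ∈ Submodule.span k (s : Set k') := by rw [hs]; exact Submodule.mem_top
    induction ha using Submodule.span_induction with
    | mem x hx => exact Submodule.subset_span (by simpa using hx)
    | zero => rw [map_zero]; exact Submodule.zero_mem _
    | add x y _ _ hx hy => rw [map_add]; exact Submodule.add_mem _ hx hy
    | smul c x _ hx =>
      have h1 : algebraMap k' K' (c • x) = algebraMap k K c • algebraMap k' K' x := by
        rw [Algebra.smul_def, map_mul, Algebra.smul_def, ← IsScalarTower.algebraMap_apply k k' K',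
          ← IsScalarTower.algebraMap_apply k K K']
      rw [h1]
      exact Submodule.smul_mem _ _ hx
  rw [eq_top_iff]
  intro z _
  obtain ⟨y, rfl⟩ := h.2 z
  induction y using TensorProduct.induction_on with
  | zero => rw [map_zero]; exact Submodule.zero_mem _
  | tmul a b =>
    rw [Algebra.TensorProduct.productMap_apply_tmul]
    have hab : (IsScalarTower.toAlgHom k k' K') a * (IsScalarTower.toAlgHom k K K') b =
        b • algebraMap k' K' a := by
      rw [Algebra.smul_def, mul_comm]
      rfl
    rw [hab]
    exact Submodule.smul_mem _ _ (key a)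
  | add a b ha hb => rw [map_add]; exact Submodule.add_mem _ (ha trivial) (hb trivial)

include h hK in
/-- Constant extensions are unramified. -/
theorem isOverWith_one {Q : Place k K'} {P : Place k K} (hQ : IsOver Q P) : IsOverWith Q P 1 := by
  let _ := K661.OverFF.algO P K'
  have := K661.OverFF.towerO P K'
  exact (Groth.Agent.S11012.result k k' K K' h hK (Groth.Agent.S11000.result k K hK) P Q hQ).2

include h hK in
theorem deg_dvd_lcm {Q : Place k K'} {P : Place k K} (hQ : IsOver Q P) (hPpos : 0 < P.deg)
    (hQpos : 0 < Q.deg) {L : ℕ} (h1 : Module.finrank k k' ∣ L) (h2 : P.deg ∣ L) : Q.deg ∣ L := by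
  let _ := K661.OverFF.algO P K'
  have := K661.OverFF.towerO P K'
  have hg := Groth.Agent.S11000.result k K hK
  have hint := (Groth.Agent.S11012.result k k' K K' h hK hg P Q hQ).1
  have hext : P.1.HasExtension Q.1 := ⟨by
    rw [Valuation.isEquiv_iff_val_le_one]
    intro x
    exact (val_algebraMap_le_one_iff hQ x).symm⟩
  have hk' : ∀ c : k', Q.1 (algebraMap k' K' c) ≤ 1 := by
    intro c
    have h3 : IsIntegral k (algebraMap k' K' c) :=
      (Algebra.IsIntegral.isIntegral (R := k) c).map (IsScalarTower.toAlgHom k k' K')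
    exact K661.Place.mem_of_isIntegral Q.O (fun a => Q.2.1 a) h3
  have hadj := Groth.Agent.S12589.result k k' K K' h hK hg P hint Q hk'
  have hfin := finite_residue Q hQpos
  refine dvd_of_forall_pow (IsLocalRing.ResidueField Q.O) (Nat.card k) _ _ Finite.one_lt_card
    (card_residue Q hQpos) fun x => ?_
  have hx : x ∈ Algebra.adjoin (IsLocalRing.ResidueField P.O)
      (Set.range fun c : k' => IsLocalRing.residue Q.O ⟨algebraMap k' K' c, hk' c⟩) := by
    rw [hadj]
    exact Algebra.mem_top
  obtain ⟨p, hp⟩ := CharP.exists k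
  have hpp : Fact p.Prime := ⟨CharP.char_is_prime k p⟩
  have hchar : CharP (IsLocalRing.ResidueField Q.O) p :=
    charP_of_injective_algebraMap (algebraMap k (IsLocalRing.ResidueField Q.O)).injective p
  let _ := Fintype.ofFinite k
  obtain ⟨e, -, he⟩ := FiniteField.card k p
  have hq : Nat.card k = p ^ (e : ℕ) := by rw [Nat.card_eq_fintype_card, he]
  induction hx using Algebra.adjoin_induction with
  | mem x hx =>
    obtain ⟨c, rfl⟩ := hx
    have hfk' : Finite k' := Module.finite_of_finite k
    let _ := Fintype.ofFinite k'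
    obtain ⟨m, rfl⟩ := h1
    have hc : c ^ Nat.card k ^ (Module.finrank k k' * m) = c := by
      have h4 := FiniteField.pow_card_pow m c
      rw [← Nat.card_eq_fintype_card, Module.natCard_eq_pow_finrank (K := k) (V := k'), ← pow_mul] at h4
      exact h4
    change IsLocalRing.residue Q.O ⟨algebraMap k' K' c, hk' c⟩ ^ _ = _
    rw [← map_pow]
    congr 1
    refine Subtype.ext ?_
    change (algebraMap k' K' c) ^ _ = algebraMap k' K' c
    rw [← map_pow, hc]
  | algebraMap r => rw [← map_pow, pow_eq_self P hPpos L h2]
  | add x y _ _ hx hy =>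
    rw [hq, ← pow_mul] at hx hy ⊢
    rw [add_pow_char_pow, hx, hy]
  | mul x y _ _ hx hy => rw [mul_pow, hx, hy]

end

end K775.HnRes
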