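import Groth.Agent.TateGlob.K775.HnSurj
import Groth.Agent.TateGlob.K775.HnRes
import Groth.Agent.S11006
import Groth.Agent.Etbc.H226.Hilbert90
import Mathlib.FieldTheory.Finite.GaloisField
import Mathlib.LinearAlgebra.Determinant

/-!
# The Hasse norm theorem for constant extensions of a global function field

`exists_norm_eq`: `K' = k' ⊗_k K`, `k` finite and algebraically closed in `K`; if `a : K` has at every place the order
of a norm, then `a` is a norm.
-/

set_option autoImplicit false
set_option linter.unusedSectionVars false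
universe u v
open FunFld WithZero K661.Place K660.Places K661.Galois K662.Galois K775.HnPic TensorProduct

namespace K775.HnNorm

variable {k k' : Type u} {K K' : Type v} [Field k] [Field k'] [Field K] [Field K']
    [Algebra k k'] [FiniteDimensional k k'] [Algebra k K] [Algebra K K'] [Algebra k' K'] [Algebra k K']
    [IsScalarTower k k' K'] [IsScalarTower k K K'] [Finite k]
    (h : Function.Bijective (Algebra.TensorProduct.productMap
      (IsScalarTower.toAlgHom k k' K') (IsScalarTower.toAlgHom k K K')))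

include h in
theorem exists_equiv : ∃ e : K ⊗[k] k' ≃ₐ[K] K', ∀ c : k', e (1 ⊗ₜ c) = algebraMap k' K' c := by
  let Φ : K ⊗[k] k' →ₐ[K] K' := Algebra.TensorProduct.lift (Algebra.ofId K K')
    (IsScalarTower.toAlgHom k k' K') (fun _ _ => Commute.all _ _)
  have hΦ : ∀ x : K ⊗[k] k', Φ x = Algebra.TensorProduct.productMap
      (IsScalarTower.toAlgHom k k' K') (IsScalarTower.toAlgHom k K K') (Algebra.TensorProduct.comm k K k' x) := by
    intro x
    induction x using TensorProduct.induction_on with
    | zero => simp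
    | tmul a b =>
      rw [Algebra.TensorProduct.comm_tmul, Algebra.TensorProduct.productMap_apply_tmul,
        Algebra.TensorProduct.lift_tmul, mul_comm]
      rfl
    | add x y hx hy => rw [map_add, hx, hy, map_add, map_add]
  have hb : Function.Bijective Φ := by
    have h1 : (Φ : K ⊗[k] k' → K') = (Algebra.TensorProduct.productMap
      (IsScalarTower.toAlgHom k k' K') (IsScalarTower.toAlgHom k K K')) ∘
        (Algebra.TensorProduct.comm k K k') := funext hΦ
    rw [h1]
    exact h.comp (Algebra.TensorProduct.comm k K k').bijective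
  refine ⟨AlgEquiv.ofBijective Φ hb, fun c => ?_⟩
  change Φ (1 ⊗ₜ c) = _
  simp [Φ]

include h in
theorem finrank_eq : Module.finrank K K' = Module.finrank k k' := by
  obtain ⟨e, -⟩ := exists_equiv h
  rw [← e.toLinearEquiv.finrank_eq, Module.finrank_baseChange]

include h in
theorem norm_algebraMap (c : k') :
    Algebra.norm K (algebraMap k' K' c) = algebraMap k K (Algebra.norm k c) := by
  obtain ⟨e, he⟩ := exists_equiv h
  rw [← he, Algebra.norm_eq_of_algEquiv, Algebra.norm_apply, Algebra.norm_apply, ← LinearMap.det_baseChange]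
  congr 1
  ext v
  simp

include h in
theorem exists_frob : ∃ σ : K' ≃ₐ[K] K', ∀ c : k', σ (algebraMap k' K' c) = algebraMap k' K' (c ^ Nat.card k) := by
  obtain ⟨e, he⟩ := exists_equiv h
  let _ := Fintype.ofFinite k
  let θ : K ⊗[k] k' ≃ₐ[K] K ⊗[k] k' := Algebra.TensorProduct.congr (AlgEquiv.refl : K ≃ₐ[K] K)
    (FiniteField.frobeniusAlgEquivOfAlgebraic k k')
  have hθ : ∀ c : k', θ (1 ⊗ₜ c) = 1 ⊗ₜ (c ^ Nat.card k) := by
    intro c
    change (Algebra.TensorProduct.congr (AlgEquiv.refl : K ≃ₐ[K] K)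
      (FiniteField.frobeniusAlgEquivOfAlgebraic k k')) ((1 : K) ⊗ₜ[k] c) = _
    rw [Algebra.TensorProduct.congr_apply, Algebra.TensorProduct.map_tmul]
    simp
  refine ⟨(e.symm.trans θ).trans e, fun c => ?_⟩
  rw [← he, ← he, AlgEquiv.trans_apply, AlgEquiv.trans_apply, AlgEquiv.symm_apply_apply, hθ]

theorem pow_frob {σ : K' ≃ₐ[K] K'} (hσ : ∀ c : k', σ (algebraMap k' K' c) = algebraMap k' K' (c ^ Nat.card k))
    (j : ℕ) (c : k') : (σ ^ j) (algebraMap k' K' c) = algebraMap k' K' (c ^ Nat.card k ^ j) := by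
  induction j generalizing c with
  | zero => simp
  | succ j ih =>
    rw [pow_succ, AlgEquiv.mul_apply, hσ, ih, ← pow_mul, pow_succ, mul_comm]

include h in
theorem mem_zpowers [IsGalois K K'] {σ : K' ≃ₐ[K] K'}
    (hσ : ∀ c : k', σ (algebraMap k' K' c) = algebraMap k' K' (c ^ Nat.card k)) (τ : K' ≃ₐ[K] K') :
    τ ∈ Subgroup.zpowers σ := by
  have hfd : FiniteDimensional K K' := HnRes.finiteDimensional h
  have hf' : Finite k' := Module.finite_of_finite k
  have h1 : Nat.card (K' ≃ₐ[K] K') = Module.finrank k k' := by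
    rw [IsGalois.card_aut_eq_finrank, finrank_eq h]
  have h2 : Module.finrank k k' ∣ orderOf σ := by
    refine HnRes.dvd_of_forall_pow k' (Nat.card k) _ _ Finite.one_lt_card Module.natCard_eq_pow_finrank fun c => ?_
    have h3 := pow_frob hσ (orderOf σ) c
    rw [pow_orderOf_eq_one] at h3
    exact ((algebraMap k' K').injective h3).symm
  have h3 : orderOf σ = Nat.card (K' ≃ₐ[K] K') := by
    rw [h1]
    exact Nat.dvd_antisymm (by rw [← h1]; exact orderOf_dvd_natCard σ) h2
  have h4 : Subgroup.zpowers σ = ⊤ := by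
    refine Subgroup.eq_top_of_card_eq _ ?_
    rw [Nat.card_zpowers, h3]
  rw [h4]
  exact Subgroup.mem_top τ

include h in
/-- **Hasse norm theorem for constant extensions.** -/
theorem exists_norm_eq (hK : IsFunctionField k K) [IsGalois K K'] (a : K) (ha : a ≠ 0)
    (hloc : ∀ P : Place k K, ∃ b : K', b ≠ 0 ∧ P.ord (Algebra.norm K b) = P.ord a) :
    ∃ b : K', Algebra.norm K b = a := by
  classical
  have hfd : FiniteDimensional K K' := HnRes.finiteDimensional h
  have hf' : Finite k' := Module.finite_of_finite k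
  have hG := exists_isGen hK
  have hG' : ∃ t : K', IsGen k K' t := K662.Conorm.exists_isGen' hG
  have hK' : IsFunctionField k' K' :=
    (Groth.Agent.S11006.result k k' K K' h hK (Groth.Agent.S11000.result k K hK)).1
  obtain ⟨σ, hσ⟩ := exists_frob h
  have hgen := mem_zpowers h hσ
  have hun : ∀ (Q : Place k K') (P : Place k K), IsOver Q P → IsOverWith Q P 1 :=
    fun Q P hQ => HnRes.isOverWith_one h hK hQ
  -- constants are norms
  have hconst : ∀ c : k, ∃ c' : k', Algebra.norm K (algebraMap k' K' c') = algebraMap k K c := by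
    intro c
    obtain ⟨c', hc'⟩ := FiniteField.norm_surjective k k' c
    exact ⟨c', by rw [norm_algebraMap h, hc']⟩
  have hdivc : ∀ c' : k', div k (algebraMap k' K' c') = 0 := by
    intro c'
    ext Q
    rw [K662.Conorm.div_apply hG', Finsupp.zero_apply]
    exact K660.Ord.ord_algebraMap (HnSurj.pE (k' := k') Q) c'
  have hnormc : ∀ y : K', div k (Algebra.norm K y) = 0 → y ≠ 0 →
      ∃ c' : k', c' ≠ 0 ∧ Algebra.norm K (algebraMap k' K' c') = Algebra.norm K y := by
    intro y hy hy0
    have h1 : Algebra.norm K y ∈ Set.range (algebraMap k K) := by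
      refine mem_range_of_forall_le hK fun P => ?_
      rw [K660.Ord.val_le_one_iff P (Algebra.norm_ne_zero_iff.2 hy0), ← K662.Conorm.div_apply hG, hy]
      exact le_rfl
    obtain ⟨c, hc⟩ := h1
    obtain ⟨c', hc'⟩ := hconst c
    refine ⟨c', ?_, by rw [hc', hc]⟩
    rintro rfl
    rw [map_zero, Algebra.norm_zero, hc] at hc'
    exact Algebra.norm_ne_zero_iff.2 hy0 hc'.symm
  have hdeg0 : ∀ y : K', (div k y).deg = 0 := fun y => deg_div hG (fun x => K660.Compare.deg_div hK x) y
  -- the divisor of `a` is the norm of a divisor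
  have hD : ∃ D : Divisor k K', Nm k K K' D = div k a := by
    have h1 : ∀ P : Place k K, ∃ D : Divisor k K', Nm k K K' D = Finsupp.single P (P.ord a) := by
      intro P
      obtain ⟨b, hb0, hb⟩ := hloc P
      obtain ⟨Q, hQ⟩ := K661.OverFF.exists_over (K' := K') hG P
      have hfin := K661.OverFF.finite_over (K' := K') hG P
      have hQs : ∀ Q : Place k K', Q ∈ hfin.toFinset ↔ IsOver Q P := fun Q => by simp
      have h2 := K662.Norm.ord_norm hG P b hfin.toFinset hQs
      have h3 : ∀ Q' ∈ hfin.toFinset, (Q'.deg : ℤ) * Q'.ord b =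
          (P.deg : ℤ) * (fd (K := K) Q * Q'.ord b) := by
        intro Q' hQ'
        rw [deg_eq_of_isOver hQ ((hQs Q').1 hQ'), ← fd_mul hG Q, pi_eq hQ]
        push_cast
        ring
      rw [Finset.sum_congr rfl h3, ← Finset.mul_sum, ← Finset.mul_sum, hb] at h2
      have hP : (P.deg : ℤ) ≠ 0 := by
        have := deg_pos hG P
        positivity
      have h4 := mul_left_cancel₀ hP h2
      refine ⟨Finsupp.single Q (∑ Q' ∈ hfin.toFinset, Q'.ord b), ?_⟩
      rw [Nm_single, pi_eq hQ, h4]
    choose r hr using h1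
    refine ⟨∑ P ∈ (div k a).support, r P, ?_⟩
    rw [map_sum]
    refine Eq.trans (Finset.sum_congr rfl fun P _ => ?_) (Finsupp.sum_single (div k a))
    rw [hr, K662.Conorm.div_apply hG]
  obtain ⟨D, hD⟩ := hD
  have hDdeg : D.deg = 0 := by
    rw [← deg_Nm hG D, hD]
    exact K660.Compare.deg_div hK a
  have hn : 1 ≤ Module.finrank k k' := Module.finrank_pos
  -- the class of `D` is `σ y - y`
  obtain ⟨y, hy, hyD⟩ := HnGrp.exists_of_mem (degHom k K').ker (prinDivs k K') (degHom k K).ker (prinDivs k K)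
    (HnSurj.finite_cl (k' := k') hK' hG') (Groth.Agent.S11037.result k K hK).1 (sA σ)
    (fun x hx => by
      rw [AddMonoidHom.mem_ker, degHom_eq] at hx ⊢
      rw [deg_sA hG, hx])
    (fun x hx => by
      obtain ⟨b, hb, rfl⟩ := (mem_prinDivs_iff hG').1 hx
      rw [sA_div hG]
      exact (mem_prinDivs_iff hG').2 ⟨σ b, by simpa using hb, rfl⟩)
    (Nm k K K')
    (fun x hx => by
      rw [AddMonoidHom.mem_ker, degHom_eq] at hx ⊢
      rw [deg_Nm hG, hx])
    (fun x hx => by
      obtain ⟨b, hb, rfl⟩ := (mem_prinDivs_iff hG').1 hx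
      rw [Nm_div hG]
      exact (mem_prinDivs_iff hG).2 ⟨_, Algebra.norm_ne_zero_iff.2 hb, rfl⟩)
    (fun x => Nm_sA σ x)
    (fun z hz => by
      obtain ⟨x, hx, hxz⟩ := HnSurj.exists_Nm_sub_mem (K' := K') hK (Module.finrank k k') hn
        (fun Q P hQ L h1 h2 => HnRes.deg_dvd_lcm h hK hQ (deg_pos hG P) (deg_pos hG' Q) h1 h2) z hz
      exact ⟨x, hx, hxz⟩)
    (K666.Conorm.cHom k K K')
    (fun z hz => by
      rw [AddMonoidHom.mem_ker, degHom_eq] at hz ⊢
      rw [K666.Conorm.cHom_apply, K662.Conorm.deg_conorm hG, hz, mul_zero])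
    (fun z hz => by
      obtain ⟨b, hb, rfl⟩ := (mem_prinDivs_iff hG).1 hz
      rw [K666.Conorm.cHom_apply, ← K662.Conorm.div_algebraMap hG]
      exact (mem_prinDivs_iff hG').2 ⟨algebraMap K K' b, by simpa using hb, rfl⟩)
    (fun x hx hxs => by
      rw [AddMonoidHom.mem_ker, degHom_eq] at hx
      obtain ⟨b, hb, hbx⟩ := (mem_prinDivs_iff hG').1 hxs
      have h1 : div k (Algebra.norm K b) = 0 := by
        rw [← Nm_div hG, hbx, map_sub, Nm_sA, sub_self]
      obtain ⟨c', hc'0, hc'⟩ := hnormc b h1 hb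
      have h2 : Algebra.norm K (b * (algebraMap k' K' c')⁻¹) = 1 := by
        rw [map_mul, Algebra.norm_inv, hc', mul_inv_cancel₀ (Algebra.norm_ne_zero_iff.2 hb)]
      obtain ⟨w, hw⟩ := Groth.Agent.Etbc.H226.Hilbert90.exists_div hgen h2
      have hw0 : (w : K') ≠ 0 := w.ne_zero
      have hσw0 : σ (w : K') ≠ 0 := by simp
      have hcc : (algebraMap k' K' c') ≠ 0 := by simpa using hc'0
      have h3 : div k b = div k (w : K') - sA σ (div k (w : K')) := by
        have h4 : b * σ (w : K') = (w : K') * algebraMap k' K' c' := by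
          field_simp at hw
          rw [hw, mul_comm]
        have h5 := congrArg (div k) h4
        rw [div_mul hG' hb hσw0, div_mul hG' hw0 hcc, hdivc, add_zero] at h5
        rw [sA_div hG, ← h5, add_sub_cancel_right]
      have h6 : sA σ (x + div k (w : K')) = x + div k (w : K') := by
        rw [h3] at hbx
        rw [map_add]
        have h7 : sA σ x = x + (div k (w : K') - sA σ (div k (w : K'))) := by
          rw [hbx]; abel
        rw [h7]
        abel
      obtain ⟨E, hE⟩ := exists_conorm_eq hG hgen hun _ h6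
      refine ⟨E, ?_, ?_⟩
      · rw [AddMonoidHom.mem_ker, degHom_eq]
        have h7 := K662.Conorm.deg_conorm (K' := K') hG E
        rw [hE, K660.Compare.deg_add, hx, hdeg0, add_zero] at h7
        have h8 : (Module.finrank K K' : ℤ) ≠ 0 := by
          have : 0 < Module.finrank K K' := Module.finrank_pos
          positivity
        exact (mul_eq_zero.1 h7.symm).resolve_left h8
      · rw [K666.Conorm.cHom_apply, hE]
        have h7 : x - (x + div k (w : K')) = div k (w : K')⁻¹ := by
          rw [div_inv hG']; abel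
        rw [h7]
        exact (mem_prinDivs_iff hG').2 ⟨_, inv_ne_zero hw0, rfl⟩)
    D hDdeg (by rw [hD]; exact (mem_prinDivs_iff hG).2 ⟨a, ha, rfl⟩)
  obtain ⟨b, hb, hbD⟩ := (mem_prinDivs_iff hG').1 hyD
  -- `a` and the norm of `b` have the same divisor
  have h1 : div k (Algebra.norm K b) = div k a := by
    rw [← Nm_div hG, hbD, map_sub, map_sub, Nm_sA, sub_self, sub_zero, hD]
  have hNb : Algebra.norm K b ≠ 0 := Algebra.norm_ne_zero_iff.2 hb
  have h2 : a * (Algebra.norm K b)⁻¹ ∈ Set.range (algebraMap k K) := by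
    refine mem_range_of_forall_le hK fun P => ?_
    rw [K660.Ord.val_le_one_iff P (mul_ne_zero ha (inv_ne_zero hNb)), ← K662.Conorm.div_apply hG,
      div_mul hG ha (inv_ne_zero hNb), div_inv hG, h1]
    simp
  obtain ⟨c, hc⟩ := h2
  obtain ⟨c', hc'⟩ := hconst c
  refine ⟨algebraMap k' K' c' * b, ?_⟩
  rw [map_mul, hc', hc, inv_mul_cancel_right₀ hNb]

end K775.HnNorm
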