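import Groth.Agent.TateGlob.K775.HnGrp
import Groth.Agent.FunFld.K662.Norm
import Groth.Agent.FunFld.K662.Galois
import Groth.Agent.FunFld.K662.Conorm
import Groth.Agent.FunFld.K660.Compare
import Groth.Prelude.Def_W4bk4goldsch45

/-!
# The norm of divisors in a finite extension of function fields

`K'/K` finite, `K` finite over `k(t)` (`IsGen`); the constant fields may be bigger than `k`.
* `Nm : Divisor k K' →+ Divisor k K`, `deg_Nm`, `Nm_div`;
* `sA σ`: the action of an automorphism, `sA_div`, `Nm_sA`;
* `exists_conorm_eq`: in the unramified cyclic case the invariant divisors are conorms.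
-/

set_option autoImplicit false
set_option linter.unusedSectionVars false
open FunFld WithZero K661.Place K660.Places K661.Galois K662.Galois

namespace K775.HnPic

variable {k K K' : Type*} [Field k] [Field K] [Field K'] [Algebra k K] [Algebra K K'] [Algebra k K']
  [IsScalarTower k K K'] [FiniteDimensional K K'] (hG : ∃ t : K, IsGen k K t)

theorem ord_mul (P : Place k K) {x y : K} (hx : x ≠ 0) (hy : y ≠ 0) : P.ord (x * y) = P.ord x + P.ord y :=
  K660.Ord.ord_mul P hx hy

include hG in
theorem div_mul {x y : K} (hx : x ≠ 0) (hy : y ≠ 0) : div k (x * y) = div k x + div k y := by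
  ext P
  rw [Finsupp.add_apply, K662.Conorm.div_apply hG, K662.Conorm.div_apply hG, K662.Conorm.div_apply hG, ord_mul P hx hy]

include hG in
theorem div_inv (x : K) : div k x⁻¹ = -div k x := by
  ext P
  rw [Finsupp.neg_apply, K662.Conorm.div_apply hG, K662.Conorm.div_apply hG, K660.Ord.ord_inv]

include hG in
theorem div_zero : div k (0 : K) = 0 := by
  ext P
  rw [Finsupp.zero_apply, K662.Conorm.div_apply hG, K660.Ord.ord_zero]

include hG in
theorem mem_prinDivs_iff {D : Divisor k K} : D ∈ prinDivs k K ↔ ∃ x : K, x ≠ 0 ∧ div k x = D := by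
  constructor
  · intro h
    unfold prinDivs at h
    induction h using AddSubgroup.closure_induction with
    | mem D hD =>
      obtain ⟨x, rfl⟩ := hD
      by_cases hx : x = 0
      · subst hx
        refine ⟨1, one_ne_zero, ?_⟩
        rw [div_zero hG]
        ext P
        rw [Finsupp.zero_apply, K662.Conorm.div_apply hG, K660.Ord.ord_one]
      · exact ⟨x, hx, rfl⟩
    | zero =>
      refine ⟨1, one_ne_zero, ?_⟩
      ext P
      rw [Finsupp.zero_apply, K662.Conorm.div_apply hG, K660.Ord.ord_one]
    | add D E _ _ hD hE =>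
      obtain ⟨x, hx, rfl⟩ := hD
      obtain ⟨y, hy, rfl⟩ := hE
      exact ⟨x * y, mul_ne_zero hx hy, div_mul hG hx hy⟩
    | neg D _ hD =>
      obtain ⟨x, hx, rfl⟩ := hD
      exact ⟨x⁻¹, inv_ne_zero hx, div_inv hG x⟩
  · rintro ⟨x, -, rfl⟩
    exact AddSubgroup.subset_closure ⟨x, rfl⟩

theorem degHom_eq (D : Divisor k K) : degHom k K D = D.deg := rfl

include hG in
theorem deg_pos (P : Place k K) : 0 < P.deg := by
  rw [(K660.Compare.finite_residue_and_degG hG P).2]
  have h1 := (K660.Compare.finite_residue_and_degG hG P).1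
  have h2 : 0 < P.deg := by
    unfold Place.deg
    exact Module.finrank_pos
  rwa [(K660.Compare.finite_residue_and_degG hG P).2] at h2

/-- The place below. -/
noncomputable def pi (Q : Place k K') : Place k K := (exists_below (K := K) Q).choose

theorem isOver_pi (Q : Place k K') : IsOver Q (pi (K := K) Q) := (exists_below (K := K) Q).choose_spec

theorem pi_eq {Q : Place k K'} {P : Place k K} (h : IsOver Q P) : pi Q = P := below_unique (isOver_pi Q) h

/-- The residue degree. -/
noncomputable def fd (Q : Place k K') : ℕ := Q.deg / (pi (K := K) Q).deg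

include hG in
theorem fd_mul (Q : Place k K') : fd (K := K) Q * (pi (K := K) Q).deg = Q.deg := by
  obtain ⟨f, -, hf⟩ := K661.OverFF.exists_deg_eq hG (isOver_pi (K := K) Q)
  unfold fd
  rw [hf, Nat.mul_div_cancel _ (deg_pos hG _)]

variable (k K K') in
/-- The norm of divisors. -/
noncomputable def Nm : Divisor k K' →+ Divisor k K :=
  Finsupp.liftAddHom fun Q =>
    (Finsupp.singleAddHom (pi (K := K) Q)).comp (AddMonoidHom.mulLeft (fd (K := K) Q : ℤ))

theorem Nm_single (Q : Place k K') (m : ℤ) :
    Nm k K K' (Finsupp.single Q m) = Finsupp.single (pi Q) ((fd (K := K) Q : ℤ) * m) := by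
  unfold Nm
  rw [Finsupp.liftAddHom_apply_single]
  rfl

include hG in
theorem mul_Nm_apply (D : Divisor k K') (P : Place k K) (Qs : Finset (Place k K'))
    (hQs : ∀ Q, Q ∈ Qs ↔ IsOver Q P) : (P.deg : ℤ) * Nm k K K' D P = ∑ Q ∈ Qs, (Q.deg : ℤ) * D Q := by
  classical
  induction D using Finsupp.induction_linear with
  | zero => simp
  | add D E hD hE =>
    rw [map_add, Finsupp.add_apply, mul_add, hD, hE, ← Finset.sum_add_distrib]
    refine Finset.sum_congr rfl fun Q _ => ?_
    rw [Finsupp.add_apply, mul_add]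
  | single Q m =>
    rw [Nm_single, Finsupp.single_apply]
    by_cases h : IsOver Q P
    · rw [if_pos (pi_eq h), Finset.sum_eq_single Q]
      · have h1 := fd_mul hG Q
        rw [pi_eq h] at h1
        rw [Finsupp.single_eq_same, ← h1]
        push_cast
        ring
      · intro Q' _ hne
        rw [Finsupp.single_eq_of_ne hne, mul_zero]
      · intro hQ
        exact absurd ((hQs Q).2 h) hQ
    · have h1 : pi Q ≠ P := by
        rintro rfl
        exact h (isOver_pi Q)
      rw [if_neg h1, mul_zero]
      refine (Finset.sum_eq_zero fun Q' hQ' => ?_).symm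
      have hne : Q' ≠ Q := by
        rintro rfl
        exact h ((hQs _).1 hQ')
      rw [Finsupp.single_eq_of_ne hne, mul_zero]

include hG in
theorem deg_Nm (D : Divisor k K') : (Nm k K K' D).deg = D.deg := by
  induction D using Finsupp.induction_linear with
  | zero => rw [map_zero, K660.Compare.deg_zero, K660.Compare.deg_zero]
  | add D E hD hE => rw [map_add, K660.Compare.deg_add, K660.Compare.deg_add, hD, hE]
  | single Q m =>
    rw [Nm_single, K660.Compare.deg_single, K660.Compare.deg_single, ← fd_mul hG Q]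
    push_cast
    ring

include hG in
theorem Nm_div (y : K') : Nm k K K' (div k y) = div k (Algebra.norm K y) := by
  classical
  ext P
  have hfin := K661.OverFF.finite_over (K' := K') hG P
  have hQs : ∀ Q : Place k K', Q ∈ hfin.toFinset ↔ IsOver Q P := fun Q => by simp
  have h1 := mul_Nm_apply hG (div k y) P hfin.toFinset hQs
  have h2 := K662.Norm.ord_norm hG P y hfin.toFinset hQs
  have hP : (P.deg : ℤ) ≠ 0 := by
    have := deg_pos hG P
    positivity
  rw [K662.Conorm.div_apply hG]
  refine mul_left_cancel₀ hP ?_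
  rw [h1, h2]
  refine Finset.sum_congr rfl fun Q _ => ?_
  rw [K662.Conorm.div_apply (K662.Conorm.exists_isGen' hG)]

/-- The action of an automorphism on places. -/
def eP (σ : K' ≃ₐ[K] K') : Place k K' ≃ Place k K' where
  toFun Q := comapEquiv Q σ
  invFun Q := comapEquiv Q σ⁻¹
  left_inv Q := by
    change comapEquiv (comapEquiv Q σ) σ⁻¹ = Q
    rw [comapEquiv_mul, mul_inv_cancel, comapEquiv_one]
  right_inv Q := by
    change comapEquiv (comapEquiv Q σ⁻¹) σ = Q
    rw [comapEquiv_mul, inv_mul_cancel, comapEquiv_one]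

/-- The action of an automorphism on divisors. -/
noncomputable def sA (σ : K' ≃ₐ[K] K') : Divisor k K' →+ Divisor k K' :=
  (Finsupp.domCongr (eP (k := k) σ).symm).toAddMonoidHom

theorem sA_apply (σ : K' ≃ₐ[K] K') (D : Divisor k K') (Q : Place k K') :
    sA σ D Q = D (comapEquiv Q σ) := rfl

include hG in
theorem sA_div (σ : K' ≃ₐ[K] K') (y : K') : sA σ (div k y) = div k (σ y) := by
  ext Q
  rw [sA_apply, K662.Conorm.div_apply (K662.Conorm.exists_isGen' hG),
    K662.Conorm.div_apply (K662.Conorm.exists_isGen' hG)]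
  rfl

theorem sA_single (σ : K' ≃ₐ[K] K') (Q : Place k K') (m : ℤ) :
    sA σ (Finsupp.single Q m) = Finsupp.single (comapEquiv Q σ⁻¹) m := by
  classical
  ext Q'
  rw [sA_apply, Finsupp.single_apply, Finsupp.single_apply]
  congr 1
  apply propext
  constructor
  · rintro rfl
    rw [comapEquiv_mul, mul_inv_cancel, comapEquiv_one]
  · rintro rfl
    rw [comapEquiv_mul, inv_mul_cancel, comapEquiv_one]

theorem pi_comapEquiv (Q : Place k K') (σ : K' ≃ₐ[K] K') : pi (K := K) (comapEquiv Q σ) = pi Q :=
  pi_eq (isOver_comapEquiv σ (isOver_pi Q))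

theorem fd_comapEquiv (Q : Place k K') (σ : K' ≃ₐ[K] K') : fd (K := K) (comapEquiv Q σ) = fd (K := K) Q := by
  unfold fd
  rw [pi_comapEquiv, deg_comapEquiv]

theorem Nm_sA (σ : K' ≃ₐ[K] K') (D : Divisor k K') : Nm k K K' (sA σ D) = Nm k K K' D := by
  induction D using Finsupp.induction_linear with
  | zero => rw [map_zero, map_zero]
  | add D E hD hE => rw [map_add, map_add, map_add, hD, hE]
  | single Q m => rw [sA_single, Nm_single, Nm_single, pi_comapEquiv, fd_comapEquiv]

include hG in
theorem deg_sA (σ : K' ≃ₐ[K] K') (D : Divisor k K') : (sA σ D).deg = D.deg := by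
  rw [← deg_Nm hG, Nm_sA, deg_Nm hG]

include hG in
theorem deg_div (hK : ∀ x : K, (div k x).deg = 0) (y : K') : (div k y).deg = 0 := by
  rw [← deg_Nm hG, Nm_div hG, hK]

include hG in
/-- In an unramified cyclic extension the invariant divisors are conorms. -/
theorem exists_conorm_eq [IsGalois K K'] {σ : K' ≃ₐ[K] K'} (hσ : ∀ τ : K' ≃ₐ[K] K', τ ∈ Subgroup.zpowers σ)
    (hun : ∀ (Q : Place k K') (P : Place k K), IsOver Q P → IsOverWith Q P 1) (D : Divisor k K')
    (hD : sA σ D = D) : ∃ E : Divisor k K, conorm K' E = D := by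
  classical
  -- `D` only depends on the place below
  have h1 : ∀ Q : Place k K', D (comapEquiv Q σ) = D Q := fun Q => by
    rw [← sA_apply, hD]
  have h1' : ∀ Q : Place k K', D (comapEquiv Q σ⁻¹) = D Q := fun Q => by
    rw [← h1 (comapEquiv Q σ⁻¹), comapEquiv_mul, inv_mul_cancel, comapEquiv_one]
  have h2 : ∀ τ : K' ≃ₐ[K] K', ∀ Q : Place k K', D (comapEquiv Q τ) = D Q := by
    intro τ
    obtain ⟨n, rfl⟩ := hσ τ
    change ∀ Q : Place k K', D (comapEquiv Q (σ ^ n)) = D Q
    induction n using Int.induction_on with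
    | zero => intro Q; rw [zpow_zero, comapEquiv_one]
    | succ n ih => intro Q; rw [zpow_add_one, ← comapEquiv_mul, h1, ih]
    | pred n ih => intro Q; rw [zpow_sub_one, ← comapEquiv_mul, h1', ih]
  have h3 : ∀ {Q Q' : Place k K'} {P : Place k K}, IsOver Q P → IsOver Q' P → D Q' = D Q := by
    intro Q Q' P hQ hQ'
    obtain ⟨τ, rfl⟩ := exists_comapEquiv_eq hQ hQ'
    exact h2 τ Q
  have hex : ∀ P : Place k K, ∃ Q : Place k K', IsOver Q P := fun P => K661.OverFF.exists_over hG P
  choose r hr using hex
  have hri : Function.Injective r := by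
    intro P P' h
    have h4 := hr P
    rw [h] at h4
    exact below_unique h4 (hr P')
  let E : Divisor k K := D.comapDomain r hri.injOn
  refine ⟨E, ?_⟩
  ext Q
  rw [K662.Conorm.conorm_apply hG E (isOver_pi Q), ramIdx_eq (hun Q _ (isOver_pi Q))]
  change ((1 : ℕ) : ℤ) * D (r (pi Q)) = D Q
  rw [Nat.cast_one, one_mul]
  exact h3 (isOver_pi Q) (hr _)

end K775.HnPic
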