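import Groth.Agent.TateGlob.K775.HnCount
import Groth.Agent.FunFld.K663.Main

/-!
# A character of the class group which kills the norms from a constant extension is trivial in degree zero

* `false_of_growth`: a twisted zeta function which is a polynomial, and for which the twisted number of points over
  the extensions of degree divisible by `n` is the usual one, contradicts the growth of the number of points;
* `eq_zero`: the statement on an abstract curve;
* `eq_zero'`: the statement for `FunFld`.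
-/

set_option autoImplicit false

namespace K775.HnTw

open Groth.Agent.Models.FFRR Groth.Agent.Models.FFRR.Crv Groth.Agent.MiscA WithZero K775.HnCount
open Groth.Agent.MiscA.ZetaCrv (prin)
open PowerSeries

section Comb

variable {X : Type*} (deg : X → ℕ) (hdeg : ∀ P, 0 < deg P) (hfin : ∀ d, Finite {P : X // deg P = d})

include hdeg hfin in
theorem exists_beta (w : X → ℂ) (M : ℕ) (hM : ∀ m, M < m → Aw deg w m = 0) :
    ∃ β : _root_.Fin M → ℂ, ∀ i : ℕ, 1 ≤ i → Nw deg w i = - ∑ j, β j ^ i := by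
  let P : Polynomial ℂ := trunc (M + 1) (mk fun n => Aw deg w n)
  have hPcoe : (P : ℂ⟦X⟧) = mk fun n => Aw deg w n := by
    ext n
    rw [Polynomial.coeff_coe, coeff_trunc]
    split_ifs with h1
    · rfl
    · rw [coeff_mk]
      exact (hM n (by omega)).symm
  have hPc : ∀ n, P.coeff n = Aw deg w n := by
    intro n
    rw [← Polynomial.coeff_coe, hPcoe, coeff_mk]
  have hPdeg : P.natDegree ≤ M := by
    rw [Polynomial.natDegree_le_iff_coeff_eq_zero]
    intro n hn
    rw [hPc, hM n hn]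
  have hP0 : P.coeff 0 = 1 := by rw [hPc, Aw_zero deg w hdeg]
  let R : Polynomial ℂ := P.reflect M
  have hRdeg : R.natDegree ≤ M := (Polynomial.natDegree_reflect_le).trans (max_le le_rfl hPdeg)
  have hRtop : R.coeff M = 1 := by
    rw [Polynomial.coeff_reflect, Polynomial.revAt_le le_rfl, Nat.sub_self, hP0]
  have hRmonic : R.Monic := Polynomial.monic_of_natDegree_le_of_coeff_eq_one _ hRdeg hRtop
  have hRdeg' : R.natDegree = M :=
    le_antisymm hRdeg (Polynomial.le_natDegree_of_ne_zero (by rw [hRtop]; exact one_ne_zero))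
  obtain ⟨β, hβ, -⟩ := ZetaAbsCx.exists_roots R M hRmonic hRdeg'
  have hPprod : P = ∏ i, (1 - Polynomial.C (β i) * Polynomial.X) := by
    rw [← ZetaAbsCx.reflect_prod, ← hβ]
    change _ = (P.reflect M).reflect M
    rw [Polynomial.reflect_reflect]
  refine ⟨β, ?_⟩
  have hPs : (mk fun n => Aw deg w n : ℂ⟦X⟧) = ∏ i, (1 - C (β i) * PowerSeries.X : ℂ⟦X⟧) := by
    rw [← hPcoe, hPprod, K663.Roots.prod_coe]
  have L1 : ZetaAbsCx.LogD (mk fun n => Aw deg w n : ℂ⟦X⟧)
      (mk fun n => if n = 0 then 0 else - ∑ i, β i ^ n) := by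
    rw [hPs]
    exact K663.Roots.logD_prod β
  have hne : (mk fun n => Aw deg w n : ℂ⟦X⟧) ≠ 0 := by
    intro h0
    have h1 := congrArg (coeff 0) h0
    rw [coeff_mk, Aw_zero deg w hdeg, map_zero] at h1
    exact one_ne_zero h1
  have heq := ZetaAbsCx.LogD.unique hne (logD_Aw deg w hdeg hfin) L1
  intro i hi
  have h2 := congrArg (coeff i) heq
  have hi0 : i ≠ 0 := by omega
  simpa only [coeff_mk, if_neg hi0] using h2

include hfin in
theorem Nw_eq_N (w : X → ℂ) (i : ℕ) (hi : 1 ≤ i) (hw : ∀ P, deg P ∣ i → w P ^ (i / deg P) = 1) :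
    Nw deg w i = ZetaAbsCount.N deg i := by
  rw [Nw_eq deg w hfin i i hi le_rfl, ZetaAbsCount.N_eq deg hfin i i hi le_rfl]
  push_cast
  refine Finset.sum_congr rfl fun P _ => ?_
  split_ifs with h
  · rw [hw P h, mul_one]
  · rfl

include hdeg hfin in
theorem false_of_growth (q n : ℕ) (hq : 2 ≤ q) (hn : 1 ≤ n) (c : ℝ)
    (hc : ∀ n : ℕ, 1 ≤ n → |(ZetaAbsCount.N deg n : ℝ) - q ^ n| ≤ c * Real.sqrt q ^ n)
    (w : X → ℂ) (hw : ∀ P i, 1 ≤ i → deg P ∣ i → n ∣ i → w P ^ (i / deg P) = 1) (M : ℕ)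
    (hM : ∀ m, M < m → Aw deg w m = 0) : False := by
  obtain ⟨β, hβ⟩ := exists_beta deg hdeg hfin w M hM
  have hq0 : (0 : ℝ) < Real.sqrt q := Real.sqrt_pos.mpr (by positivity)
  have hs : 1 < Real.sqrt q := by
    rw [Real.lt_sqrt (by norm_num)]
    have : (2 : ℝ) ≤ q := by exact_mod_cast hq
    linarith
  have hsq : Real.sqrt q * Real.sqrt q = q := Real.mul_self_sqrt (by positivity)
  let α : _root_.Fin (M + 1) → ℂ := Fin.cons ((q : ℂ) ^ n) fun j => β j ^ n
  have hle : ‖α 0‖ ≤ Real.sqrt q ^ n := by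
    refine ZetaAbsCx.norm_le_of_sum_pow_le α (Real.sqrt q ^ n) c (by positivity) ?_ 0
    intro t ht
    have hnt : 1 ≤ n * t := Nat.mul_pos hn ht
    have h1 : ∑ i, α i ^ t = (q : ℂ) ^ (n * t) - (ZetaAbsCount.N deg (n * t) : ℂ) := by
      rw [Fin.sum_univ_succ]
      have h2 := hβ (n * t) hnt
      rw [Nw_eq_N deg hfin w (n * t) hnt fun P hP => hw P (n * t) hnt hP (dvd_mul_right _ _)] at h2
      rw [h2]
      simp only [α, Fin.cons_zero, Fin.cons_succ, ← pow_mul]
      ring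
    rw [h1, norm_sub_rev, ← pow_mul]
    refine le_trans (le_of_eq ?_) (hc (n * t) hnt)
    rw [← Real.norm_eq_abs, ← Complex.norm_real]
    push_cast
    rfl
  have h0 : ‖α 0‖ = (q : ℝ) ^ n := by
    simp only [α, Fin.cons_zero]
    rw [norm_pow, Complex.norm_natCast]
  rw [h0] at hle
  have h3 : Real.sqrt q ^ n < (q : ℝ) ^ n := by
    refine pow_lt_pow_left₀ ?_ hq0.le (by omega)
    nlinarith
  exact absurd hle (not_le.mpr h3)

end Comb

section Curve

variable {k K X : Type*} [Field k] [Field K] [Algebra k K] {C : Crv k K X} [Finite k] [Nonempty X]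

open K663.ZetaFun in
/-- A character of the divisor group which is trivial on principal divisors and on the norms from the constant
extension of degree `n` is trivial on the divisors of degree zero. -/
theorem eq_zero (hC : C.Fin) (h1 : C.l 0 = 1) (c : ℝ)
    (hc : ∀ n : ℕ, 1 ≤ n → |(ZetaAbsCount.N C.dg0 n : ℝ) - (Nat.card k : ℝ) ^ n| ≤
      c * Real.sqrt (Nat.card k) ^ n) (n : ℕ) (hn : 1 ≤ n)
    (χ : (X →₀ ℤ) →+ Additive ℂˣ) (hχ : ∀ D ∈ prin C, χ D = 0)
    (hP : ∀ (P : X) (i : ℕ), 1 ≤ i → C.dg0 P ∣ i → n ∣ i →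
      χ (Finsupp.single P ((i / C.dg0 P : ℕ) : ℤ)) = 0) (D₀ : X →₀ ℤ) (hD₀ : C.deg D₀ = 0) :
    χ D₀ = 0 := by
  by_contra hne
  have hq : 2 ≤ Nat.card k := Finite.one_lt_card
  obtain ⟨D₁, hD₁⟩ := ZetaAbs.exists_degHom_eq_one C.dg0 (Nat.card k) hq c hc
  rw [K663.ZetaFun.degHom_eq] at hD₁
  refine false_of_growth C.dg0 hC.dg0_pos (ZetaCrv.finite_places hC h1) (Nat.card k) n hq hn c hc
    (wt χ) ?_ (2 * C.i 0) ?_
  · intro P i hi hPi hni
    have h2 := hP P i hi hPi hni
    generalize i / C.dg0 P = m at h2 ⊢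
    have h3 : Finsupp.single P (m : ℤ) = (m : ℤ) • Finsupp.single P (1 : ℤ) := by simp
    rw [h3, map_zsmul] at h2
    have h4 := congrArg (fun x : Additive ℂˣ => ((x.toMul : ℂˣ) : ℂ)) h2
    simpa [wt] using h4
  · intro m hm
    have := finite_Cl hC h1 hD₁ m
    have hmn : 2 * (C.i 0 : ℤ) - 2 < m := by omega
    have hq1 : 0 < Nat.card k - 1 := by omega
    refine Aw_eq_zero C.dg0 hC.dg0_pos (ZetaCrv.finite_places hC h1) (prin C) (degZ_prin hC) χ hχ m
      ((Nat.card k ^ (m + 1 - C.i 0) - 1) / (Nat.card k - 1)) ?_ D₀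
      (by rw [K663.ZetaFun.degHom_eq, hD₀]) hne
    intro cl
    obtain ⟨D, hD⟩ := QuotientAddGroup.mk_surjective cl.1
    have hdegD : C.deg D = m := by
      rw [← K663.ZetaFun.degHom_eq, ← ZetaAbs.degCl_mk C.dg0 (prin C) (degZ_prin hC), hD, cl.2]
    rw [Nat.card_congr (ZetaAbs.fibreEquiv C.dg0 (prin C) (degZ_prin hC) m D cl hD.symm)]
    have h2 := ZetaCrv.card_linearSystem hC h1 D
    have h3 := hC.l_eq h1 (D := D) (by rw [hdegD]; exact hmn)
    rw [hdegD] at h3
    have h4 : C.l D = m + 1 - C.i 0 := by omega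
    rw [h4] at h2
    rw [← h2, Nat.add_sub_cancel, Nat.mul_div_cancel _ hq1]

end Curve

section FF

variable {k K : Type*} [Field k] [Field K] [Algebra k K] [Finite k]

/-- `eq_zero` for function fields. -/
theorem eq_zero' (hK : FunFld.IsFunctionField k K) (n : ℕ) (hn : 1 ≤ n)
    (χ : FunFld.Divisor k K →+ Additive ℂˣ) (hχ : ∀ x : K, x ≠ 0 → χ (FunFld.div k x) = 0)
    (hP : ∀ (P : FunFld.Place k K) (i : ℕ), 1 ≤ i → P.deg ∣ i → n ∣ i →
      χ (Finsupp.single P ((i / P.deg : ℕ) : ℤ)) = 0)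
    (D₀ : FunFld.Divisor k K) (hD₀ : D₀.deg = 0) : χ D₀ = 0 := by
  have h := K663.Bridge.exists_isSep hK
  have hne := K663.Bridge.nonempty_place h
  obtain ⟨c, hc⟩ := K663.Main.growth h hK.2
  refine eq_zero (K663.Bridge.crvF_fin h) (K663.Bridge.l_zero h hK.2) c hc n hn χ ?_ ?_ D₀
    (by rw [← K663.Bridge.deg_eq, hD₀])
  · rintro _ ⟨f, hf, rfl⟩
    rw [← K663.Bridge.div_eq h]
    exact hχ f hf
  · intro P i hi hPi hni
    rw [← K663.Bridge.deg_eq_dg0 h] at hPi ⊢
    exact hP P i hi hPi hni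

end FF

end K775.HnTw
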