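import Groth.Agent.TateGlob.K775.HnPic
import Groth.Agent.TateGlob.K775.HnTw
import Groth.Agent.S11037
import Groth.Agent.FunFld.K661.Residue

/-!
# The norm is surjective on the degree zero divisor classes in a constant extension

* `exists_Nm_sub_mem`: surjectivity of the norm (a character which kills the norms is trivial in degree zero);
* `finite_cl`: finiteness of the degree zero class group of `K'`, over the small constant field.
-/

set_option autoImplicit false
set_option linter.unusedSectionVars false
open FunFld WithZero K661.Place K660.Places K661.Galois K662.Galois K775.HnPic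

namespace K775.HnSurj

section Surj

variable {k K K' : Type*} [Field k] [Field K] [Field K'] [Algebra k K] [Algebra K K'] [Algebra k K']
  [IsScalarTower k K K'] [FiniteDimensional K K'] [Finite k] (hK : IsFunctionField k K)

include hK in
theorem exists_Nm_sub_mem (n : ℕ) (hn : 1 ≤ n)
    (hdeg : ∀ (Q : Place k K') (P : Place k K), IsOver Q P → ∀ L : ℕ, n ∣ L → P.deg ∣ L → Q.deg ∣ L)
    (z : Divisor k K) (hz : z.deg = 0) :
    ∃ x : Divisor k K', x.deg = 0 ∧ Nm k K K' x - z ∈ prinDivs k K := by
  classical
  have hG := exists_isGen hK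
  let H : AddSubgroup (Divisor k K) := prinDivs k K ⊔ (Nm k K K').range
  by_cases hzH : z ∈ H
  · obtain ⟨b, hb, _, ⟨x, rfl⟩, hbx⟩ := AddSubgroup.mem_sup.1 hzH
    have hbd : b.deg = 0 := by
      obtain ⟨y, -, rfl⟩ := (mem_prinDivs_iff hG).1 hb
      exact K660.Compare.deg_div hK y
    refine ⟨x, ?_, ?_⟩
    · rw [← deg_Nm hG x]
      have h1 := K660.Compare.deg_add b (Nm k K K' x)
      rw [hbx, hz, hbd, zero_add] at h1
      exact h1.symm
    · rw [← hbx]
      have h1 : Nm k K K' x - (b + Nm k K K' x) = -b := by abel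
      rw [h1]
      exact (prinDivs k K).neg_mem hb
  · exfalso
    have hne : (z : Divisor k K ⧸ H) ≠ 0 := by
      intro h
      exact hzH ((QuotientAddGroup.eq_zero_iff z).1 h)
    obtain ⟨χ₀, hχ₀⟩ := HnGrp.exists_char hne
    let χ : Divisor k K →+ Additive ℂˣ := χ₀.comp (QuotientAddGroup.mk' H)
    have hχH : ∀ D ∈ H, χ D = 0 := by
      intro D hD
      have h1 : (D : Divisor k K ⧸ H) = 0 := (QuotientAddGroup.eq_zero_iff D).2 hD
      change χ₀ (D : Divisor k K ⧸ H) = 0
      rw [h1, map_zero]
    refine hχ₀ (HnTw.eq_zero' hK n hn χ ?_ ?_ z hz)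
    · intro x hx
      exact hχH _ (AddSubgroup.mem_sup_left (AddSubgroup.subset_closure ⟨x, rfl⟩))
    · intro P i hi hPi hni
      obtain ⟨Q, hQ⟩ := K661.OverFF.exists_over (K' := K') hG P
      obtain ⟨m, hm⟩ := hdeg Q P hQ i hni hPi
      have h1 : Finsupp.single P ((i / P.deg : ℕ) : ℤ) = Nm k K K' (Finsupp.single Q (m : ℤ)) := by
        have h2 := fd_mul hG (K := K) Q
        rw [Nm_single]
        rw [pi_eq hQ] at h2 ⊢
        congr 1
        rw [hm, ← h2]
        have h3 : fd (K := K) Q * P.deg * m = fd (K := K) Q * m * P.deg := by ring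
        rw [h3, Nat.mul_div_cancel _ (deg_pos hG P)]
        push_cast
        ring
      rw [h1]
      exact hχH _ (AddSubgroup.mem_sup_right ⟨_, rfl⟩)

end Surj

section Fin

variable {k k' K' : Type*} [Field k] [Field k'] [Field K'] [Algebra k k'] [Algebra k' K'] [Algebra k K']
  [IsScalarTower k k' K'] [FiniteDimensional k k']

/-- Places over the big and over the small constant field. -/
def pE : Place k K' ≃ Place k' K' where
  toFun Q := ⟨Q.1, fun c => by
    have h3 : IsIntegral k (algebraMap k' K' c) :=
      (Algebra.IsIntegral.isIntegral (R := k) c).map (IsScalarTower.toAlgHom k k' K')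
    exact K661.Place.mem_of_isIntegral Q.O (fun a => Q.2.1 a) h3, Q.2.2⟩
  invFun Q := ⟨Q.1, fun c => by
    rw [IsScalarTower.algebraMap_apply k k' K']
    exact Q.2.1 _, Q.2.2⟩
  left_inv Q := rfl
  right_inv Q := rfl

theorem pE_val (Q : Place k K') : (pE (k' := k') Q).1 = Q.1 := rfl

theorem deg_pE (Q : Place k K') : Q.deg = Module.finrank k k' * (pE (k' := k') Q).deg := by
  let Q' : Place k' K' := pE Q
  have h1 : @Module.finrank k (IsLocalRing.ResidueField Q.O) _ _ (K661.Residue.modAlg Q) = Q.deg :=
    K661.Residue.finrank_alg Q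
  have h2 : @Module.finrank k' (IsLocalRing.ResidueField Q'.O) _ _ (K661.Residue.modAlg Q') = Q'.deg :=
    K661.Residue.finrank_alg Q'
  rw [← h1]
  change _ = Module.finrank k k' * Q'.deg
  rw [← h2]
  have hfree : @Module.Free k' (IsLocalRing.ResidueField Q.O) _ _ Q'.algRes.toModule :=
    @Module.Free.of_divisionRing k' (IsLocalRing.ResidueField Q.O) _ _ Q'.algRes.toModule
  have : @IsScalarTower k k' (IsLocalRing.ResidueField Q.O) Algebra.toSMul Q'.algRes.toSMul Q.algRes.toSMul := by
    refine @IsScalarTower.of_algebraMap_eq k k' (IsLocalRing.ResidueField Q.O) _ _ _ _ Q'.algRes Q.algRes fun c => ?_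
    change IsLocalRing.residue Q.O ⟨algebraMap k K' c, _⟩ = IsLocalRing.residue Q.O ⟨algebraMap k' K' (algebraMap k k' c), _⟩
    congr 1
    apply Subtype.ext
    exact IsScalarTower.algebraMap_apply k k' K' c
  exact (@Module.finrank_mul_finrank k k' (IsLocalRing.ResidueField Q.O) _ _ _ _
    Q'.algRes.toModule Q.algRes.toModule this _ _ _ hfree).symm

/-- Divisors over the big and over the small constant field. -/
noncomputable def dE : Divisor k' K' ≃+ Divisor k K' := Finsupp.domCongr (pE (k := k) (k' := k') (K' := K')).symm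

theorem dE_apply (D : Divisor k' K') (Q : Place k K') : dE (k := k) D Q = D (pE Q) := rfl

theorem deg_dE (D : Divisor k' K') : (dE (k := k) D).deg = Module.finrank k k' * D.deg := by
  induction D using Finsupp.induction_linear with
  | zero => rw [map_zero, K660.Compare.deg_zero, K660.Compare.deg_zero, mul_zero]
  | add D E hD hE => rw [map_add, K660.Compare.deg_add, K660.Compare.deg_add, hD, hE, mul_add]
  | single Q m =>
    have h1 : dE (k := k) (Finsupp.single Q m) = Finsupp.single ((pE (k := k)).symm Q) m := by
      unfold dE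
      rw [Finsupp.domCongr_apply, Finsupp.equivMapDomain_single]
    rw [h1, K660.Compare.deg_single, K660.Compare.deg_single, deg_pE (k' := k') ((pE (k := k)).symm Q),
      Equiv.apply_symm_apply]
    push_cast
    ring

theorem dE_div (hG : ∃ t : K', IsGen k K' t) (hG' : ∃ t : K', IsGen k' K' t) (x : K') :
    dE (k := k) (div k' x) = div k x := by
  ext Q
  rw [dE_apply, K662.Conorm.div_apply hG, K662.Conorm.div_apply hG']
  rfl

/-- Finiteness of the class group over the small constant field. -/
theorem finite_cl [Finite k'] (hK' : IsFunctionField k' K') (hG : ∃ t : K', IsGen k K' t) :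
    Finite ((degHom k K').ker ⧸ (prinDivs k K').addSubgroupOf (degHom k K').ker) := by
  have hG' := exists_isGen hK'
  have hfin := (Groth.Agent.S11037.result k' K' hK').1
  have hn : (Module.finrank k k' : ℤ) ≠ 0 := by
    have : 0 < Module.finrank k k' := Module.finrank_pos
    positivity
  let f : (degHom k' K').ker →+ (degHom k K').ker :=
    ((dE (k := k)).toAddMonoidHom.comp (degHom k' K').ker.subtype).codRestrict _ fun D => by
      have h1 : (D : Divisor k' K').deg = 0 := D.2
      change (dE (k := k) (D : Divisor k' K')).deg = 0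
      rw [deg_dE, h1, mul_zero]
  let F : ((degHom k' K').ker ⧸ (prinDivs k' K').addSubgroupOf (degHom k' K').ker) →+
      ((degHom k K').ker ⧸ (prinDivs k K').addSubgroupOf (degHom k K').ker) :=
    QuotientAddGroup.map _ _ f fun D hD => by
      obtain ⟨x, hx, hxD⟩ := (mem_prinDivs_iff hG').1 (show (D : Divisor k' K') ∈ prinDivs k' K' from hD)
      change dE (k := k) (D : Divisor k' K') ∈ prinDivs k K'
      rw [← hxD, dE_div hG hG']
      exact (mem_prinDivs_iff hG).2 ⟨x, hx, rfl⟩
  refine Finite.of_surjective F ?_
  intro c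
  induction c using QuotientAddGroup.induction_on with
  | H D =>
  have h1 : ((dE (k := k) (k' := k')).symm (D : Divisor k K')).deg = 0 := by
    have h2 := deg_dE (k := k) ((dE (k := k) (k' := k')).symm (D : Divisor k K'))
    rw [AddEquiv.apply_symm_apply] at h2
    have h3 : (D : Divisor k K').deg = 0 := D.2
    rw [h3] at h2
    exact (mul_eq_zero.1 h2.symm).resolve_left hn
  refine ⟨((⟨(dE (k := k) (k' := k')).symm (D : Divisor k K'), h1⟩ : (degHom k' K').ker) :
    (degHom k' K').ker ⧸ (prinDivs k' K').addSubgroupOf (degHom k' K').ker), ?_⟩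
  change ((f _ : (degHom k K').ker) : (degHom k K').ker ⧸ (prinDivs k K').addSubgroupOf (degHom k K').ker) = _
  congr 1
  apply Subtype.ext
  exact (dE (k := k) (k' := k') (K' := K')).apply_symm_apply _

end Fin

end K775.HnSurj
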