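import Groth.Agent.TateGlob.K775.HvProp
import Groth.Agent.TateGlob.K775.AcSys
import Groth.Agent.TateGlob.K775.AcDev
import Groth.Agent.RedSub.H635.GaSm

/-!
# An affine commutative group becomes, over a finite extension, an extension of a finite group by a group with trivial `H¹`
-/

set_option autoImplicit false
universe u
open CategoryTheory CategoryTheory.Limits MonoidalCategory CartesianMonoidalCategory MonObj GrpObj
  AlgebraicGeometry Opposite

set_option linter.unusedVariables false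

noncomputable section

namespace K775.HvLim

open K620.GMod K775.AcSys K775.Hv

section Models

/-- The multiplicative group is flat, separated, finitely presented. -/
theorem props_gm (S : Scheme.{u}) : Flat (Red.Gm S).hom ∧ IsSeparated (Red.Gm S).hom ∧
    LocallyOfFinitePresentation (Red.Gm S).hom ∧ QuasiCompact (Red.Gm S).hom := by
  have h1 : Flat (Red.diag (ULift.{u} ℤ) ℤ).hom := by
    change Flat (Spec.map (CommRingCat.ofHom (algebraMap (ULift.{u} ℤ)
      (MonoidAlgebra (ULift.{u} ℤ) (Multiplicative ℤ)))))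
    rw [HasRingHomProperty.Spec_iff (P := @Flat)]
    change (algebraMap (ULift.{u} ℤ) (MonoidAlgebra (ULift.{u} ℤ) (Multiplicative ℤ))).Flat
    rw [RingHom.flat_algebraMap_iff]
    infer_instance
  have h2 : IsAffineHom (Red.diag (ULift.{u} ℤ) ℤ).hom := by
    change IsAffineHom (Spec.map _)
    infer_instance
  have h3 : LocallyOfFinitePresentation (Red.diag (ULift.{u} ℤ) ℤ).hom := by
    change LocallyOfFinitePresentation (Spec.map (CommRingCat.ofHom (algebraMap (ULift.{u} ℤ)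
      (MonoidAlgebra (ULift.{u} ℤ) (Multiplicative ℤ)))))
    rw [HasRingHomProperty.Spec_iff (P := @LocallyOfFinitePresentation)]
    change (algebraMap (ULift.{u} ℤ) (MonoidAlgebra (ULift.{u} ℤ) (Multiplicative ℤ))).FinitePresentation
    rw [RingHom.finitePresentation_algebraMap]
    have h5 : Algebra.FiniteType (ULift.{u} ℤ) (MonoidAlgebra (ULift.{u} ℤ) (Multiplicative ℤ)) := inferInstance
    have h6 : IsNoetherianRing (ULift.{u} ℤ) :=
      isNoetherianRing_of_ringEquiv ℤ ULift.ringEquiv.symm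
    exact Algebra.FinitePresentation.of_finiteType.mp h5
  have h4 : IsAffineHom (Red.Gm S).hom :=
    MorphismProperty.pullback_snd (P := @IsAffineHom) _ _ h2
  exact ⟨MorphismProperty.pullback_snd (P := @Flat) _ _ h1, inferInstance,
    MorphismProperty.pullback_snd (P := @LocallyOfFinitePresentation) _ _ h3, inferInstance⟩

variable {N B : Scheme.{u}} (t : N ⟶ B)

/-- The additive group as a model of the additive group. -/
def mdlGa : Mdl t (Red.Ga N) :=
  have h1 : Smooth (Red.Ga B).hom := Groth.Agent.RedSub.H635.GaSm.smooth_ga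
  have h2 : IsAffineHom (Red.GaZ.{u}).hom := by
    change IsAffineHom (Spec.map _)
    infer_instance
  have h3 : IsAffineHom (Red.Ga B).hom := MorphismProperty.pullback_snd (P := @IsAffineHom) _ _ h2
  have h4 : Flat (Red.Ga B).hom := inferInstance
  have h5 : LocallyOfFinitePresentation (Red.Ga B).hom := inferInstance
  have h6 : IsSeparated (Red.Ga B).hom := inferInstance
  have h7 : QuasiCompact (Red.Ga B).hom := inferInstance
  let e : Grp.mk (Red.bc t (Red.Ga B)) ≅ Grp.mk (Red.Ga N) := Groth.Agent.Sga3B.DsBc.constIso t Red.GaZ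
  { X := Red.Ga B
    e := Groth.Agent.Sga3B.RedIso.und e
    mon := e.hom.hom.isMonHom_hom }

/-- The multiplicative group as a model of the multiplicative group. -/
def mdlGm : Mdl t (Red.Gm N) :=
  have h4 : Flat (Red.Gm B).hom := (props_gm B).1
  have h5 : LocallyOfFinitePresentation (Red.Gm B).hom := (props_gm B).2.2.1
  have h6 : IsSeparated (Red.Gm B).hom := (props_gm B).2.1
  have h7 : QuasiCompact (Red.Gm B).hom := (props_gm B).2.2.2
  let e : Grp.mk (Red.bc t (Red.Gm B)) ≅ Grp.mk (Red.Gm N) :=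
    Groth.Agent.Sga3B.DsBc.constIso t (Red.diag (ULift.{u} ℤ) ℤ)
  { X := Red.Gm B
    e := Groth.Agent.Sga3B.RedIso.und e
    mon := e.hom.hom.isMonHom_hom }

/-- The trivial group as a model of the trivial group. -/
def mdlOne : Mdl t (𝟙_ (Over N)) :=
  have h4 : Flat (𝟙_ (Over B)).hom := inferInstanceAs (Flat (𝟙 B))
  have h5 : LocallyOfFinitePresentation (𝟙_ (Over B)).hom := inferInstanceAs (LocallyOfFinitePresentation (𝟙 B))
  have h6 : IsSeparated (𝟙_ (Over B)).hom := inferInstanceAs (IsSeparated (𝟙 B))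
  have h7 : QuasiCompact (𝟙_ (Over B)).hom := inferInstanceAs (QuasiCompact (𝟙 B))
  { X := 𝟙_ (Over B)
    e := (Functor.Monoidal.εIso (Over.pullback t)).symm
    mon := ⟨toUnit_unique _ _, toUnit_unique _ _⟩ }

end Models

variable {K Ω : Type u} [Field K] [Field Ω] [Algebra K Ω]

variable (K) in
/-- `G` has a model over a finite subextension with trivial `H¹`. -/
def HasHV (G : Over (Spec (CommRingCat.of Ω))) [GrpObj G] [IsCommMonObj G] : Prop :=
  ∃ (i : (Idx K Ω)ᵒᵖ) (M : Mdl ((cone K Ω).π.app i) G), HV M.X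

/-- Properties of affine groups over a field. -/
theorem props (G : Over (Spec (CommRingCat.of Ω))) [IsAffine G.left] [LocallyOfFiniteType G.hom] :
    Flat G.hom ∧ IsSeparated G.hom ∧ LocallyOfFinitePresentation G.hom ∧ QuasiCompact G.hom := by
  have h1 : IsAffineHom G.hom := inferInstance
  refine ⟨?_, inferInstance, ?_, inferInstance⟩
  · infer_instance
  · infer_instance

/-- Existence of models. -/
theorem exists_mdl' [Algebra.IsAlgebraic K Ω] (G : Over (Spec (CommRingCat.of Ω))) [GrpObj G] [IsCommMonObj G]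
    [IsAffine G.left] [LocallyOfFiniteType G.hom] (i₀ : (Idx K Ω)ᵒᵖ) :
    ∃ (i : (Idx K Ω)ᵒᵖ) (_ : i ⟶ i₀), Nonempty (Mdl ((cone K Ω).π.app i) G) := by
  obtain ⟨h1, h2, h3, h4⟩ := props G
  exact exists_mdl (isLimit K Ω) G i₀

/-- Extensions of models. -/
theorem hv_of_exactAt {N B : Scheme.{u}} {t : N ⟶ B} [IsSchemeTheoreticallyDominant t] [QuasiCompact t]
    {G H L : Over N} [GrpObj G] [GrpObj H] [GrpObj L] {M : Mdl t G} {M' : Mdl t H}
    {M'' : Mdl t L} {u : G ⟶ H} {v : H ⟶ L} [IsMonHom u] [IsMonHom v] (h : ExactAt M M' M'' u v)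
    (hM : HV M.X) (hM'' : HV M''.X) : HV M'.X := by
  obtain ⟨u', v', hu, hv, hk, hfl, hs⟩ := h
  have h1 : IsMonHom u' := hu.isMonHom
  have h2 : IsMonHom v' := hv.isMonHom
  have c0 : v'.left ≫ M''.X.hom = M'.X.hom := Over.w v'
  have c1 : LocallyOfFinitePresentation v'.left := by
    have : LocallyOfFinitePresentation (v'.left ≫ M''.X.hom) := by rw [c0]; infer_instance
    exact Groth.Agent.Flat2E.Thick.locallyOfFinitePresentation_of_comp _ M''.X.hom
  exact HV.ext hk hM hM''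

variable (K Ω) in
theorem cls [Algebra.IsAlgebraic K Ω] : K775.AcDev.Cls (K := Ω) (fun G => HasHV K G) where
  triv := by
    obtain ⟨i₀⟩ : Nonempty (Idx K Ω)ᵒᵖ := inferInstance
    exact ⟨i₀, mdlOne _, HV.of_subsingleton fun T => ⟨fun a b => toUnit_unique a b⟩⟩
  ga := by
    obtain ⟨i₀⟩ : Nonempty (Idx K Ω)ᵒᵖ := inferInstance
    exact ⟨i₀, mdlGa _, hv_ga _⟩
  gm := by
    obtain ⟨i₀⟩ : Nonempty (Idx K Ω)ᵒᵖ := inferInstance
    exact ⟨i₀, mdlGm _, hv_gm _⟩
  ext := by
    rintro G₁ G₂ G₃ _ _ _ _ _ _ _ _ _ _ _ _ f g _ _ hk hfl hs ⟨i₁, M₁, h₁⟩ ⟨i₃, M₃, h₃⟩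
    obtain ⟨i₂, -, ⟨M₂⟩⟩ := exists_mdl' (K := K) G₂ i₁
    obtain ⟨k₁, a₁, a₂, -⟩ := IsCofilteredOrEmpty.cone_objs i₁ i₂
    obtain ⟨k₂, b₁, b₃, -⟩ := IsCofilteredOrEmpty.cone_objs k₁ i₃
    obtain ⟨j, c, h⟩ := exists_exact (isLimit K Ω) (M₁.mv (b₁ ≫ a₁)) (M₂.mv (b₁ ≫ a₂)) (M₃.mv b₃) f g hk hfl hs
    exact ⟨j, (M₂.mv (b₁ ≫ a₂)).mv c, hv_of_exactAt h ((h₁.bc _).bc _) ((h₃.bc _).bc _)⟩

theorem spec_comp {A B C : Type u} [CommRing A] [CommRing B] [CommRing C] (φ : B →+* A) (ψ : C →+* B) (χ : C →+* A)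
    (h : φ.comp ψ = χ) :
    Spec.map (CommRingCat.ofHom φ) ≫ Spec.map (CommRingCat.ofHom ψ) = Spec.map (CommRingCat.ofHom χ) := by
  rw [← Spec.map_comp, ← CommRingCat.ofHom_comp, h]

/-- **Structure over a finite subextension.** -/
theorem exists_stage [Algebra.IsAlgebraic K Ω] [IsAlgClosed Ω] (G : Over (Spec (CommRingCat.of K))) [GrpObj G]
    [IsCommMonObj G] [IsAffine G.left] [LocallyOfFiniteType G.hom] :
    ∃ (E : IntermediateField K Ω) (_ : FiniteDimensional K E) (N X F : Over (Spec (CommRingCat.of E)))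
      (_ : GrpObj N) (_ : IsCommMonObj N) (_ : GrpObj X) (_ : IsCommMonObj X) (_ : GrpObj F) (_ : IsCommMonObj F)
      (f : N ⟶ X) (g : X ⟶ F) (_ : IsMonHom f) (_ : IsMonHom g) (w : f ≫ g = 1)
      (e : X ≅ Red.bc (Spec.map (CommRingCat.ofHom (algebraMap K E))) G),
      IsMonHom e.hom ∧ (CGrpSh.seq Scheme.fppfPrecoverage f g w).ShortExact ∧ HV N ∧ IsFinite F.hom := by
  let GΩ : Over (Spec (CommRingCat.of Ω)) := Red.bc (Spec.map (CommRingCat.ofHom (algebraMap K Ω))) G
  have hGh : IsAffineHom G.hom := inferInstance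
  have ha : IsAffineHom GΩ.hom := MorphismProperty.pullback_snd (P := @IsAffineHom) _ _ hGh
  have ha' : IsAffine GΩ.left := isAffine_of_isAffineHom GΩ.hom
  have hft : LocallyOfFiniteType GΩ.hom :=
    MorphismProperty.pullback_snd (P := @LocallyOfFiniteType) _ _ ‹LocallyOfFiniteType G.hom›
  obtain ⟨N, F, _, _, _, _, i, q, hi, hq, a1, a2, a3, a4, a5, a6, i₁, M₁, h₁⟩ :=
    K775.AcDev.exists_seq (cls K Ω) GΩ
  have hFa : IsAffineHom F.hom := inferInstance
  have hFa' : IsAffine F.left := isAffine_of_isAffineHom F.hom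
  obtain ⟨i₃, c₁, ⟨M₃⟩⟩ := exists_mdl' (K := K) F i₁
  obtain ⟨i₄, c₃, hfin⟩ := exists_prop_hom (isLimit K Ω) K286.Desc.descendsLim_isFinite M₃ ‹IsFinite F.hom›
  obtain ⟨g1, g2, g3, g4⟩ := props G
  -- the model of `G`
  have hc : (cone K Ω).π.app i₄ ≫ Spec.map (CommRingCat.ofHom (algebraMap K i₄.unop.1)) =
      Spec.map (CommRingCat.ofHom (algebraMap K Ω)) :=
    spec_comp (algebraMap i₄.unop.1 Ω) (algebraMap K i₄.unop.1) (algebraMap K Ω) rfl
  let M₂ : Mdl ((cone K Ω).π.app i₄) GΩ :=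
    { X := Red.bc (Spec.map (CommRingCat.ofHom (algebraMap K i₄.unop.1))) G
      flat := K210.LimHom.flat_bc _ G
      lfp := K210.LimHom.lfp_bc _ G
      qc := K210.LimHom.qc_bc _ G
      e := ActBC.bcCompIso ((cone K Ω).π.app i₄) (Spec.map (CommRingCat.ofHom (algebraMap K i₄.unop.1))) G hc }
  obtain ⟨j, c, h⟩ := exists_exact (isLimit K Ω) (M₁.mv (c₃ ≫ c₁)) M₂ (M₃.mv c₃) i q a4 a5 a6
  obtain ⟨u', v', hu, hv, w, -, -, hS⟩ := exists_seq h
  refine ⟨j.unop.1, j.unop.2, _, _, _, _, _, _, _, _, _, u', v', hu, hv, w,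
    ActBC.bcCompIso ((D K Ω).map c) (Spec.map (CommRingCat.ofHom (algebraMap K i₄.unop.1))) G
      (spec_comp (IntermediateField.inclusion (leOfHom c.unop)).toRingHom (algebraMap K i₄.unop.1)
        (algebraMap K j.unop.1) rfl), ?_, hS,
    (h₁.bc _).bc _, ?_⟩
  · exact ActBC.bcCompIso_isMonHom (f := (D K Ω).map c) (g := Spec.map (CommRingCat.ofHom (algebraMap K i₄.unop.1)))
      (G := G) (spec_comp (IntermediateField.inclusion (leOfHom c.unop)).toRingHom (algebraMap K i₄.unop.1)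
        (algebraMap K j.unop.1) rfl)
  · exact MorphismProperty.pullback_snd (P := @IsFinite) _ _ hfin

end K775.HvLim
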