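import Groth.Agent.TateGlob.K620.MdlPts
import Groth.Agent.TateGlob.K620.MdlLim
import Groth.Agent.GaDual.K771.ZarH90
import Groth.Agent.GaDual.K771.FppfGa
import Groth.Agent.TateLoc.K810.PushH1
import Groth.Agent.Sga3B.DsBc
import Groth.Agent.Sga3B.RedIso

/-!
# Groups all of whose fibres have trivial `H¹` over all fields

`HV X`: `H¹(F, s^* X) = 0` for all fields `F` and all `s : Spec F ⟶ B`. Invariant under isomorphisms, stable under base
change and extensions, true for the trivial group, `𝔾_a`, `𝔾_m`.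
-/

set_option autoImplicit false
universe u
open CategoryTheory CategoryTheory.Limits MonoidalCategory CartesianMonoidalCategory MonObj GrpObj
  AlgebraicGeometry Opposite

noncomputable section

namespace K775.Hv

/-- `H¹` of all fibres over fields vanishes. -/
def HV {B : Scheme.{u}} (X : Over B) [GrpObj X] [IsCommMonObj X] : Prop :=
  ∀ (F : Type u) [Field F] (s : Spec (CommRingCat.of F) ⟶ B),
    Subsingleton (BigSite.H Scheme.fppfPrecoverage (Spec (CommRingCat.of F))
      (CGrpSh.pts Scheme.fppfPrecoverage (Red.bc s X)) 1)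

section basic

variable {B B' : Scheme.{u}}

theorem subsingleton_of_iso {S : Scheme.{u}} {X X' : Over S} [GrpObj X] [IsCommMonObj X] [GrpObj X'] [IsCommMonObj X']
    (e : X ≅ X') (he : IsMonHom e.hom) (n : ℕ)
    (h : Subsingleton (BigSite.H Scheme.fppfPrecoverage S (CGrpSh.pts Scheme.fppfPrecoverage X) n)) :
    Subsingleton (BigSite.H Scheme.fppfPrecoverage S (CGrpSh.pts Scheme.fppfPrecoverage X') n) :=
  (K809.Les.mpEquiv _ (K620.GMod.ptsIso Scheme.fppfPrecoverage e) n).symm.toEquiv.subsingleton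

theorem HV.iso {X X' : Over B} [GrpObj X] [IsCommMonObj X] [GrpObj X'] [IsCommMonObj X']
    (e : X ≅ X') (he : IsMonHom e.hom) (h : HV X) : HV X' := by
  intro F _ s
  have he' : IsMonHom ((Over.pullback s).mapIso e).hom :=
    inferInstanceAs (IsMonHom ((Over.pullback s).map e.hom))
  exact subsingleton_of_iso (X := Red.bc s X) (X' := Red.bc s X') ((Over.pullback s).mapIso e) he' 1 (h F s)

theorem HV.bc {X : Over B} [GrpObj X] [IsCommMonObj X] (b : B' ⟶ B) (h : HV X) : HV (Red.bc b X) := by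
  intro F _ s
  have he' : IsMonHom (ActBC.bcCompIso s b X rfl).symm.hom :=
    inferInstanceAs (IsMonHom (ActBC.bcCompIso s b X rfl).inv)
  exact subsingleton_of_iso (ActBC.bcCompIso s b X rfl).symm he' 1 (h F (s ≫ b))

theorem HV.ext {X Y Z : Over B} [GrpObj X] [IsCommMonObj X] [GrpObj Y] [IsCommMonObj Y]
    [GrpObj Z] [IsCommMonObj Z] {f : X ⟶ Y} {p : Y ⟶ Z} [IsMonHom f] [IsMonHom p] [Flat p.left]
    [Surjective p.left] [LocallyOfFinitePresentation p.left] (hk : AlgGrp.IsKernel f p) (hX : HV X) (hZ : HV Z) :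
    HV Y := by
  intro F _ s
  have hk' := Groth.Agent.Sga7.H760.KerBc.isKernel_bc s hk
  have hsq := Groth.Agent.Sga3.H515.GrpModel.isPullback_map_left s p
  have h1 : Flat ((Over.pullback s).map p).left := MorphismProperty.of_isPullback (P := @Flat) hsq ‹_›
  have h2 : Surjective ((Over.pullback s).map p).left := MorphismProperty.of_isPullback (P := @Surjective) hsq ‹_›
  have h3 : LocallyOfFinitePresentation ((Over.pullback s).map p).left :=
    MorphismProperty.of_isPullback (P := @LocallyOfFinitePresentation) hsq ‹_›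
  have hS := K620.HopfSeq.shortExact_of_isKernel ((Over.pullback s).map f) ((Over.pullback s).map p) hk' hk'.w
  exact K809.Les.subsingleton_mid _ hS (hX F s) (hZ F s)

/-- The trivial group. -/
theorem HV.of_subsingleton {X : Over B} [GrpObj X] [IsCommMonObj X]
    (h : ∀ T : Over B, Subsingleton (T ⟶ X)) : HV X := by
  intro F _ s
  have h1 : ∀ T : Over (Spec (CommRingCat.of F)), Subsingleton (T ⟶ Red.bc s X) := fun T =>
    ((Over.mapPullbackAdj s).homEquiv T X).symm.subsingleton
  have h2 : 𝟙 (CGrpSh.pts Scheme.fppfPrecoverage (Red.bc s X)) = 0 := by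
    apply Sheaf.hom_ext
    ext T x
    apply ULift.ext
    exact Additive.toMul.injective (Subsingleton.elim _ _)
  refine subsingleton_of_forall_eq 0 fun x => ?_
  have h3 := K809.Les.mp_id _ 1 x
  rw [← h3]
  have h4 : K809.Les.mp _ (𝟙 (CGrpSh.pts Scheme.fppfPrecoverage (Red.bc s X))) 1 x = 0 := by
    rw [h2, K809.Les.mp_zero]
  exact h4

end basic

section GaGm

/-- `𝔾_a`. -/
theorem hv_ga (B : Scheme.{u}) : HV (Red.Ga B) := by
  intro F _ s
  let e := Groth.Agent.Sga3B.RedIso.und (Groth.Agent.Sga3B.DsBc.constIso s Red.GaZ)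
  have he : IsMonHom e.hom := (Groth.Agent.Sga3B.DsBc.constIso s Red.GaZ).hom.hom.isMonHom_hom
  have he' : IsMonHom e.symm.hom := inferInstanceAs (IsMonHom e.inv)
  have h0 := K771.FppfGa.subsingleton (Spec (CommRingCat.of F)) 1 one_pos
  exact subsingleton_of_iso e.symm he' 1 h0

open Groth.Agent.Etdl.H432.Sec Groth.Agent.Etdl.H494 K771.RedExt in
/-- Hilbert 90. -/
theorem h1_gm (F : Type u) [Field F] :
    Subsingleton (BigSite.H Scheme.fppfPrecoverage (Spec (CommRingCat.of F))
      (CGrpSh.pts Scheme.fppfPrecoverage (Red.Gm (Spec (CommRingCat.of F)))) 1) := by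
  let X := Spec (CommRingCat.of F)
  let S : ShortComplex (EtFppf.AbF X) := ShortComplex.mk (Injective.ι (K771.Pts.Gm X))
    (cokernel.π (Injective.ι (K771.Pts.Gm X))) (cokernel.condition _)
  have hS : S.ShortExact := 
    { exact := ShortComplex.exact_cokernel _
      mono_f := inferInstanceAs (Mono (Injective.ι (K771.Pts.Gm X)))
      epi_g := inferInstanceAs (Epi (cokernel.π (Injective.ι (K771.Pts.Gm X)))) }
  have hI : Injective S.X₂ := inferInstanceAs (Injective (Injective.under (K771.Pts.Gm X)))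
  have h1 : Subsingleton (Sheaf.H.{u+1} S.X₂ 1) := by
    refine subsingleton_of_forall_eq 0 fun x => ?_
    exact Abelian.Ext.eq_zero_of_injective x
  refine K810.PushH1.H1_of_lift.{u + 1, u + 1, u, u + 1} (Over.mkIdTerminal (X := X)) hS h1 fun q => ?_
  have x : X := IsLocalRing.closedPoint F
  obtain ⟨U, hx, a, ha⟩ := K771.ZarH90.exists_zar_lift hS (Iso.refl (K771.Pts.Gm X)) (T := Over.mk (𝟙 X)) q x
  have hsub : Subsingleton X := inferInstanceAs (Subsingleton (PrimeSpectrum F))
  have hU : U = ⊤ := by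
    ext y
    have hy : y = x := hsub.elim y x
    rw [hy]
    exact ⟨fun _ => trivial, fun _ => hx⟩
  subst hU
  let s : Over.mk (𝟙 X) ⟶ opn (Over.mk (𝟙 X)) ⊤ := Over.homMk X.topIso.inv (by
    change X.topIso.inv ≫ (⊤ : X.Opens).ι ≫ 𝟙 X = 𝟙 X
    simp)
  have hs : s ≫ opnι (Over.mk (𝟙 X)) ⊤ = 𝟙 _ := by
    ext1
    change X.topIso.inv ≫ (⊤ : X.Opens).ι = 𝟙 X
    simp
  refine ⟨r S.X₂ s a, ?_⟩
  have e1 : m S.g _ (r S.X₂ s a) = r S.X₃ s (m S.g _ a) := m_r _ _ _
  have e2 : r S.X₃ s (m S.g _ a) = q := by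
    rw [ha, r_r, hs]
    exact r_id _ _
  exact e1.trans e2

/-- `𝔾_m`. -/
theorem hv_gm (B : Scheme.{u}) : HV (Red.Gm B) := by
  intro F _ s
  let e := Groth.Agent.Sga3B.RedIso.und (Groth.Agent.Sga3B.DsBc.constIso s (Red.diag (ULift.{u} ℤ) ℤ))
  have he : IsMonHom e.hom := (Groth.Agent.Sga3B.DsBc.constIso s (Red.diag (ULift.{u} ℤ) ℤ)).hom.hom.isMonHom_hom
  have he' : IsMonHom e.symm.hom := inferInstanceAs (IsMonHom e.inv)
  exact subsingleton_of_iso e.symm he' 1 (h1_gm F)

end GaGm

end K775.Hv
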